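import Cfsg.Agent.Lib.RankFourLinear.Main
import Cfsg.Agent.Lib.Coprime.Action
import Cfsg.Agent.Lib.OddOmega.Basic
import Cfsg.Agent.Lib.Classical.Card
import Cfsg.Agent.Lib.PSolvable.Constrained
import Cfsg.Agent.Lib.Fitting.Basic
import Cfsg.Agent.Lib.Classical.Transvection

/-!
From a quotient of order 168 to the structure of the radical.
-/

set_option autoImplicit false
set_option linter.style.haveILetI false

namespace CfsgLib.RankFourLinear

open scoped commutatorElement

variable {X : Type*} [Group X] [Finite X] {Q : Subgroup X}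

theorem cfg_of_quotient [Q.Normal] (hQ2 : IsPGroup 2 Q) (hC : Subgroup.centralizer (Q : Set X) ≤ Q)
    (h4 : Cfsg.SectionalPRankLE 2 4 X) (hs : IsSimpleGroup (X ⧸ Q)) (hc : Nat.card (X ⧸ Q) = 168) : Cfg Q := by
  have hidx : Q.index = 168 := by rw [Subgroup.index_eq_card]; exact hc
  refine ⟨⟨inferInstance, hidx, fun N hN hQN => ?_⟩, hQ2, h4, ?_⟩
  · rcases (hN.map (QuotientGroup.mk' Q) (QuotientGroup.mk'_surjective Q)).eq_bot_or_eq_top with e | e
    · left
      rw [Subgroup.map_eq_bot_iff, QuotientGroup.ker_mk'] at e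
      exact le_antisymm e hQN
    · right
      have h1 := Subgroup.comap_map_eq (QuotientGroup.mk' Q) N
      rw [e, Subgroup.comap_top, QuotientGroup.ker_mk', sup_eq_left.2 hQN] at h1
      exact h1.symm
  by_contra hcon
  push Not at hcon
  haveI : Fact (Nat.Prime 7) := ⟨by norm_num⟩
  haveI : Fact (Nat.Prime 2) := ⟨Nat.prime_two⟩
  obtain ⟨g, hg⟩ := exists_prime_orderOf_dvd_card' (G := X) 7
    (dvd_trans (by rw [hidx]; norm_num) Q.index_dvd_card)
  let φ : MulAut Q := MulAut.conjNormal g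
  have hφ7 : orderOf φ ∣ 7 := hg ▸ orderOf_map_dvd (MulAut.conjNormal (H := Q)) g
  have hcop : (orderOf φ).Coprime (Nat.card (frattini Q)) := by
    obtain ⟨k, hk⟩ := (hQ2.to_subgroup (frattini Q)).exists_card_eq
    rw [hk]
    exact Nat.Coprime.coprime_dvd_left hφ7 (Nat.Coprime.pow_right k (by norm_num))
  have hfr : ∀ w : Q, (w : X) ∈ sqSub Q → w ∈ frattini Q := by
    have hle : sqSub Q ≤ (frattini Q).map Q.subtype := by
      rw [sqSub, Subgroup.closure_le]
      rintro _ ⟨x, hx, rfl⟩
      exact ⟨⟨x, hx⟩ ^ 2, CfsgLib.OddOmega.pow_mem_frattini hQ2 _, by simp [pow_two]⟩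
    intro w hw
    obtain ⟨v, hv, e⟩ := hle hw
    obtain rfl : v = w := Subtype.ext e
    exact hv
  have hφ : φ = 1 := CfsgLib.Coprime.mulAut_eq_one_of_frattini φ hcop fun k => hfr _ (by
    have h1 := Subgroup.Normal.conj_mem inferInstance _ (hcon g k k.2) (k : X)⁻¹
    have e : (k : X)⁻¹ * ⁅g, (k : X)⁆ * (k : X)⁻¹⁻¹ = ((k⁻¹ * φ k : Q) : X) := by
      show _ = (k : X)⁻¹ * (g * k * g⁻¹)
      simp only [commutatorElement_def]; group
    rwa [e] at h1)
  have hgQ : g ∈ Q := hC (Subgroup.mem_centralizer_iff.2 fun q hq => by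
    have e : g * q * g⁻¹ = q := congrArg (fun ψ : MulAut Q => ((ψ ⟨q, hq⟩ : Q) : X)) hφ
    exact (mul_inv_eq_iff_eq_mul.1 e).symm)
  obtain ⟨k, hk⟩ := hQ2 ⟨g, hgQ⟩
  have h7 : orderOf g ∣ 2 ^ k := orderOf_dvd_of_pow_eq_one (congrArg Subtype.val hk)
  rw [hg] at h7
  exact absurd ((Nat.prime_dvd_prime_iff_eq (by norm_num) Nat.prime_two).1
    ((Fact.out : Nat.Prime 7).dvd_of_dvd_pow h7)) (by norm_num)

/-- In a constrained group without odd core the radical contains its centralizer. -/
theorem centralizer_pCore_le (hc : Cfsg.IsPConstrained 2 X) (hO : Cfsg.oddCore X = ⊥) :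
    Subgroup.centralizer (Cfsg.pCore 2 X : Set X) ≤ Cfsg.pCore 2 X := by
  haveI := CfsgLib.Fitting.pCore_normal (G := X) 2
  haveI := CfsgLib.Transfer.pPrimeCore_normal 2 X
  have hc' := CfsgLib.PSolvable.isPConstrained_iff.mp hc
  let e : X ≃* X ⧸ Cfsg.pPrimeCore 2 X :=
    ((QuotientGroup.quotientMulEquivOfEq hO).trans QuotientGroup.quotientBot).symm
  haveI := CfsgLib.Fitting.pCore_normal (G := X ⧸ Cfsg.pPrimeCore 2 X) 2
  have hle : (Cfsg.pCore 2 (X ⧸ Cfsg.pPrimeCore 2 X)).comap e.toMonoidHom ≤ Cfsg.pCore 2 X :=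
    CfsgLib.Fitting.le_pCore (Subgroup.Normal.comap inferInstance e.toMonoidHom)
      ((CfsgLib.Fitting.pCore_isPGroup 2).comap_of_injective _ e.injective)
  intro x hx
  refine hle (hc' (Subgroup.mem_centralizer_iff.mpr fun y hy => ?_))
  obtain ⟨u, rfl⟩ := e.surjective y
  show e u * e x = e x * e u
  rw [← map_mul, ← map_mul, Subgroup.mem_centralizer_iff.mp hx u (hle hy)]

/-- A commutative group of exponent two and order eight. -/
theorem nonempty_eight {N : Type*} [CommGroup N] (h2 : ∀ n : N, n ^ 2 = 1) (hc : Nat.card N = 8) :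
    Nonempty (N ≃* (Fin 3 → Multiplicative (ZMod 2))) := by
  haveI : Finite N := Nat.finite_of_card_ne_zero (by omega)
  letI : Module (ZMod 2) (Additive N) := AddCommGroup.zmodModule fun x => Additive.toMul.injective
    (by simpa using h2 x.toMul)
  haveI : Fintype N := Fintype.ofFinite N
  have hr : Module.finrank (ZMod 2) (Additive N) = 3 := by
    have h := Module.card_eq_pow_finrank (K := ZMod 2) (V := Additive N)
    rw [ZMod.card, ← Nat.card_eq_fintype_card, Nat.card_congr Additive.toMul, hc,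
      show (8 : ℕ) = 2 ^ 3 by norm_num] at h
    exact (Nat.pow_right_injective (le_refl 2) h).symm
  let e := (Module.finBasisOfFinrankEq (ZMod 2) (Additive N) hr).equivFun.toAddEquiv
  exact ⟨{ toFun := fun n i => Multiplicative.ofAdd (e (Additive.ofMul n) i)
           invFun := fun v => (e.symm fun i => (v i).toAdd).toMul
           left_inv := fun n => by simp
           right_inv := fun v => funext fun i => by simp
           map_mul' := fun a b => funext fun i => by simp }⟩

omit [Finite X] in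
/-- The abelian radical of order 32. -/
theorem nonempty_four_eight (hab : ∀ x ∈ Q, ∀ w ∈ Q, x * w = w * x) (hc : Nat.card Q = 32) {x : X}
    (hx : x ∈ Q) (hx2 : x * x ≠ 1) (hx4 : x * x * (x * x) = 1)
    (hall : ∀ w ∈ Q, w * w = 1 ∨ w * w = x * x) :
    Nonempty (Q ≃* Multiplicative (ZMod 4) × (Fin 3 → Multiplicative (ZMod 2))) := by
  classical
  haveI : Finite Q := Nat.finite_of_card_ne_zero (by omega)
  letI : CommGroup Q :=
    { (inferInstance : Group Q) with mul_comm := fun a b => Subtype.ext (hab a a.2 b b.2) }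
  set x' : Q := ⟨x, hx⟩ with hx'
  set z : Q := x' * x' with hz
  have hz1 : z ≠ 1 := fun h => hx2 (congrArg Subtype.val h)
  have hzz : z * z = 1 := Subtype.ext hx4
  have hall' : ∀ w : Q, w * w = 1 ∨ w * w = z := fun w =>
    (hall w w.2).imp (fun h => Subtype.ext h) fun h => Subtype.ext h
  let s : Q →* Q := MonoidHom.mk' (fun w => w * w) fun a b => mul_mul_mul_comm a b a b
  have hker : Nat.card s.ker * 2 = 32 := by
    have h1 := s.ker.card_mul_index
    rw [Subgroup.index_ker, hc] at h1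
    have h2 : Nat.card s.range = 2 := by
      have e : s.range = Subgroup.zpowers z := le_antisymm (by
        rintro _ ⟨w, rfl⟩
        rcases hall' w with e | e
        · show w * w ∈ _; rw [e]; exact one_mem _
        · show w * w ∈ _; rw [e]; exact Subgroup.mem_zpowers z) (Subgroup.zpowers_le.2 ⟨x', rfl⟩)
      rw [e, Nat.card_zpowers]
      exact orderOf_eq_prime (by rw [pow_two, hzz]) hz1
    rw [h2] at h1; exact h1
  obtain ⟨N, ⟨hNk, hzN⟩, hmax⟩ := (Set.toFinite {N : Subgroup Q | N ≤ s.ker ∧ z ∉ N}).exists_maximal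
    ⟨⊥, bot_le, fun h => hz1 (Subgroup.mem_bot.1 h)⟩
  have hstep : ∀ w ∈ s.ker, w ∈ N ∨ w * z ∈ N := fun w hw => by
    by_contra hcon
    push Not at hcon
    have hw2 : w * w = 1 := hw
    refine hcon.1 (hmax (y := N ⊔ Subgroup.zpowers w)
      ⟨sup_le hNk (Subgroup.zpowers_le.2 hw), fun h => ?_⟩ le_sup_left
      (Subgroup.mem_sup_right (Subgroup.mem_zpowers w)))
    obtain ⟨n, hn, v, hv, e⟩ := Subgroup.mem_sup.1 h
    obtain ⟨i, rfl⟩ := Subgroup.mem_zpowers_iff.1 hv
    rcases Int.even_or_odd' i with ⟨j, rfl | rfl⟩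
    · rw [zpow_mul, show w ^ (2 : ℤ) = 1 by rw [zpow_two, hw2], one_zpow, mul_one] at e
      exact hzN (e ▸ hn)
    · rw [zpow_add_one, zpow_mul, show w ^ (2 : ℤ) = 1 by rw [zpow_two, hw2], one_zpow, one_mul] at e
      refine hcon.2 ?_
      rw [← e, ← mul_assoc, mul_comm w n, mul_assoc, hw2, mul_one]
      exact hn
  have hzk : z ∈ s.ker := hzz
  have hN8 : Nat.card N = 8 := by
    let f : Bool × N → s.ker := fun p => ⟨(if p.1 then z else 1) * p.2, mul_mem (by split <;> [exact hzk; exact one_mem _]) (hNk p.2.2)⟩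
    have hbij : Function.Bijective f := by
      constructor
      · rintro ⟨i, a⟩ ⟨j, b⟩ e
        have e : (if i then z else 1) * (a : Q) = (if j then z else 1) * b := congrArg Subtype.val e
        cases i <;> cases j <;> simp only [Bool.false_eq_true, if_false, if_true, one_mul] at e
        · exact Prod.ext rfl (Subtype.ext e)
        · exact absurd (by rw [eq_mul_inv_of_mul_eq e.symm]; exact mul_mem a.2 (inv_mem b.2)) hzN
        · exact absurd (by rw [eq_mul_inv_of_mul_eq e]; exact mul_mem b.2 (inv_mem a.2)) hzN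
        · exact Prod.ext rfl (Subtype.ext (mul_left_cancel e))
      · rintro ⟨w, hw⟩
        rcases hstep w hw with h | h
        · exact ⟨(false, ⟨w, h⟩), Subtype.ext (by simp [f])⟩
        · exact ⟨(true, ⟨w * z, h⟩), Subtype.ext (by
            show z * (w * z) = w
            rw [mul_comm w z, ← mul_assoc, hzz, one_mul])⟩
    have := Nat.card_eq_of_bijective f hbij
    rw [Nat.card_prod, Nat.card_eq_fintype_card (α := Bool), Fintype.card_bool] at this
    omega
  obtain ⟨eN⟩ := nonempty_eight (N := N) (fun n => Subtype.ext (by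
    show (n : Q) ^ 2 = 1; rw [pow_two]; exact hNk n.2)) hN8
  have hx4' : orderOf x' = 4 := by
    refine orderOf_eq_prime_pow (p := 2) (n := 1) ?_ ?_
    · rw [pow_one, pow_two]; exact hz1
    · rw [show (2 : ℕ) ^ (1 + 1) = 2 * 2 by norm_num, pow_mul, pow_two, pow_two]; exact hzz
  let φ : Subgroup.zpowers x' × N →* Q :=
    MonoidHom.coprod (Subgroup.zpowers x').subtype N.subtype
  have hφi : Function.Injective φ := by
    refine (injective_iff_map_eq_one φ).2 ?_
    rintro ⟨⟨v, hv⟩, n, hn⟩ e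
    have e : v * n = 1 := e
    have hvN : v ∈ N := by rw [eq_inv_of_mul_eq_one_left e]; exact inv_mem hn
    obtain ⟨i, hi⟩ := (mem_zpowers_iff_mem_range_orderOf).1 hv |> Finset.mem_image.1
    rw [hx4', Finset.mem_range] at hi
    obtain ⟨hi4, rfl⟩ := hi
    have h2 : (x' ^ i) * (x' ^ i) = 1 := hNk hvN
    have hi0 : i = 0 ∨ i = 2 := by
      have h3 : orderOf x' ∣ i + i := orderOf_dvd_of_pow_eq_one (by rw [pow_add, h2])
      rw [hx4'] at h3
      omega
    rcases hi0 with rfl | rfl
    · simp only [pow_zero, one_mul] at e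
      exact Prod.ext (Subtype.ext (pow_zero x')) (Subtype.ext e)
    · exact absurd (by rwa [pow_two] at hvN) hzN
  have hφb : Function.Bijective φ := (Nat.bijective_iff_injective_and_card φ).2 ⟨hφi, by
    rw [Nat.card_prod, Nat.card_zpowers, hx4', hN8, hc]⟩
  let eC : Multiplicative (ZMod 4) ≃* Subgroup.zpowers x' := mulEquivOfCyclicCardEq (by
    rw [Nat.card_zpowers, hx4']; simp)
  exact ⟨(MulEquiv.ofBijective φ hφb).symm.trans (eC.symm.prodCongr eN)⟩

/-- Simplicity and order of `PSL₃(2)`. -/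
theorem psl_three_two {F : Type*} [Field F] [Fintype F] (hF : Fintype.card F = 2) :
    IsSimpleGroup (Matrix.ProjectiveSpecialLinearGroup (Fin 3) F) ∧
      Nat.card (Matrix.ProjectiveSpecialLinearGroup (Fin 3) F) = 168 := by
  refine ⟨CfsgLib.Classical.isSimpleGroup_PSL (Or.inl (by simp)), ?_⟩
  have h1 := CfsgLib.Classical.sub_one_mul_card_SL (F := F) (n := 3) (by norm_num)
  rw [CfsgLib.Classical.card_SL_eq_gcd_mul_card_PSL, Nat.card_eq_fintype_card (α := F), hF] at h1
  simp [-Nat.card_eq_fintype_card, Fin.prod_univ_three] at h1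
  omega

end CfsgLib.RankFourLinear
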