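import Cfsg.Agent.Lib.RankFourLinear.Cyclic
import Cfsg.Agent.Lib.TwoRank.DEightWreath

/-!
An elementary section of order thirty-two from three conjugate lifts of transvections.
-/

set_option autoImplicit false
set_option linter.style.haveILetI false

namespace CfsgLib.RankFourLinear

open Matrix
open scoped IsMulCommutative

variable {X : Type*} [Group X]

/-- The lift `a` of a transvection and an element `y` of order three. -/
structure Lifts (Q : Subgroup X) (a y : X) : Prop where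
  comm : ∀ u ∈ Q, ∀ w ∈ Q, u * w = w * u
  y3 : y ^ 3 = 1
  sq : a * a ∈ Q
  prod : a * (y * a * y⁻¹) * (y * y * a * (y * y)⁻¹) ∈ Q

/-- Conjugation on an abelian normal subgroup. -/
noncomputable def conjEnd (Q : Subgroup X) [Q.Normal] [IsMulCommutative Q] (g : X) :
    Additive Q →+ Additive Q :=
  MonoidHom.toAdditive (MulAut.conjNormal g : MulAut Q).toMonoidHom

section

variable (Q : Subgroup X) [Q.Normal] [IsMulCommutative Q]

theorem conjEnd_val (g : X) (w : Additive Q) :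
    ((Additive.toMul (conjEnd Q g w) : Q) : X) = g * (Additive.toMul w : Q) * g⁻¹ := rfl

theorem conjEnd_mul (g k : X) (w : Additive Q) : conjEnd Q (g * k) w = conjEnd Q g (conjEnd Q k w) := by
  apply Additive.toMul.injective
  apply Subtype.ext
  simp only [conjEnd_val]
  group

theorem conjEnd_mem {g : X} (hg : g ∈ Q) (w : Additive Q) : conjEnd Q g w = w := by
  apply Additive.toMul.injective
  apply Subtype.ext
  have h : g * ((Additive.toMul w : Q) : X) = ((Additive.toMul w : Q) : X) * g :=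
    congrArg Subtype.val (IsMulCommutative.is_comm.comm (⟨g, hg⟩ : Q) (Additive.toMul w))
  rw [conjEnd_val, h, mul_inv_cancel_right]

theorem conjEnd_congr {g k : X} (h : g * k⁻¹ ∈ Q) (w : Additive Q) : conjEnd Q g w = conjEnd Q k w := by
  rw [show g = (g * k⁻¹) * k by group, conjEnd_mul, conjEnd_mem Q h]

end

namespace Lifts

theorem y3' {Q : Subgroup X} {a y : X} (L : Lifts Q a y) : y * y * y = 1 := by
  rw [← L.y3, pow_succ, pow_two]

variable {Q : Subgroup X} {a y : X} [Q.Normal] [IsMulCommutative Q]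

theorem image (L : Lifts Q a y) :
    let π := QuotientGroup.mk' Q
    π a * π a = 1 ∧ π a * π (y * a * y⁻¹) * π (y * y * a * (y * y)⁻¹) = 1 ∧
      π (y * a * y⁻¹) * π (y * a * y⁻¹) = 1 ∧
        π (y * y * a * (y * y)⁻¹) * π (y * y * a * (y * y)⁻¹) = 1 := by
  intro π
  have h1 : π a * π a = 1 := by rw [← map_mul]; exact (QuotientGroup.eq_one_iff _).2 L.sq
  refine ⟨h1, by rw [← map_mul, ← map_mul]; exact (QuotientGroup.eq_one_iff _).2 L.prod, ?_, ?_⟩
  · simp only [map_mul, map_inv]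
    calc π y * π a * (π y)⁻¹ * (π y * π a * (π y)⁻¹) = π y * (π a * π a) * (π y)⁻¹ := by group
      _ = 1 := by rw [h1, mul_one, mul_inv_cancel]
  · simp only [map_mul, map_inv]
    calc π y * π y * π a * (π y * π y)⁻¹ * (π y * π y * π a * (π y * π y)⁻¹)
        = π y * π y * (π a * π a) * (π y * π y)⁻¹ := by group
      _ = 1 := by rw [h1, mul_one, mul_inv_cancel]

theorem act (L : Lifts Q a y) : Act (conjEnd Q a) (conjEnd Q y) := by
  refine ⟨fun w => by rw [← conjEnd_mul, conjEnd_mem Q L.sq], fun w => ?_, fun w => ?_⟩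
  · rw [← conjEnd_mul, ← conjEnd_mul]
    exact conjEnd_mem Q (by rw [L.y3']; exact one_mem Q) w
  · simp only [← conjEnd_mul]
    refine conjEnd_congr Q ?_ w
    obtain ⟨-, h2, -, h4⟩ := L.image
    set π := QuotientGroup.mk' Q with hπ
    refine (QuotientGroup.eq_one_iff _).1 ?_
    show π _ = 1
    have hy3 : π y * π y * π y = 1 := by
      rw [← map_mul, ← map_mul, L.y3', map_one]
    simp only [map_mul, map_inv] at h2 h4 ⊢
    have e1 : (π y * π y)⁻¹ = π y := inv_eq_of_mul_eq_one_right hy3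
    have e2 : (π y)⁻¹ = π y * π y := inv_eq_of_mul_eq_one_right (by rw [← mul_assoc]; exact hy3)
    rw [e1] at h2 h4
    rw [e2] at h2
    have e3 : π a * π y * π a * π y * π y = π y * π y * π a * π y := by
      calc π a * π y * π a * π y * π y
          = π a * π y * π a * π y * π y * ((π y * π y * π a * π y) * (π y * π y * π a * π y)) := by
            rw [h4, mul_one]
        _ = π a * (π y * π a * (π y * π y)) * (π y * π y * π a * π y) * (π y * π y * π a * π y) := by
            group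
        _ = π y * π y * π a * π y := by rw [h2, one_mul]
    have e4 : π y * π y * π a * π y * (π a * (π y * (π a * (π y * π y))))⁻¹ = 1 := by
      rw [mul_inv_eq_one, ← e3]; group
    convert e4 using 1
    group

theorem conj_move (L : Lifts Q a y) {x : X} (hx : x ∈ Q) : Lifts Q (x * a) y := by
  obtain ⟨h1, h2, -, -⟩ := L.image
  set π := QuotientGroup.mk' Q with hπ
  have hx1 : π x = 1 := (QuotientGroup.eq_one_iff _).2 hx
  refine ⟨L.comm, L.y3, ?_, ?_⟩
  · refine (QuotientGroup.eq_one_iff _).1 ?_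
    show π _ = 1
    simp only [map_mul, hx1, one_mul, h1]
  · refine (QuotientGroup.eq_one_iff _).1 ?_
    show π _ = 1
    simp only [map_mul, map_inv] at h2 ⊢
    simp only [hx1, one_mul, h2]

theorem commutator_mem (L : Lifts Q a y) :
    (y * a * y⁻¹) * (y * y * a * (y * y)⁻¹) * (y * a * y⁻¹)⁻¹ * (y * y * a * (y * y)⁻¹)⁻¹ ∈ Q := by
  obtain ⟨h1, h2, h3, h4⟩ := L.image
  set π := QuotientGroup.mk' Q with hπ
  refine (QuotientGroup.eq_one_iff _).1 ?_
  show π _ = 1
  rw [map_mul, map_mul, map_mul, map_inv π, map_inv π]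
  set b := π (y * a * y⁻¹)
  set c := π (y * y * a * (y * y)⁻¹)
  have hbc : b * c = π a := by
    calc b * c = (π a * π a) * (b * c) := by rw [h1, one_mul]
      _ = π a * (π a * b * c) := by group
      _ = π a := by rw [h2, mul_one]
  rw [inv_eq_of_mul_eq_one_right h3, inv_eq_of_mul_eq_one_right h4, hbc, mul_assoc, hbc, h1]

/-- The system of equations attached to a lift. -/
def Sys (Q : Subgroup X) (a y : X) (σ q d : Additive Q) : Prop :=
  ∃ a', Lifts Q a' y ∧ a' * a⁻¹ ∈ Q ∧ ((Additive.toMul σ : Q) : X) = a' * a' ∧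
    ((Additive.toMul q : Q) : X) = a' * (y * a' * y⁻¹) * (y * y * a' * (y * y)⁻¹) ∧
    ((Additive.toMul d : Q) : X) = (y * a' * y⁻¹) * (y * y * a' * (y * y)⁻¹) * (y * a' * y⁻¹)⁻¹ *
      (y * y * a' * (y * y)⁻¹)⁻¹

theorem sys_exists (L : Lifts Q a y) : ∃ σ q d, Sys Q a y σ q d :=
  ⟨Additive.ofMul ⟨_, L.sq⟩, Additive.ofMul ⟨_, L.prod⟩, Additive.ofMul ⟨_, L.commutator_mem⟩,
    a, L, by rw [mul_inv_cancel]; exact one_mem Q, rfl, rfl, rfl⟩

theorem sys_move {σ q d : Additive Q} (h : Sys Q a y σ q d) (w : Additive Q) :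
    ∃ q' d', Sys Q a y (σ + w + conjEnd Q a w) q' d' := by
  obtain ⟨a', L, ha, hs, -, -⟩ := h
  set x : X := ((Additive.toMul w : Q) : X) with hx
  have hxQ : x ∈ Q := (Additive.toMul w).2
  have L' := L.conj_move hxQ
  refine ⟨Additive.ofMul ⟨_, L'.prod⟩, Additive.ofMul ⟨_, L'.commutator_mem⟩, x * a', L', ?_, ?_, rfl, rfl⟩
  · rw [mul_assoc]; exact mul_mem hxQ ha
  · rw [← conjEnd_congr Q ha w]
    show ((Additive.toMul σ : Q) : X) * x * (a' * x * a'⁻¹) = _
    rw [hs]
    have hm : a' * x * a'⁻¹ ∈ Q := Subgroup.Normal.conj_mem inferInstance x hxQ a'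
    rw [mul_assoc (a' * a'), L.comm _ L.sq _ (mul_mem hxQ hm)]
    group

theorem sys_eqs {σ q d : Additive Q} (h : Sys Q a y σ q d) :
    Eqs (conjEnd Q a) (conjEnd Q y) σ q d := by
  obtain ⟨a', L, ha, hs, hq, hd⟩ := h
  have hA : conjEnd Q a' = conjEnd Q a := AddMonoidHom.ext fun w => conjEnd_congr Q ha w
  rw [← hA]
  set b := y * a' * y⁻¹ with hb
  set c := y * y * a' * (y * y)⁻¹ with hc
  obtain ⟨hp1, hp2, hp3, hp4⟩ := L.image
  -- the conjugates
  have hB : ∀ w, opB (conjEnd Q a') (conjEnd Q y) w = conjEnd Q b w := fun w => by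
    simp only [opB, ← conjEnd_mul]
    have e : y * (a' * (y * y)) = b * (y * y * y) := by rw [hb]; group
    rw [e, L.y3', mul_one]
  have hC : ∀ w, opC (conjEnd Q a') (conjEnd Q y) w = conjEnd Q c w := fun w => by
    rw [opC, hB, ← conjEnd_mul]
    refine conjEnd_congr Q ((QuotientGroup.eq_one_iff _).1 ?_) w
    show QuotientGroup.mk' Q _ = 1
    rw [map_mul, map_inv, map_mul]
    set π := QuotientGroup.mk' Q
    rw [inv_eq_of_mul_eq_one_right hp4]
    exact hp2
  have hTσ : ((Additive.toMul (conjEnd Q y σ) : Q) : X) = b * b := by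
    rw [conjEnd_val, show ((Additive.toMul σ : Q) : X) = a' * a' from hs, hb]; group
  have hTTσ : ((Additive.toMul (conjEnd Q y (conjEnd Q y σ)) : Q) : X) = c * c := by
    rw [conjEnd_val, hTσ, hb, hc]; group
  refine ⟨?_, ?_, ?_, ?_⟩
  · apply Additive.toMul.injective
    apply Subtype.ext
    rw [conjEnd_val, hs]; group
  · apply Additive.toMul.injective
    apply Subtype.ext
    rw [conjEnd_val, conjEnd_val]
    have e1 : y * (a' * b * c) * y⁻¹ = a'⁻¹ * (a' * b * c) * a' := by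
      have e : y * (a' * b * c) * y⁻¹ = b * c * ((y * y * y) * a' * (y * y * y)⁻¹) := by
        rw [hb, hc]; group
      rw [e, L.y3']; group
    rw [hq, e1]
    have hqQ : a' * b * c ∈ Q := L.prod
    calc a'⁻¹ * (a' * b * c) * a' = a'⁻¹ * ((a' * b * c) * (a' * a')) * a'⁻¹ := by group
      _ = a'⁻¹ * ((a' * a') * (a' * b * c)) * a'⁻¹ := by rw [L.comm _ hqQ _ L.sq]
      _ = a' * (a' * b * c) * a'⁻¹ := by group
  · rw [hC]
    apply Additive.toMul.injective
    apply Subtype.ext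
    show ((Additive.toMul d : Q) : X) * (c * ((Additive.toMul (conjEnd Q y σ) : Q) : X) * c⁻¹) *
      ((Additive.toMul (conjEnd Q y (conjEnd Q y σ)) : Q) : X) =
      ((Additive.toMul (conjEnd Q a' q) : Q) : X) * ((Additive.toMul q : Q) : X) / ((Additive.toMul σ : Q) : X)
    rw [hTσ, hTTσ, conjEnd_val, hd, hq]
    have hqQ : a' * b * c ∈ Q := L.prod
    have hm : a' * (a' * b * c) * a'⁻¹ * (a' * b * c) ∈ Q :=
      mul_mem (Subgroup.Normal.conj_mem inferInstance _ hqQ a') hqQ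
    calc b * c * b⁻¹ * c⁻¹ * (c * (b * b) * c⁻¹) * (c * c)
        = (a' * a')⁻¹ * (a' * (a' * b * c) * a'⁻¹ * (a' * b * c)) := by group
      _ = a' * (a' * b * c) * a'⁻¹ * (a' * b * c) * (a' * a')⁻¹ := L.comm _ (inv_mem L.sq) _ hm
      _ = _ := by rw [div_eq_mul_inv, ← hs]
  · rw [hB, hC]
    apply Additive.toMul.injective
    apply Subtype.ext
    show b * ((Additive.toMul d : Q) : X) * b⁻¹ * ((Additive.toMul d : Q) : X) =
      ((Additive.toMul (conjEnd Q y σ) : Q) : X) / (c * ((Additive.toMul (conjEnd Q y σ) : Q) : X) * c⁻¹)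
    rw [hd, hTσ, div_eq_mul_inv]
    group

variable [Finite X]

/-- The section. -/
theorem not_good (L : Lifts Q a y) (haQ : a ∉ Q) (hr : Cfsg.SectionalPRankLE 2 4 X)
    {σ q d : Additive Q} {K U : AddSubgroup (Additive Q)} (h : Sys Q a y σ q d)
    (hG : Good (conjEnd Q a) (conjEnd Q y) σ d K U) : False := by
  classical
  obtain ⟨a', L', ha, hs, hq, hd⟩ := h
  obtain ⟨hKU, hTσ, hTTσ, hdK, hU, hcard⟩ := hG
  set b := y * a' * y⁻¹ with hb
  set c := y * y * a' * (y * y)⁻¹ with hc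
  obtain ⟨hp1, hp2, hp3, hp4⟩ := L'.image
  set π := QuotientGroup.mk' Q with hπ
  have haQ' : π a' ≠ 1 := fun e => haQ (by
    have := mul_mem (inv_mem ha) ((QuotientGroup.eq_one_iff _).1 e)
    rwa [_root_.mul_inv_rev, inv_inv, inv_mul_cancel_right] at this)
  have hbQ : π b ≠ 1 := fun e => haQ' (by
    rw [hb, map_mul, map_mul, map_inv, mul_inv_eq_one] at e
    exact mul_eq_left.1 e)
  have hcQ : π c ≠ 1 := fun e => haQ' (by
    rw [hc, map_mul, map_mul _ _ a', map_inv, mul_inv_eq_one] at e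
    exact mul_eq_left.1 e)
  have hbc : π b ≠ π c := fun e => haQ' (by
    calc π a' = π a' * (π b * π b) := by rw [hp3, mul_one]
      _ = π a' * π b * π c := by rw [← e, mul_assoc]
      _ = 1 := hp2)
  -- translate
  let val : Additive Q → X := fun w => ((Additive.toMul w : Q) : X)
  let Kx : Subgroup X :=
    { carrier := {g | ∃ w ∈ K, val w = g}
      one_mem' := ⟨0, K.zero_mem, rfl⟩
      mul_mem' := by rintro _ _ ⟨u, hu, rfl⟩ ⟨w, hw, rfl⟩; exact ⟨u + w, K.add_mem hu hw, rfl⟩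
      inv_mem' := by rintro _ ⟨u, hu, rfl⟩; exact ⟨-u, K.neg_mem hu, rfl⟩ }
  have hvb : ∀ w, val (opB (conjEnd Q a) (conjEnd Q y) w) = b * val w * b⁻¹ := fun w => by
    simp only [opB, ← conjEnd_congr Q ha, ← conjEnd_mul]
    show y * (a' * (y * y)) * val w * (y * (a' * (y * y)))⁻¹ = _
    rw [show y * (a' * (y * y)) = b * (y * y * y) by rw [hb]; group, L'.y3', mul_one]
  have hvc : ∀ w, val (opC (conjEnd Q a) (conjEnd Q y) w) = c * val w * c⁻¹ := fun w => by
    have e : conjEnd Q c w = opC (conjEnd Q a) (conjEnd Q y) w := by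
      rw [opC, ← conjEnd_congr Q ha]
      have hB : opB (conjEnd Q a) (conjEnd Q y) w = conjEnd Q b w := by
        apply Additive.toMul.injective; apply Subtype.ext; exact hvb w
      rw [hB, ← conjEnd_mul]
      refine (conjEnd_congr Q ((QuotientGroup.eq_one_iff _).1 ?_) w).symm
      show π _ = 1
      rw [map_mul, map_inv, map_mul, inv_eq_of_mul_eq_one_right hp4]
      exact hp2
    rw [← e]; rfl
  have hKn : ∀ g ∈ ({b, c} : Set X) ∪ {g | ∃ w ∈ U, val w = g}, g ∈ Subgroup.normalizer (Kx : Set X) := by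
    have hle : ∀ g : X, (∀ k ∈ Kx, g * k * g⁻¹ ∈ Kx) → g ∈ Subgroup.normalizer (Kx : Set X) := by
      intro g hg
      refine Subgroup.mem_normalizer_iff.2 fun k => ⟨hg k, fun hk => ?_⟩
      have hinj : Function.Injective fun k : Kx => (⟨g * k * g⁻¹, hg k k.2⟩ : Kx) :=
        fun u w e => Subtype.ext (by simpa using congrArg Subtype.val e)
      obtain ⟨⟨k', hk'⟩, e⟩ := Finite.surjective_of_injective hinj ⟨_, hk⟩
      have e : g * k' * g⁻¹ = g * k * g⁻¹ := congrArg Subtype.val e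
      rwa [← mul_left_cancel (mul_right_cancel e)]
    rintro g ((rfl | rfl) | ⟨w, hw, rfl⟩)
    · refine hle _ ?_
      rintro _ ⟨k, hk, rfl⟩
      exact ⟨_, by have := K.add_mem (hU k (hKU hk)).2.1 hk; rwa [sub_add_cancel] at this, hvb k⟩
    · refine hle _ ?_
      rintro _ ⟨k, hk, rfl⟩
      exact ⟨_, by have := K.add_mem (hU k (hKU hk)).2.2 hk; rwa [sub_add_cancel] at this, hvc k⟩
    · refine hle _ ?_
      rintro _ ⟨k, hk, rfl⟩
      refine ⟨k, hk, ?_⟩
      show val k = val w * val k * (val w)⁻¹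
      rw [show val w * val k = val k * val w from L'.comm _ (Additive.toMul w).2 _ (Additive.toMul k).2,
        mul_inv_cancel_right]
  set H : Subgroup X := Subgroup.normalizer (Kx : Set X) with hH
  haveI hKH : (Kx.subgroupOf H).Normal := Subgroup.normal_subgroupOf_of_le_normalizer le_rfl
  set φ := QuotientGroup.mk' (Kx.subgroupOf H) with hφ
  let G : Set (H ⧸ Kx.subgroupOf H) := φ '' {g : H | (g : X) ∈ ({b, c} : Set X) ∪ {g | ∃ w ∈ U, val w = g}}
  have hone : ∀ g : H, φ g = 1 ↔ (g : X) ∈ Kx := fun g => QuotientGroup.eq_one_iff g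
  -- generators commute and square to one
  have hsq : ∀ g ∈ ({b, c} : Set X) ∪ {g | ∃ w ∈ U, val w = g}, g * g ∈ Kx := by
    rintro g ((rfl | rfl) | ⟨w, hw, rfl⟩)
    · refine ⟨_, hTσ, ?_⟩
      show y * val σ * y⁻¹ = b * b
      rw [show val σ = a' * a' from hs, hb]; group
    · refine ⟨_, hTTσ, ?_⟩
      show y * (y * val σ * y⁻¹) * y⁻¹ = c * c
      rw [show val σ = a' * a' from hs, hc]; group
    · exact ⟨_, (hU w hw).1, rfl⟩
  have hUb : ∀ w ∈ U, b * val w * b⁻¹ * (val w)⁻¹ ∈ Kx := fun w hw =>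
    ⟨_, (hU w hw).2.1, by rw [← hvb w, ← div_eq_mul_inv]; rfl⟩
  have hUc : ∀ w ∈ U, c * val w * c⁻¹ * (val w)⁻¹ ∈ Kx := fun w hw =>
    ⟨_, (hU w hw).2.2, by rw [← hvc w, ← div_eq_mul_inv]; rfl⟩
  have hbcK : b * c * b⁻¹ * c⁻¹ ∈ Kx := ⟨d, hdK, hd⟩
  have hswap : ∀ g k : X, g * k * g⁻¹ * k⁻¹ ∈ Kx → k * g * k⁻¹ * g⁻¹ ∈ Kx := fun g k hgk => by
    rw [show k * g * k⁻¹ * g⁻¹ = (g * k * g⁻¹ * k⁻¹)⁻¹ by group]; exact inv_mem hgk
  have hcomm : ∀ g ∈ ({b, c} : Set X) ∪ {g | ∃ w ∈ U, val w = g},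
      ∀ k ∈ ({b, c} : Set X) ∪ {g | ∃ w ∈ U, val w = g}, g * k * g⁻¹ * k⁻¹ ∈ Kx := by
    rintro g ((rfl | rfl) | ⟨w, hw, rfl⟩) k ((rfl | rfl) | ⟨u, hu, rfl⟩)
    · simp
    · exact hbcK
    · exact hUb u hu
    · exact hswap _ _ hbcK
    · simp
    · exact hUc u hu
    · exact hswap _ _ (hUb w hw)
    · exact hswap _ _ (hUc w hw)
    · rw [show val w * val u = val u * val w from L'.comm _ (Additive.toMul w).2 _ (Additive.toMul u).2]
      simp
  have hab : Subgroup.closure G ≤ Subgroup.centralizer (Subgroup.closure G : Set _) := by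
    have h1 : Subgroup.closure G ≤ Subgroup.centralizer G := by
      rw [Subgroup.closure_le]
      rintro _ ⟨g, hg, rfl⟩
      rw [SetLike.mem_coe, Subgroup.mem_centralizer_iff]
      rintro _ ⟨k, hk, rfl⟩
      rw [← map_mul, ← map_mul, hφ, QuotientGroup.mk'_apply, QuotientGroup.mk'_apply, QuotientGroup.eq,
        Subgroup.mem_subgroupOf]
      simp only [Subgroup.coe_mul, Subgroup.coe_inv]
      have hh := hcomm _ hg _ hk
      have h3 := (Subgroup.mem_normalizer_iff.1 (H.inv_mem (H.mul_mem g.2 k.2)) _).1 hh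
      rwa [show ((g : X) * k)⁻¹ * ((g : X) * k * (g : X)⁻¹ * (k : X)⁻¹) * (((g : X) * k)⁻¹)⁻¹ =
        ((k : X) * (g : X))⁻¹ * ((g : X) * (k : X)) by group] at h3
    rw [Subgroup.closure_le]
    intro g hg
    rw [SetLike.mem_coe, Subgroup.mem_centralizer_iff]
    intro k hk
    exact ((Subgroup.mem_centralizer_iff.1 (h1 hk)) g hg).symm
  have hel : ∀ g ∈ Subgroup.closure G, g * g = 1 := by
    intro g hg
    induction hg using Subgroup.closure_induction with
    | mem g hg =>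
      obtain ⟨g, hg', rfl⟩ := hg
      rw [← map_mul, hone]
      exact hsq _ hg'
    | one => exact one_mul 1
    | mul g k hg hk ihg ihk =>
      have e : k * g = g * k := Subgroup.mem_centralizer_iff.1 (hab hg) k hk
      calc g * k * (g * k) = g * (k * g) * k := by group
        _ = (g * g) * (k * k) := by rw [e]; group
        _ = 1 := by rw [ihg, ihk, one_mul]
    | inv g _ ihg => rw [← _root_.mul_inv_rev, ihg, inv_one]
  let V : Subgroup X := ((Subgroup.closure G).comap φ).map H.subtype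
  have hKH' : Kx ≤ H := Subgroup.le_normalizer
  have hSq : CfsgLib.TwoRank.SqLE V Kx := by
    refine ⟨fun k hk => ⟨⟨k, hKH' hk⟩, ?_, rfl⟩, ?_⟩
    · show φ ⟨k, hKH' hk⟩ ∈ Subgroup.closure G
      rw [(hone ⟨k, hKH' hk⟩).2 hk]; exact one_mem _
    · rintro _ ⟨g, hg, rfl⟩
      exact (hone (g * g)).1 (by rw [map_mul]; exact hel _ hg)
  have hgen : ∀ g ∈ ({b, c} : Set X) ∪ {g | ∃ w ∈ U, val w = g}, g ∈ V := fun g hg =>
    ⟨⟨g, hKn g hg⟩, Subgroup.subset_closure ⟨_, hg, rfl⟩, rfl⟩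
  -- counting
  have h16 := CfsgLib.DEightWreath.card_le_of_sectional hr hSq
  have hK : Nat.card Kx ≤ Nat.card K :=
    Nat.card_le_card_of_surjective (fun w : K => (⟨val w.1, w.1, w.2, rfl⟩ : Kx))
      fun ⟨g, w, hw, e⟩ => ⟨⟨w, hw⟩, Subtype.ext e⟩
  have h4U : 4 * Nat.card U ≤ Nat.card V := by
    let f : Fin 4 × U → V := fun i => ⟨val i.2.1 * ![1, b, c, b * c] i.1, V.mul_mem
      (hgen _ (Or.inr ⟨_, i.2.2, rfl⟩)) (by
        have h1 := hgen b (Or.inl (Or.inl rfl))
        have h2 := hgen c (Or.inl (Or.inr rfl))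
        obtain ⟨i, -⟩ := i
        fin_cases i
        · exact one_mem V
        · exact h1
        · exact h2
        · exact mul_mem h1 h2)⟩
    have hinj : Function.Injective f := by
      rintro ⟨i, u⟩ ⟨j, w⟩ e
      have e : val u.1 * ![1, b, c, b * c] i = val w.1 * ![1, b, c, b * c] j := congrArg Subtype.val e
      have hu : ∀ z : U, π (val z.1) = 1 := fun z => (QuotientGroup.eq_one_iff _).2 (Additive.toMul z.1).2
      have e' := congrArg π e
      rw [map_mul, map_mul, hu, hu, one_mul, one_mul] at e'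
      have hbcd : π b * π c = π a' := by
        calc π b * π c = π a' * (π a' * π b * π c) := by rw [mul_assoc (π a'), ← mul_assoc (π a') (π a'), hp1, one_mul]
          _ = π a' := by rw [hp2, mul_one]
      have hij : i = j := by
        fin_cases i <;> fin_cases j <;> simp only [Fin.zero_eta, Fin.mk_one, Fin.reduceFinMk,
          Matrix.cons_val, Matrix.cons_val_zero, Matrix.cons_val_one, map_one, map_mul, hbcd] at e' ⊢
        · exact absurd e'.symm hbQ
        · exact absurd e'.symm hcQ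
        · exact absurd e'.symm haQ'
        · exact absurd e' hbQ
        · exact absurd e' hbc
        · rw [← hbcd] at e'; exact absurd (left_eq_mul.1 e') hcQ
        · exact absurd e' hcQ
        · exact absurd e'.symm hbc
        · rw [← hbcd] at e'; exact absurd (right_eq_mul.1 e') hbQ
        · exact absurd e' haQ'
        · rw [← hbcd] at e'; exact absurd (left_eq_mul.1 e'.symm) hcQ
        · rw [← hbcd] at e'; exact absurd (right_eq_mul.1 e'.symm) hbQ
      subst hij
      have e2 : val u.1 = val w.1 := mul_right_cancel e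
      exact Prod.ext rfl (Subtype.ext (Additive.toMul.injective (Subtype.ext e2)))
    simpa using Nat.card_le_card_of_injective f hinj
  have hKpos : 0 < Nat.card K := Nat.card_pos
  omega

end Lifts

variable [Finite X] {Q : Subgroup X} {a y : X}

/-- A homocyclic radical on which a transvection and an element of order three act. -/
theorem no_homocyclic [Q.Normal] (L : Lifts Q a y) (hr : Cfsg.SectionalPRankLE 2 4 X) (θ : X → Vec)
    (hmul : ∀ u ∈ Q, ∀ w ∈ Q, θ (u * w) = θ u + θ w) (hsur : ∀ t, ∃ u ∈ Q, θ u = t)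
    (hker : ∀ u ∈ Q, (θ u = 0 ↔ u * u = 1)) (hA : ∀ u ∈ Q, θ (a * u * a⁻¹) = mA *ᵥ θ u)
    (hT : ∀ u ∈ Q, θ (y * u * y⁻¹) = mT *ᵥ θ u) (hexp : ∀ u ∈ Q, u * u * (u * u) = 1)
    (hR : Nat.card {u : X // u ∈ Q ∧ u * u = 1} ≤ 16) : False := by
  haveI : IsMulCommutative Q := ⟨⟨fun u w => Subtype.ext (L.comm _ u.2 _ w.2)⟩⟩
  have haQ : a ∉ Q := fun h => by
    obtain ⟨u, hu, e⟩ := hsur e1
    have := hA u hu
    rw [L.comm a h u hu, mul_inv_cancel_right, e] at this
    have h' : mA *ᵥ e1 ≠ e1 := by decide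
    exact h' this.symm
  let Θ : Additive Q →+ Vec := AddMonoidHom.mk' (fun w => θ ((Additive.toMul w : Q) : X))
    fun u w => hmul _ (Additive.toMul u).2 _ (Additive.toMul w).2
  obtain ⟨σ₀, q₀, d₀, h₀⟩ := L.sys_exists
  obtain ⟨σ, q, d, K, U, h, hG⟩ := homocyclic L.act Θ
    (fun t => by obtain ⟨u, hu, e⟩ := hsur t; exact ⟨Additive.ofMul ⟨u, hu⟩, e⟩)
    (fun w => (hker _ (Additive.toMul w).2).trans
      ⟨fun e => Additive.toMul.injective (Subtype.ext e), fun e => congrArg (fun v => ((Additive.toMul v : Q) : X)) e⟩)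
    (fun w => hA _ (Additive.toMul w).2) (fun w => hT _ (Additive.toMul w).2)
    (fun w => Additive.toMul.injective (Subtype.ext (hexp _ (Additive.toMul w).2)))
    (le_trans (le_of_eq (Nat.card_congr
      { toFun := fun w => ⟨((Additive.toMul w.1 : Q) : X), (Additive.toMul w.1).2,
          congrArg (fun v => ((Additive.toMul v : Q) : X)) w.2⟩
        invFun := fun u => ⟨Additive.ofMul ⟨u.1, u.2.1⟩, Additive.toMul.injective (Subtype.ext u.2.2)⟩
        left_inv := fun w => rfl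
        right_inv := fun u => rfl })) hR)
    (fun _ _ _ => Lifts.sys_eqs) (fun _ _ _ h w => Lifts.sys_move h w) h₀
  exact L.not_good haQ hr h hG

/-- A radical with a cyclic factor of order eight. -/
theorem no_cyclicEight [Q.Normal] (L : Lifts Q a y) (hr : Cfsg.SectionalPRankLE 2 4 X) (x p : X)
    (hxQ : x ∈ Q) (hx : x * x = p) (hp0 : p * p ≠ 1) (hp2 : p * p * (p * p) = 1)
    (hAp : a * p * a⁻¹ = p) (hTp : y * p * y⁻¹ = p)
    (hval : ∀ w ∈ Q, w * w = 1 ∨ w * w = p * p ∨ w * w = p ∨ w * w = p * (p * p)) (θ : X → Vec)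
    (hmul : ∀ u ∈ Q, ∀ w ∈ Q, u * u = 1 → w * w = 1 → θ (u * w) = θ u + θ w)
    (hker : ∀ w ∈ Q, w * w = 1 → (θ w = 0 ↔ w = 1 ∨ w = p * p))
    (hsur : ∀ t, ∃ w ∈ Q, w * w = 1 ∧ θ w = t)
    (hA : ∀ u ∈ Q, u * u = 1 → θ (a * u * a⁻¹) = mA *ᵥ θ u)
    (hT : ∀ u ∈ Q, u * u = 1 → θ (y * u * y⁻¹) = mT *ᵥ θ u) : False := by
  haveI : IsMulCommutative Q := ⟨⟨fun u w => Subtype.ext (L.comm _ u.2 _ w.2)⟩⟩
  have haQ : a ∉ Q := fun h => by
    obtain ⟨u, hu, hu2, e⟩ := hsur e1
    have := hA u hu hu2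
    rw [L.comm a h u hu, mul_inv_cancel_right, e] at this
    have h' : mA *ᵥ e1 ≠ e1 := by decide
    exact h' this.symm
  have hpQ : p ∈ Q := hx ▸ mul_mem hxQ hxQ
  have ext : ∀ {u w : Additive Q}, ((Additive.toMul u : Q) : X) = ((Additive.toMul w : Q) : X) → u = w :=
    fun e => Additive.toMul.injective (Subtype.ext e)
  have cvt : ∀ {u : Additive Q}, u + u = 0 →
      ((Additive.toMul u : Q) : X) * ((Additive.toMul u : Q) : X) = 1 :=
    fun e => congrArg (fun v => ((Additive.toMul v : Q) : X)) e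
  obtain ⟨σ₀, q₀, d₀, h₀⟩ := L.sys_exists
  obtain ⟨σ, q, d, K, U, h, hG⟩ := cyclicEight L.act (Additive.ofMul ⟨x, hxQ⟩) (Additive.ofMul ⟨p, hpQ⟩)
    (ext hx) (fun e => hp0 (congrArg (fun v => ((Additive.toMul v : Q) : X)) e)) (ext hp2) (ext hAp)
    (ext hTp) (fun w => (hval _ (Additive.toMul w).2).imp (fun e => ext e)
      (Or.imp (fun e => ext e) (Or.imp (fun e => ext e) fun e => ext e)))
    (fun w => θ ((Additive.toMul w : Q) : X))
    (fun u w hu hw => hmul _ (Additive.toMul u).2 _ (Additive.toMul w).2 (cvt hu) (cvt hw))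
    (fun w hw => (hker _ (Additive.toMul w).2 (cvt hw)).trans
      ⟨Or.imp (fun e => ext e) fun e => ext e,
        Or.imp (fun e => congrArg (fun v => ((Additive.toMul v : Q) : X)) e)
          fun e => congrArg (fun v => ((Additive.toMul v : Q) : X)) e⟩)
    (fun t => by obtain ⟨w, hw, hw2, e⟩ := hsur t; exact ⟨Additive.ofMul ⟨w, hw⟩, ext hw2, e⟩)
    (fun w hw => hA _ (Additive.toMul w).2 (cvt hw)) (fun w hw => hT _ (Additive.toMul w).2 (cvt hw))
    (fun _ _ _ => Lifts.sys_eqs) (fun _ _ _ h w => Lifts.sys_move h w) h₀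
  exact L.not_good haQ hr h hG

end CfsgLib.RankFourLinear
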