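import Cfsg.Agent.Lib.RankFourLinear.Natural
import Cfsg.Agent.Lib.RankFourLinear.Section
import Cfsg.Agent.Lib.RankFourRadical.Basic
import Cfsg.Agent.Lib.Critical.Basic

/-!
The configuration: a 2-radical under a simple group of order 168.
-/

set_option autoImplicit false
set_option linter.style.haveILetI false

namespace CfsgLib.RankFourLinear

open Matrix
open scoped commutatorElement

variable {X : Type*} [Group X]

/-- The subgroup generated by the squares. -/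
def sqSub (Q : Subgroup X) : Subgroup X := Subgroup.closure {z | ∃ x ∈ Q, x * x = z}

theorem sq_mem_sqSub {Q : Subgroup X} {x : X} (hx : x ∈ Q) : x * x ∈ sqSub Q :=
  Subgroup.subset_closure ⟨x, hx, rfl⟩

theorem sqSub_le (Q : Subgroup X) : sqSub Q ≤ Q := by
  rw [sqSub, Subgroup.closure_le]
  rintro _ ⟨x, hx, rfl⟩
  exact mul_mem hx hx

instance sqSub_normal (Q : Subgroup X) [Q.Normal] : (sqSub Q).Normal := by
  refine ⟨fun z hz g => ?_⟩
  induction hz using Subgroup.closure_induction with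
  | mem z hz =>
    obtain ⟨x, hx, rfl⟩ := hz
    rw [show g * (x * x) * g⁻¹ = (g * x * g⁻¹) * (g * x * g⁻¹) by group]
    exact sq_mem_sqSub (Subgroup.Normal.conj_mem inferInstance x hx g)
  | one => simp
  | mul u w _ _ hu hw =>
    rw [show g * (u * w) * g⁻¹ = (g * u * g⁻¹) * (g * w * g⁻¹) by group]
    exact mul_mem hu hw
  | inv u _ hu =>
    rw [show g * u⁻¹ * g⁻¹ = (g * u * g⁻¹)⁻¹ by group]
    exact inv_mem hu

theorem sqSub_map {Y : Type*} [Group Y] (f : X →* Y) (Q : Subgroup X) :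
    sqSub (Q.map f) = (sqSub Q).map f := by
  rw [sqSub, sqSub, MonoidHom.map_closure]
  congr 1
  ext z
  constructor
  · rintro ⟨_, ⟨x, hx, rfl⟩, rfl⟩
    exact ⟨x * x, ⟨x, hx, rfl⟩, map_mul f x x⟩
  · rintro ⟨_, ⟨x, hx, rfl⟩, rfl⟩
    exact ⟨f x, ⟨x, hx, rfl⟩, (map_mul f x x).symm⟩

/-- A radical of sectional rank at most four under a simple group of order 168 acting faithfully. -/
structure Cfg (Q : Subgroup X) : Prop where
  base : Over Q
  two : IsPGroup 2 Q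
  rank : Cfsg.SectionalPRankLE 2 4 X
  act : ∃ g : X, ∃ x ∈ Q, ⁅g, x⁆ ∉ sqSub Q

/-- The shapes of the statement. -/
def Shape (Q : Subgroup X) : Prop :=
  ((∀ x ∈ Q, x * x = 1) ∧ (Nat.card Q = 8 ∨ Nat.card Q = 16)) ∨
    ((∀ x ∈ Q, ∀ w ∈ Q, x * w = w * x) ∧ Nat.card Q = 32 ∧
      ∃ x ∈ Q, x * x ≠ 1 ∧ x * x * (x * x) = 1 ∧ ∀ w ∈ Q, w * w = 1 ∨ w * w = x * x)

variable [Finite X]

theorem Cfg.quot {Q : Subgroup X} (C : Cfg Q) (M : Subgroup X) [M.Normal] (hM : M ≤ sqSub Q) :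
    Cfg (Q.map (QuotientGroup.mk' M)) := by
  haveI := C.base.qn
  have hs : Function.Surjective (QuotientGroup.mk' M) := QuotientGroup.mk'_surjective M
  have hker : (QuotientGroup.mk' M).ker ≤ Q := by
    rw [QuotientGroup.ker_mk']; exact hM.trans (sqSub_le Q)
  refine ⟨⟨C.base.qn.map _ hs, by rw [Subgroup.index_map_eq _ hs hker, C.base.index], fun N hN hQN => ?_⟩,
    C.two.map _, CfsgLib.RankFourRadical.rank_quot C.rank M, ?_⟩
  · rcases C.base.simple _ (hN.comap (QuotientGroup.mk' M)) (Subgroup.map_le_iff_le_comap.1 hQN) with e | e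
    · left; rw [← Subgroup.map_comap_eq_self_of_surjective hs N, e]
    · right; rw [← Subgroup.map_comap_eq_self_of_surjective hs N, e, Subgroup.map_top_of_surjective _ hs]
  · obtain ⟨g, x, hx, hgx⟩ := C.act
    refine ⟨QuotientGroup.mk' M g, QuotientGroup.mk' M x, ⟨x, hx, rfl⟩, fun h => hgx ?_⟩
    rw [← map_commutatorElement, sqSub_map] at h
    obtain ⟨z, hz, e⟩ := h
    have := mul_mem hz (hM (QuotientGroup.eq.1 e))
    simpa using this

/-- The order of the Frattini quotient. -/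
theorem Cfg.card_top {Q : Subgroup X} (C : Cfg Q) :
    Nat.card Q = 8 * Nat.card (sqSub Q) ∨ Nat.card Q = 16 * Nat.card (sqSub Q) := by
  haveI := C.base.qn
  haveI : Fact (Nat.Prime 2) := ⟨Nat.prime_two⟩
  have h1 := CfsgLib.DEightWreath.card_le_of_sectional C.rank (X := Q) (K := sqSub Q)
    ⟨sqSub_le Q, fun x hx => sq_mem_sqSub hx⟩
  have h2 : ¬ Nat.card Q ≤ 4 * Nat.card (sqSub Q) := fun h => by
    obtain ⟨g, x, hx, hgx⟩ := C.act
    refine hgx (C.base.trivial_of_small (sqSub_le Q) h (fun q hq z hz => ?_) g x hx)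
    rw [show ⁅q, z⁆ = (q * z) * (q * z) * ((z⁻¹ * q⁻¹ * z) * (z⁻¹ * q⁻¹ * z)) * (z⁻¹ * z⁻¹) by
      simp only [commutatorElement_def]; group]
    exact mul_mem (mul_mem (sq_mem_sqSub (mul_mem hq hz))
      (sq_mem_sqSub (mul_mem (mul_mem (inv_mem hz) (inv_mem hq)) hz)))
      (sq_mem_sqSub (inv_mem hz))
  obtain ⟨n, hn⟩ := C.two.exists_card_eq
  obtain ⟨m, hm⟩ := (C.two.to_le (sqSub_le Q)).exists_card_eq
  rw [hn, hm] at h1 h2 ⊢
  have e1 : n ≤ m + 4 := by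
    refine (Nat.pow_le_pow_iff_right (le_refl 2)).1 ?_
    rw [pow_add]; linarith
  have e2 : m + 3 ≤ n := by
    by_contra h
    refine h2 ?_
    calc 2 ^ n ≤ 2 ^ (m + 2) := Nat.pow_le_pow_right (by norm_num) (by omega)
      _ = 4 * 2 ^ m := by rw [pow_add]; ring
  rcases Nat.lt_or_ge n (m + 4) with h | h
  · left; rw [show n = m + 3 by omega, pow_add]; ring
  · right; rw [show n = m + 4 by omega, pow_add]; ring

/-! ### Natural sections -/

section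

variable {Q N R : Subgroup X} {θ : X → Vec} {ρ : X →* G3}

omit [Finite X] in
theorem Natural.conj_low (h : Natural Q N R θ ρ) {a y x : X} (ha : ρ a = gA) (hy : ρ y = gT) (hx : x ∈ N) :
    θ (a * x * a⁻¹) = mA *ᵥ θ x ∧ θ (y * x * y⁻¹) = mT *ᵥ θ x :=
  ⟨by rw [h.equiv a x hx, ha]; rfl, by rw [h.equiv y x hx, hy]; rfl⟩

omit [Finite X] in
theorem Natural.one (h : Natural Q N R θ ρ) : θ 1 = 0 :=
  (h.ker 1 (one_mem N)).2 (one_mem R)

omit [Finite X] in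
theorem Natural.inv (h : Natural Q N R θ ρ) {x : X} (hx : x ∈ N) : θ x⁻¹ = θ x := by
  have e := h.mul x hx x⁻¹ (inv_mem hx)
  rw [mul_inv_cancel, h.one] at e
  calc θ x⁻¹ = (θ x + θ x) + θ x⁻¹ := by
        rw [show θ x + θ x = 0 from funext fun i => CharTwo.add_self_eq_zero _, zero_add]
    _ = θ x := by rw [add_assoc, ← e, add_zero]

omit [Finite X] in
theorem Natural.coset (h : Natural Q N R θ ρ) {x w : X} (hx : x ∈ N) (hw : w ∈ N) (e : θ x = θ w) :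
    x⁻¹ * w ∈ R :=
  (h.ker _ (mul_mem (inv_mem hx) hw)).1 (by
    rw [h.mul _ (inv_mem hx) w hw, h.inv hx, e]
    exact funext fun i => CharTwo.add_self_eq_zero _)

omit [Finite X] in
theorem Natural.move (h : Natural Q N R θ ρ) {x w : X} (hx : x ∈ N) (hx0 : θ x ≠ 0) (hw0 : θ w ≠ 0) :
    ∃ g : X, θ (g * x * g⁻¹) = θ w := by
  have hp : ∀ v : Vec, ∃ z : Vec, z ≠ 0 ∧ v ≠ z := by decide
  obtain ⟨z, hz, hxz⟩ := hp (θ x)
  obtain ⟨z', hz', hwz⟩ := hp (θ w)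
  obtain ⟨g, hg, -⟩ := exists_move _ _ hx0 hz hxz _ _ hw0 hz' hwz
  obtain ⟨g', rfl⟩ := h.onto g
  exact ⟨g', by rw [h.equiv g' x hx, hg]⟩

omit [Finite X] in
/-- There is nothing between `R` and `N`. -/
theorem Natural.no_hyper (h : Natural Q N R θ ρ) {L : Subgroup X} [L.Normal] (hRL : R ≤ L) (hLN : L ≤ N) :
    L = R ∨ L = N := by
  by_cases hc : ∃ x ∈ L, x ∉ R
  · right
    obtain ⟨x, hx, hxR⟩ := hc
    refine le_antisymm hLN fun w hw => ?_
    by_cases hw0 : θ w = 0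
    · exact hRL ((h.ker w hw).1 hw0)
    · obtain ⟨g, hg⟩ := h.move (hLN hx) (fun e => hxR ((h.ker x (hLN hx)).1 e)) hw0
      have hgx : g * x * g⁻¹ ∈ L := Subgroup.Normal.conj_mem inferInstance x hx g
      have := mul_mem hgx (hRL (h.coset (hLN hgx) hw hg))
      rwa [mul_inv_cancel_left] at this
  · push Not at hc
    exact Or.inl (le_antisymm hc hRL)

omit [Finite X] in
/-- A commutator form with values in a central subgroup of order two vanishes. -/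
theorem Natural.form_zero [N.Normal] (h : Natural Q N R θ ρ) {z : X} (hz : z * z = 1) (hzc : ∀ g : X, g * z = z * g)
    (hRc : ∀ r ∈ R, ∀ x ∈ N, r * x = x * r) (hcomm : ∀ u ∈ N, ∀ w ∈ N, ⁅u, w⁆ = 1 ∨ ⁅u, w⁆ = z) :
    ∀ u ∈ N, ∀ w ∈ N, u * w = w * u := by
  obtain ⟨x, hx, ex⟩ := h.surj e0
  obtain ⟨w, hw, ew⟩ := h.surj e1
  have hcong : ∀ u ∈ N, ∀ u' ∈ N, ∀ v ∈ N, ∀ v' ∈ N, θ u = θ u' → θ v = θ v' → ⁅u, v⁆ = ⁅u', v'⁆ := by
    intro u hu u' hu' v hv v' hv' eu ev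
    obtain ⟨r, hr, rfl⟩ : ∃ r ∈ R, u' = u * r := ⟨u⁻¹ * u', h.coset hu hu' eu, by group⟩
    obtain ⟨s, hs, rfl⟩ : ∃ s ∈ R, v' = v * s := ⟨v⁻¹ * v', h.coset hv hv' ev, by group⟩
    symm
    simp only [commutatorElement_def, _root_.mul_inv_rev]
    calc u * r * (v * s) * (r⁻¹ * u⁻¹) * (s⁻¹ * v⁻¹)
        = u * (r * (v * s)) * r⁻¹ * u⁻¹ * (s⁻¹ * v⁻¹) := by group
      _ = u * v * (s * u⁻¹) * s⁻¹ * v⁻¹ := by rw [hRc r hr _ hv']; group
      _ = u * v * u⁻¹ * v⁻¹ := by rw [hRc s hs _ (inv_mem hu)]; group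
  have hmove : ∀ u ∈ N, ∀ v ∈ N, θ u ≠ 0 → θ v ≠ 0 → θ u ≠ θ v → ⁅u, v⁆ = ⁅x, w⁆ := by
    intro u hu v hv hu0 hv0 huv
    obtain ⟨g, hg1, hg2⟩ := exists_move e0 e1 (by decide) (by decide) (by decide) _ _ hu0 hv0 huv
    obtain ⟨g', rfl⟩ := h.onto g
    have hfix : g' * ⁅x, w⁆ * g'⁻¹ = ⁅x, w⁆ := by
      rcases hcomm x hx w hw with e | e <;> rw [e]
      · simp
      · rw [hzc g', mul_inv_cancel_right]
    rw [← hfix, show g' * ⁅x, w⁆ * g'⁻¹ = ⁅g' * x * g'⁻¹, g' * w * g'⁻¹⁆ by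
      simp only [commutatorElement_def]; group]
    exact hcong u hu _ (Subgroup.Normal.conj_mem inferInstance x hx g') v hv _
      (Subgroup.Normal.conj_mem inferInstance w hw g') (by rw [h.equiv g' x hx, ex, hg1])
      (by rw [h.equiv g' w hw, ew, hg2])
  obtain ⟨v, hv, ev⟩ := h.surj (e1 + ![0, 0, 1])
  obtain ⟨v', hv', ev'⟩ := h.surj ![0, 0, 1]
  have hzero : ⁅x, w⁆ = 1 := by
    have e1' : ⁅x, v⁆ = ⁅x, w⁆ := hmove x hx v hv (by rw [ex]; decide) (by rw [ev]; decide) (by rw [ex, ev]; decide)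
    have e2 : ⁅x, v'⁆ = ⁅x, w⁆ := hmove x hx v' hv' (by rw [ex]; decide) (by rw [ev']; decide) (by rw [ex, ev']; decide)
    have e3 : ⁅x, w * v'⁆ = ⁅x, w⁆ * ⁅x, v'⁆ := by
      have hfix : w * ⁅x, v'⁆ * w⁻¹ = ⁅x, v'⁆ := by
        rcases hcomm x hx v' hv' with e | e <;> rw [e]
        · simp
        · rw [hzc w, mul_inv_cancel_right]
      rw [show ⁅x, w * v'⁆ = ⁅x, w⁆ * (w * ⁅x, v'⁆ * w⁻¹) by simp only [commutatorElement_def]; group, hfix]
    have e4 : ⁅x, w * v'⁆ = ⁅x, v⁆ := hcong x hx x hx _ (mul_mem hw hv') v hv rfl (by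
      rw [h.mul w hw v' hv', ew, ev', ev])
    rw [e4, e1', e2] at e3
    exact mul_eq_left.1 e3.symm
  intro u hu v hv
  rw [← commutatorElement_eq_one_iff_mul_comm]
  by_cases hu0 : θ u = 0
  · exact commutatorElement_eq_one_iff_mul_comm.2 (hRc u ((h.ker u hu).1 hu0) v hv)
  by_cases hv0 : θ v = 0
  · exact commutatorElement_eq_one_iff_mul_comm.2 (hRc v ((h.ker v hv).1 hv0) u hu).symm
  by_cases huv : θ u = θ v
  · rw [hcong u hu u hu v hv u hu rfl huv.symm, commutatorElement_self]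
  · rw [hmove u hu v hv hu0 hv0 huv, hzero]

omit [Finite X] in
theorem Natural.not_trivial (h : Natural Q N R θ ρ) [Q.Normal] {a : X} (ha : ρ a = gA) : a ∉ Q := fun haQ => by
  have h1 : ρ a = 1 := MonoidHom.mem_ker.1 (h.kerQ.symm ▸ haQ)
  rw [ha] at h1
  have h2 := congrArg (fun g : G3 => (g : Matrix (Fin 3) (Fin 3) (ZMod 2))) h1
  revert h2
  show mA = 1 → False
  decide

end

/-- An action trivial on both layers of a section of exponent two is trivial on the section. -/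
theorem Over.trivial_of_chain {Q N L R : Subgroup X} (O : Over Q) [N.Normal] [L.Normal] [R.Normal]
    (hLN : L ≤ N) (hRL : R ≤ L) (hsq : ∀ x ∈ L, x * x ∈ R) (hQ : ∀ q ∈ Q, ∀ x ∈ N, ⁅q, x⁆ ∈ R)
    (h1 : ∀ g : X, ∀ x ∈ N, ⁅g, x⁆ ∈ L) (h2 : ∀ g : X, ∀ x ∈ L, ⁅g, x⁆ ∈ R) :
    ∀ g : X, ∀ x ∈ N, ⁅g, x⁆ ∈ R := by
  rcases O.simple (trivialOn N R) inferInstance hQ with e | e
  swap
  · exact fun g => (e.ge (Subgroup.mem_top g) : g ∈ trivialOn N R)
  exfalso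
  haveI := O.qn
  have h3 : ∀ g : X, g * g ∈ Q := fun g => e ▸ fun x hx => by
    have e1 : ⁅g * g, x⁆ = ⁅g, ⁅g, x⁆⁆ * (⁅g, x⁆ * ⁅g, x⁆) := by
      simp only [commutatorElement_def]; group
    rw [e1]
    exact mul_mem (h2 g _ (h1 g x hx)) (hsq _ (h1 g x hx))
  haveI : Fact (Nat.Prime 7) := ⟨by norm_num⟩
  obtain ⟨z, hz⟩ := exists_prime_orderOf_dvd_card' (G := X ⧸ Q) 7 (by
    rw [← Subgroup.index_eq_card, O.index]; norm_num)
  obtain ⟨g, rfl⟩ := QuotientGroup.mk'_surjective Q z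
  have h4 : orderOf (QuotientGroup.mk' Q g) ∣ 2 := orderOf_dvd_of_pow_eq_one (by
    rw [pow_two, ← map_mul]; exact (QuotientGroup.eq_one_iff _).2 (h3 g))
  rw [hz] at h4
  norm_num at h4

end CfsgLib.RankFourLinear
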