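import Cfsg.Agent.Lib.RankFourLinear.Identity

/-!
A radical with a cyclic factor of order eight.
-/

set_option autoImplicit false
set_option linter.style.haveILetI false

namespace CfsgLib.RankFourLinear

open Matrix

variable {W : Type*} [AddCommGroup W] [Finite W] {A T : W →+ W}

set_option maxHeartbeats 1600000 in
theorem cyclicEight (h : Act A T) (x p : W) (hx : x + x = p) (hp0 : p + p ≠ 0)
    (hp2 : (p + p) + (p + p) = 0) (hAp : A p = p) (hTp : T p = p)
    (hval : ∀ w : W, w + w = 0 ∨ w + w = p + p ∨ w + w = p ∨ w + w = p + (p + p))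
    (θ : W → Vec) (hadd : ∀ u w : W, u + u = 0 → w + w = 0 → θ (u + w) = θ u + θ w)
    (hker : ∀ w : W, w + w = 0 → (θ w = 0 ↔ w = 0 ∨ w = p + p))
    (hsur : ∀ t, ∃ w : W, w + w = 0 ∧ θ w = t)
    (hA : ∀ w : W, w + w = 0 → θ (A w) = mA *ᵥ θ w) (hT : ∀ w : W, w + w = 0 → θ (T w) = mT *ᵥ θ w)
    {P : W → W → W → Prop} (hP : ∀ σ q d, P σ q d → Eqs A T σ q d)
    (hmove : ∀ σ q d, P σ q d → ∀ y, ∃ q' d', P (σ + y + A y) q' d')
    {σ₀ q₀ d₀ : W} (h₀ : P σ₀ q₀ d₀) :
    ∃ σ q d K U, P σ q d ∧ Good A T σ d K U := by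
  classical
  have hdz : ∀ w : Vec, w + w = 0 := fun w => funext fun i => CharTwo.add_self_eq_zero _
  set z := p + p with hz
  have hnegO : ∀ w : W, w + w = 0 → -w = w := fun w hw => neg_eq_of_add_eq_zero_left hw
  have hOadd : ∀ u w : W, u + u = 0 → w + w = 0 → (u + w) + (u + w) = 0 := fun u w hu hw => by
    rw [show u + w + (u + w) = (u + u) + (w + w) by abel, hu, hw, add_zero]
  have hOg : ∀ (g : W →+ W) (w : W), w + w = 0 → g w + g w = 0 := fun g w hw => by
    rw [← map_add, hw, map_zero]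
  have hθ0 : θ 0 = 0 := (hker 0 (add_zero 0)).2 (Or.inl rfl)
  have hθz : θ z = 0 := (hker z hp2).2 (Or.inr rfl)
  have hAz : A z = z := by rw [hz, map_add, hAp]
  have hTz : T z = z := by rw [hz, map_add, hTp]
  -- the elements of order at most four
  let U' : AddSubgroup W :=
    { carrier := {w | (w + w) + (w + w) = 0}
      zero_mem' := by show (0 : W) + 0 + (0 + 0) = 0; simp
      add_mem' := fun {u w} hu hw => by
        show (u + w + (u + w)) + (u + w + (u + w)) = 0
        rw [show (u + w + (u + w)) + (u + w + (u + w)) = (u + u + (u + u)) + (w + w + (w + w)) by abel,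
          hu, hw, add_zero]
      neg_mem' := fun {u} hu => by
        show (-u + -u) + (-u + -u) = 0
        rw [show (-u + -u) + (-u + -u) = -((u + u) + (u + u)) by abel, hu, neg_zero] }
  have hzU : ∀ w, w + w = 0 → w ∈ U' := fun w hw => by
    show (w + w) + (w + w) = 0; rw [hw, add_zero]
  have hpU : p ∈ U' := hp2
  have hU' : ∀ w ∈ U', w + w = 0 ∨ w + w = z := fun w hw => by
    rcases hval w with e | e | e | e
    · exact Or.inl e
    · exact Or.inr e
    · exact absurd (show p + p = 0 by rw [← e]; exact hw) hp0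
    · refine absurd ?_ hp0
      have hw' : (w + w) + (w + w) = 0 := hw
      rw [e, show p + z + (p + z) = (p + p) + (z + z) by abel, hp2, add_zero] at hw'
      exact hw'
  have hsplit : ∀ w, w ∈ U' ∨ w - x ∈ U' := fun w => by
    rcases hval w with e | e | e | e
    · exact Or.inl (hzU w e)
    · exact Or.inl (by show (w + w) + (w + w) = 0; rw [e, hp2])
    · refine Or.inr (hzU _ ?_)
      rw [show w - x + (w - x) = (w + w) - (x + x) by abel, e, hx, sub_self]
    · refine Or.inr ?_
      show (w - x + (w - x)) + (w - x + (w - x)) = 0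
      rw [show w - x + (w - x) = (w + w) - (x + x) by abel, e, hx, add_sub_cancel_left, hp2]
  -- the extended coordinate
  let θ' : W → Vec := fun w => if w + w = 0 then θ w else θ (w - p)
  have hθ'O : ∀ w, w + w = 0 → θ' w = θ w := fun w hw => if_pos hw
  have hsub : ∀ w ∈ U', w + w ≠ 0 → (w - p) + (w - p) = 0 := fun w hw hne => by
    rw [show w - p + (w - p) = (w + w) - (p + p) by abel, (hU' w hw).resolve_left hne, sub_self]
  have hθ'p : ∀ w, w + w = 0 → θ' (w + p) = θ w := fun w hw => by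
    have e : w + p + (w + p) = z := by
      rw [show w + p + (w + p) = (w + w) + (p + p) by abel, hw, zero_add]
    show (if w + p + (w + p) = 0 then θ (w + p) else θ (w + p - p)) = _
    rw [if_neg (by rw [e]; exact hp0), add_sub_cancel_right]
  have hdec : ∀ w ∈ U', (w + w = 0) ∨ ∃ o : W, o + o = 0 ∧ w = o + p := fun w hw => by
    by_cases hw0 : w + w = 0
    · exact Or.inl hw0
    · exact Or.inr ⟨w - p, hsub w hw hw0, by abel⟩
  have hθ'add : ∀ u ∈ U', ∀ w ∈ U', θ' (u + w) = θ' u + θ' w := by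
    intro u hu w hw
    rcases hdec u hu with hu0 | ⟨o, ho, rfl⟩ <;> rcases hdec w hw with hw0 | ⟨o', ho', rfl⟩
    · rw [hθ'O _ hu0, hθ'O _ hw0, hθ'O _ (hOadd u w hu0 hw0), hadd u w hu0 hw0]
    · rw [hθ'O _ hu0, hθ'p o' ho', ← add_assoc, hθ'p _ (hOadd u o' hu0 ho'), hadd u o' hu0 ho']
    · rw [hθ'p o ho, hθ'O _ hw0, add_right_comm, hθ'p _ (hOadd o w ho hw0), hadd o w ho hw0]
    · rw [hθ'p o ho, hθ'p o' ho', show o + p + (o' + p) = (o + o') + z by rw [hz]; abel,
        hθ'O _ (hOadd _ _ (hOadd o o' ho ho') hp2), hadd _ _ (hOadd o o' ho ho') hp2, hθz,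
        add_zero, hadd o o' ho ho']
  have hθ'0 : θ' 0 = 0 := by rw [hθ'O 0 (add_zero 0), hθ0]
  have hθ'neg : ∀ w ∈ U', θ' (-w) = θ' w := fun w hw => by
    have := hθ'add w hw (-w) (U'.neg_mem hw)
    rw [add_neg_cancel, hθ'0] at this
    calc θ' (-w) = θ' w + (θ' w + θ' (-w)) := by rw [← add_assoc, hdz, zero_add]
      _ = θ' w := by rw [← this, add_zero]
  have hθ'sub : ∀ u ∈ U', ∀ w ∈ U', θ' (u - w) = θ' u + θ' w := fun u hu w hw => by
    rw [sub_eq_add_neg, hθ'add u hu _ (U'.neg_mem hw), hθ'neg w hw]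
  have hgU : ∀ (g : W →+ W) w, w ∈ U' → g w ∈ U' := fun g w hw => by
    show (g w + g w) + (g w + g w) = 0
    rw [← map_add, ← map_add, show w + w + (w + w) = 0 from hw, map_zero]
  have hgθ : ∀ (g : W →+ W) (G : Vec → Vec), g p = p → (∀ w : W, w + w = 0 → θ (g w) = G (θ w)) →
      ∀ w ∈ U', θ' (g w) = G (θ' w) := by
    intro g G hgp hg w hw
    rcases hdec w hw with h0 | ⟨o, ho, rfl⟩
    · rw [hθ'O _ h0, hθ'O _ (hOg g w h0), hg w h0]
    · rw [map_add, hgp, hθ'p _ (hOg g o ho), hθ'p o ho, hg o ho]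
  have hθA := hgθ A (mA *ᵥ ·) hAp hA
  have hθT := hgθ T (mT *ᵥ ·) hTp hT
  have hθB : ∀ w ∈ U', θ' (opB A T w) = vB (θ' w) := fun w hw => by
    simp only [opB, vB]
    rw [hθT _ (hgU A _ (hgU T _ (hgU T _ hw))), hθA _ (hgU T _ (hgU T _ hw)), hθT _ (hgU T _ hw),
      hθT _ hw]
  have hBU : ∀ w, w ∈ U' → opB A T w ∈ U' := fun w hw => hgU T _ (hgU A _ (hgU T _ (hgU T _ hw)))
  have hθC : ∀ w ∈ U', θ' (opC A T w) = vC (θ' w) := fun w hw => by
    simp only [opC, vC]
    rw [hθA _ (hBU w hw), hθB w hw]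
  -- the subgroup over the centre
  let K₁ : AddSubgroup W :=
    { carrier := {w | w ∈ U' ∧ Low (θ' w)}
      zero_mem' := ⟨U'.zero_mem, Or.inl hθ'0⟩
      add_mem' := fun {u w} hu hw => ⟨U'.add_mem hu.1 hw.1, by
        rw [hθ'add u hu.1 w hw.1]
        rcases hu.2 with e | e <;> rcases hw.2 with e' | e' <;> rw [e, e']
        · exact Or.inl (add_zero 0)
        · exact Or.inr (zero_add _)
        · exact Or.inr (add_zero _)
        · exact Or.inl (hdz _)⟩
      neg_mem' := fun {u} hu => ⟨U'.neg_mem hu.1, by rw [hθ'neg u hu.1]; exact hu.2⟩ }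
  let L : AddSubgroup W :=
    { carrier := {w | w + w = 0 ∧ w ∈ K₁}
      zero_mem' := ⟨add_zero 0, K₁.zero_mem⟩
      add_mem' := fun {u w} hu hw => ⟨hOadd u w hu.1 hw.1, K₁.add_mem hu.2 hw.2⟩
      neg_mem' := fun {u} hu => by rw [hnegO u hu.1]; exact hu }
  have hzL : z ∈ L := ⟨hp2, hzU z hp2, Or.inl (by rw [hθ'O z hp2, hθz])⟩
  have hpK : p ∈ K₁ := ⟨hpU, Or.inl (by
    have := hθ'p 0 (add_zero 0)
    rw [zero_add, hθ0] at this
    exact this)⟩
  have hdblK : ∀ w : W, w + w ∈ K₁ := fun w => by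
    rcases hval w with e | e | e | e <;> rw [e]
    · exact K₁.zero_mem
    · exact hzL.2
    · exact hpK
    · exact K₁.add_mem hpK hzL.2
  have hdblL : ∀ w ∈ U', w + w ∈ L := fun w hw => by
    rcases hU' w hw with e | e <;> rw [e]
    · exact L.zero_mem
    · exact hzL
  -- `K₁` is fixed
  have hKT : ∀ k ∈ K₁, T k = k := by
    intro k hk
    have hd : θ (T k - k) = 0 ∧ (T k - k) + (T k - k) = 0 := by
      have hm : T k - k ∈ U' := U'.sub_mem (hgU T k hk.1) hk.1
      have h2 : (T k - k) + (T k - k) = 0 := by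
        have e : T k - k + (T k - k) = T (k + k) - (k + k) := by rw [map_add]; abel
        rw [e]
        rcases hU' k hk.1 with e' | e' <;> rw [e']
        · simp
        · rw [hTz, sub_self]
      refine ⟨?_, h2⟩
      rw [← hθ'O _ h2, hθ'sub _ (hgU T k hk.1) _ hk.1, hθT k hk.1, mT_low _ hk.2, hdz]
    obtain ⟨i, hi, ei⟩ : ∃ i, (i = 0 ∨ i = z) ∧ T k = k + i :=
      ⟨T k - k, (hker _ hd.2).1 hd.1, by abel⟩
    have hTi : T i = i := by rcases hi with rfl | rfl <;> simp [hTz]
    have hi2 : i + i = 0 := by rcases hi with rfl | rfl <;> simp [hp2]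
    have e := h.cube k
    rw [ei, map_add, ei, hTi, map_add, map_add, ei, hTi] at e
    rw [show k + i + i + i = k + i + (i + i) by abel, hi2, add_zero, add_eq_left] at e
    rw [ei, e, add_zero]
  have hKfix : ∀ k ∈ K₁, A k = k ∧ opB A T k = k ∧ opC A T k = k := by
    intro k hk
    have hd : θ (A k - k) = 0 ∧ (A k - k) + (A k - k) = 0 := by
      have h2 : (A k - k) + (A k - k) = 0 := by
        have e : A k - k + (A k - k) = A (k + k) - (k + k) := by rw [map_add]; abel
        rw [e]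
        rcases hU' k hk.1 with e' | e' <;> rw [e']
        · simp
        · rw [hAz, sub_self]
      refine ⟨?_, h2⟩
      rw [← hθ'O _ h2, hθ'sub _ (hgU A k hk.1) _ hk.1, hθA k hk.1, mA_low _ hk.2, hdz]
    rcases (hker _ hd.2).1 hd.1 with e | e
    · exact h.fix_all (i := 0) (hKT k hk) (map_zero T) (by rw [add_zero, ← sub_eq_zero, e])
        (map_zero A) (add_zero 0)
    · exact h.fix_all (i := z) (hKT k hk) hTz (by rw [← e]; abel) hAz hp2
  have hAU : ∀ w ∈ U', A w - w ∈ L := fun w hw => by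
    refine ⟨?_, U'.sub_mem (hgU A w hw) hw, ?_⟩
    · rw [show A w - w + (A w - w) = A (w + w) - (w + w) by rw [map_add]; abel]
      rcases hU' w hw with e | e <;> rw [e]
      · simp
      · rw [hAz, sub_self]
    · rw [hθ'sub _ (hgU A w hw) _ hw, hθA w hw]; exact mA_sub _
  have hBsub : ∀ w, opB A T w - w = T (A (T (T w)) - T (T w)) := fun w => by
    simp only [opB, map_sub, h.cube]
  have hCsub : ∀ w, opC A T w - w = A (opB A T w - w) + (A w - w) := fun w => by
    rw [opC, map_sub]; abel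
  have hTL : ∀ l ∈ L, T l = l := fun l hl => hKT l hl.2
  have hAL : ∀ l ∈ L, A l = l := fun l hl => (hKfix l hl.2).1
  have hcard8 : Nat.card L ≤ 4 := by
    refine le_trans (Nat.card_le_card_of_surjective (fun i : Bool × Bool =>
      (⟨(if i.1 then z else 0) + (if i.2 then Classical.choose (hsur e0) else 0), ?_⟩ : L)) ?_)
      (by simp)
    · obtain ⟨h1, h2⟩ := Classical.choose_spec (hsur e0)
      refine L.add_mem (by cases i.1 <;> [exact L.zero_mem; exact hzL]) ?_
      split_ifs
      · exact ⟨h1, hzU _ h1, Or.inr ((hθ'O _ h1).trans h2)⟩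
      · exact L.zero_mem
    · rintro ⟨w, hw2, hwU, hwl⟩
      rw [hθ'O w hw2] at hwl
      obtain ⟨h1, h2⟩ := Classical.choose_spec (hsur e0)
      rcases hwl with e | e
      · rcases (hker w hw2).1 e with rfl | rfl
        · exact ⟨(false, false), Subtype.ext (by simp)⟩
        · exact ⟨(true, false), Subtype.ext (by simp)⟩
      · have h3 : θ (w + Classical.choose (hsur e0)) = 0 := by rw [hadd _ _ hw2 h1, e, h2, hdz]
        rcases (hker _ (hOadd _ _ hw2 h1)).1 h3 with e' | e'
        · refine ⟨(false, true), Subtype.ext ?_⟩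
          simp only [Bool.false_eq_true, if_false, if_true, zero_add]
          rw [eq_neg_of_add_eq_zero_left e', hnegO _ h1]
        · refine ⟨(true, true), Subtype.ext ?_⟩
          simp only [if_true]
          calc z + Classical.choose (hsur e0)
              = w + (Classical.choose (hsur e0) + Classical.choose (hsur e0)) := by rw [← e']; abel
            _ = w := by rw [h1, add_zero]
  let sec : Vec → W := fun t => Classical.choose (hsur t)
  have hsec : ∀ t, sec t + sec t = 0 ∧ θ (sec t) = t := fun t => Classical.choose_spec (hsur t)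
  have hU32 : 32 ≤ Nat.card U' := by
    let f : Bool × Bool × Vec → U' := fun i =>
      ⟨(if i.1 then p else 0) + ((if i.2.1 then z else 0) + sec i.2.2), U'.add_mem
        (by cases i.1 <;> [exact U'.zero_mem; exact hpU]) (U'.add_mem
          (by cases i.2.1 <;> [exact U'.zero_mem; exact hzU z hp2]) (hzU _ (hsec _).1))⟩
    have hinj : Function.Injective f := by
      rintro ⟨i, j, t⟩ ⟨i', j', t'⟩ e
      have e : (if i then p else 0) + ((if j then z else 0) + sec t) =
          (if i' then p else 0) + ((if j' then z else 0) + sec t') := congrArg Subtype.val e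
      have hd := congrArg (fun w => w + w) e
      have hjz : ∀ (b : Bool) (t : Vec), ((if b then z else 0) + sec t) + ((if b then z else 0) + sec t) = 0 :=
        fun b t => hOadd _ _ (by cases b <;> simp [hp2]) (hsec t).1
      change _ + _ = _ + _ at hd
      rw [add_add_add_comm, hjz, add_zero, add_add_add_comm, hjz, add_zero] at hd
      have hii : i = i' := by cases i <;> cases i' <;> simp [show p + p ≠ 0 from hp0, Ne.symm (show p + p ≠ 0 from hp0)] at hd ⊢
      subst hii
      have e2 := add_left_cancel e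
      have e3 := congrArg θ e2
      have hθz' : ∀ b : Bool, θ (if b then z else 0) = 0 := fun b => by cases b <;> simp [hθz, hθ0]
      rw [hadd _ _ (by cases j <;> simp [hp2]) (hsec t).1, hadd _ _ (by cases j' <;> simp [hp2]) (hsec t').1,
        hθz', hθz', zero_add, zero_add, (hsec t).2, (hsec t').2] at e3
      subst e3
      have e4 := add_right_cancel e2
      have hz0 : z ≠ 0 := hp0
      have hjj : j = j' := by cases j <;> cases j' <;> simp [hz0, Ne.symm hz0] at e4 ⊢
      subst hjj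
      rfl
    simpa using Nat.card_le_card_of_injective f hinj
  by_cases hI : A x - x ∈ L
  · -- the moves of `x` lie over the centre
    have hAW : ∀ w, A w - w ∈ L := fun w => by
      rcases hsplit w with hw | hw
      · exact hAU w hw
      · have e : A w - w = (A (w - x) - (w - x)) + (A x - x) := by rw [map_sub]; abel
        rw [e]; exact L.add_mem (hAU _ hw) hI
    have hBW : ∀ w, opB A T w - w ∈ L := fun w => by
      rw [hBsub, hTL _ (hAW _)]; exact hAW _
    have hCW : ∀ w, opC A T w - w ∈ L := fun w => by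
      rw [hCsub, hAL _ (hBW w)]; exact L.add_mem (hBW w) (hAW w)
    have he := hP _ _ _ h₀
    have hxU : x ∉ U' := fun hxU => hp0 (by
      have : (x + x) + (x + x) = 0 := hxU
      rwa [hx] at this)
    have hsum : d₀ + (σ₀ + T σ₀ + T (T σ₀)) ∈ K₁ := by
      have e : d₀ + (σ₀ + T σ₀ + T (T σ₀)) =
          (A q₀ - q₀) + (q₀ + q₀) - (opC A T (T σ₀) - T σ₀) := by
        calc d₀ + (σ₀ + T σ₀ + T (T σ₀))
            = (d₀ + opC A T (T σ₀) + T (T σ₀)) + σ₀ - (opC A T (T σ₀) - T σ₀) := by abel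
          _ = _ := by rw [he.mix]; abel
      rw [e]
      exact K₁.sub_mem (K₁.add_mem (hAW q₀).2 (hdblK q₀)) (hCW _).2
    have hdU : d₀ ∈ U' := by
      have h2 : d₀ + d₀ ∈ L := by
        have e : d₀ + d₀ = -(opC A T (T σ₀) - T σ₀) - (opB A T d₀ - d₀) := by
          calc d₀ + d₀ = (opB A T d₀ + d₀) - (opB A T d₀ - d₀) := by abel
            _ = _ := by rw [he.back]; abel
        rw [e]; exact L.sub_mem (L.neg_mem (hCW _)) (hBW _)
      exact h2.1
    have hTU : ∀ w, w ∉ U' → T w ∉ U' := fun w hw hTw => hw (by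
      have := hgU T _ (hgU T _ hTw); rwa [h.cube] at this)
    have hσU : σ₀ ∈ U' := by
      by_contra hσ
      have hs : σ₀ + T σ₀ + T (T σ₀) ∈ U' := by
        have := U'.sub_mem hsum.1 hdU
        rwa [add_sub_cancel_left] at this
      have h1 := (hsplit σ₀).resolve_left hσ
      have h2 := (hsplit (T σ₀)).resolve_left (hTU _ hσ)
      have h3 := (hsplit (T (T σ₀))).resolve_left (hTU _ (hTU _ hσ))
      have := U'.sub_mem (U'.sub_mem hs (U'.add_mem (U'.add_mem h1 h2) h3)) hpU
      rw [show σ₀ + T σ₀ + T (T σ₀) - (σ₀ - x + (T σ₀ - x) + (T (T σ₀) - x)) - p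
        = x + ((x + x) - p) by abel, hx, sub_self, add_zero] at this
      exact hxU this
    have hTσ := hgU T _ hσU
    have hd : d₀ ∈ K₁ := by
      refine ⟨hdU, ?_⟩
      have h1 := hsum.2
      rw [hθ'add _ hdU _ (U'.add_mem (U'.add_mem hσU hTσ) (hgU T _ hTσ)),
        hθ'add _ (U'.add_mem hσU hTσ) _ (hgU T _ hTσ), hθ'add _ hσU _ hTσ, hθT _ hTσ, hθT _ hσU] at h1
      have h2 := sum_low (θ' σ₀)
      have e : θ' d₀ = (θ' d₀ + (θ' σ₀ + mT *ᵥ θ' σ₀ + mT *ᵥ (mT *ᵥ θ' σ₀))) +
          (θ' σ₀ + mT *ᵥ θ' σ₀ + mT *ᵥ (mT *ᵥ θ' σ₀)) := by rw [add_assoc, hdz, add_zero]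
      rw [e]
      rcases h1 with e1' | e1' <;> rcases h2 with e2 | e2 <;> rw [e1', e2]
      · exact Or.inl (add_zero 0)
      · exact Or.inr (zero_add _)
      · exact Or.inr (add_zero _)
      · exact Or.inl (hdz _)
    have hσK : σ₀ ∈ K₁ := by
      refine ⟨hσU, square_fixed _ ?_ ?_⟩
      · rw [← hθA _ hσU, he.fix]
      · have h2 := congrArg θ' he.back
        rw [(hKfix _ hd).2.1, hθ'sub _ hTσ _ (show opC A T (T σ₀) ∈ U' from hgU A _ (hBU _ hTσ))] at h2
        have h3 : θ' (d₀ + d₀) = 0 := by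
          rcases hU' _ hdU with e | e <;> rw [e]
          · exact hθ'0
          · rw [hθ'O z hp2, hθz]
        rw [h3, hθC _ hTσ, hθT _ hσU] at h2
        calc vC (mT *ᵥ θ' σ₀) = (mT *ᵥ θ' σ₀ + mT *ᵥ θ' σ₀) + vC (mT *ᵥ θ' σ₀) := by
              rw [hdz, zero_add]
          _ = mT *ᵥ θ' σ₀ := by rw [add_assoc, ← h2, add_zero]
    refine ⟨σ₀, q₀, d₀, K₁, ⊤, h₀, le_top, by rw [hKT _ hσK]; exact hσK,
      by rw [hKT _ hσK, hKT _ hσK]; exact hσK, hd, fun w _ => ⟨hdblK w, (hBW w).2, (hCW w).2⟩, ?_⟩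
    have hK8 : Nat.card K₁ ≤ 2 * Nat.card L := by
      refine le_trans (Nat.card_le_card_of_surjective (fun i : Bool × L =>
        (⟨(if i.1 then p else 0) + i.2.1, K₁.add_mem
          (by cases i.1 <;> [exact K₁.zero_mem; exact hpK]) i.2.2.2⟩ : K₁)) ?_) (by simp)
      rintro ⟨w, hw⟩
      by_cases h0 : w + w = 0
      · exact ⟨(false, ⟨w, h0, hw⟩), Subtype.ext (by simp)⟩
      · exact ⟨(true, ⟨w - p, hsub w hw.1 h0, K₁.sub_mem hw hpK⟩), Subtype.ext (by simp)⟩
    have h64 : 2 * Nat.card U' ≤ Nat.card (⊤ : AddSubgroup W) := by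
      let f : Bool × U' → (⊤ : AddSubgroup W) := fun i =>
        ⟨(if i.1 then x else 0) + i.2.1, AddSubgroup.mem_top _⟩
      have hinj : Function.Injective f := by
        rintro ⟨i, u⟩ ⟨j, w⟩ e
        have e : (if i then x else 0) + u.1 = (if j then x else 0) + w.1 := congrArg Subtype.val e
        have hij : i = j := by
          cases i <;> cases j <;> simp at e ⊢
          · exact hxU (by rw [show x = u.1 - w.1 by rw [e]; abel]; exact U'.sub_mem u.2 w.2)
          · exact hxU (by rw [show x = w.1 - u.1 by rw [← e]; abel]; exact U'.sub_mem w.2 u.2)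
        subst hij
        exact Prod.ext rfl (Subtype.ext (add_left_cancel e))
      simpa using Nat.card_le_card_of_injective f hinj
    omega
  · -- the moves of `x` do not lie over the centre
    set c := A x - x with hc
    have hcO : c + c = 0 := by
      rw [hc, show A x - x + (A x - x) = A (x + x) - (x + x) by rw [map_add]; abel, hx, hAp, sub_self]
    have hcU := hzU c hcO
    have hcn : ¬ Low (θ' c) := fun hl => hI ⟨hcO, hcU, hl⟩
    have hcA : mA *ᵥ θ' c = θ' c := by
      rw [← hθA c hcU]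
      have e : A c = -c := by rw [hc, map_sub, h.invol]; abel
      rw [e, hθ'neg c hcU]
    have hσU : ∀ σ q d, P σ q d → σ ∈ U' := fun σ q d hp => by
      refine (hsplit σ).resolve_right fun hs => hI ?_
      have e : A x - x = -(A (σ - x) - (σ - x)) := by rw [map_sub, (hP _ _ _ hp).fix]; abel
      show A x - x ∈ L
      rw [e]; exact L.neg_mem (hAU _ hs)
    obtain ⟨σ, q, d, hp, hσ⟩ : ∃ σ q d, P σ q d ∧ σ ∈ K₁ := by
      have hs := hσU _ _ _ h₀
      have hsA : mA *ᵥ θ' σ₀ = θ' σ₀ := by rw [← hθA _ hs, (hP _ _ _ h₀).fix]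
      rcases fixed_plane _ _ hsA hcA hcn with hl | hl
      · exact ⟨_, _, _, h₀, hs, hl⟩
      · obtain ⟨q, d, hp⟩ := hmove _ _ _ h₀ x
        refine ⟨_, q, d, hp, hσU _ _ _ hp, ?_⟩
        have e : σ₀ + x + A x = σ₀ + c + p := by rw [hc, ← hx]; abel
        rw [e, hθ'add _ (U'.add_mem hs hcU) _ hpU, hθ'add _ hs _ hcU,
          show θ' p = 0 by simpa [hθ0] using hθ'p 0 (add_zero 0), add_zero]
        exact hl
    have he := hP _ _ _ hp
    have hT1 : T σ = σ := hKT _ hσ
    have hC1 : opC A T σ = σ := (hKfix _ hσ).2.2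
    have hd : d = (A q - q) + (q + q) - (σ + σ + σ) := by
      have h1 := he.mix
      rw [hT1, hC1, hT1] at h1
      calc d = (d + σ + σ) - (σ + σ) := by abel
        _ = _ := by rw [h1]; abel
    have hback : opB A T d + d = 0 := by
      have := he.back
      rw [hT1, hC1, sub_self] at this
      exact this
    have h3 : σ + σ + σ ∈ K₁ := K₁.add_mem (K₁.add_mem hσ hσ) hσ
    have hqU : q ∈ U' := by
      refine (hsplit q).resolve_right fun hq => ?_
      have e : A q - q = c + (A (q - x) - (q - x)) := by rw [hc, map_sub]; abel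
      have hk : d - c ∈ K₁ := by
        rw [hd, e, show c + (A (q - x) - (q - x)) + (q + q) - (σ + σ + σ) - c =
          (A (q - x) - (q - x)) + (q + q) - (σ + σ + σ) by abel]
        exact K₁.sub_mem (K₁.add_mem (hAU _ hq).2 (hdblK q)) h3
      have hdU : d ∈ U' := by simpa using U'.add_mem hk.1 hcU
      have hθd : θ' d = θ' c + θ' (d - c) := by
        rw [hθ'sub _ hdU _ hcU, ← add_assoc, add_comm (θ' c), add_assoc, hdz, add_zero]
      have h2 := congrArg θ' hback
      rw [hθ'add _ (hBU _ hdU) _ hdU, hθB _ hdU, hθd, moved_plane _ _ hcA hcn hk.2, hθ'0] at h2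
      exact e0_ne h2
    have hdK : d ∈ K₁ := by
      rw [hd]
      exact K₁.sub_mem (K₁.add_mem (hAU _ hqU).2 (hdblK q)) h3
    have hdL : d ∈ L := by
      refine ⟨?_, hdK⟩
      rwa [(hKfix _ hdK).2.1] at hback
    have hσL : σ ∈ L := by
      have e : σ = ((A q - q) + (q + q) - d) - (σ + σ) := by rw [hd]; abel
      rw [e]
      exact L.sub_mem (L.sub_mem (L.add_mem (hAU _ hqU) (hdblL _ hqU)) hdL) (hdblL _ hσ.1)
    refine ⟨σ, q, d, L, U', hp, fun w hw => hzU w hw.1, by rw [hT1]; exact hσL,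
      by rw [hT1, hT1]; exact hσL, hdL, fun w hw => ?_, by omega⟩
    have hT2 : T (T w) ∈ U' := hgU T _ (hgU T _ hw)
    have hB' : opB A T w - w ∈ L := by rw [hBsub, hTL _ (hAU _ hT2)]; exact hAU _ hT2
    refine ⟨hdblL w hw, hB', ?_⟩
    rw [hCsub, hAL _ hB']
    exact L.add_mem hB' (hAU w hw)

end CfsgLib.RankFourLinear
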