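import Cfsg.Agent.Lib.RankFourLinear.Matrices

/-!
The identities between the squares, the commutator and the product of three conjugate lifts of
transvections with a common centre.
-/

set_option autoImplicit false
set_option linter.style.haveILetI false

namespace CfsgLib.RankFourLinear

open Matrix

variable {W : Type*} [AddCommGroup W]

/-- The second conjugate of `A`. -/
def opB (A T : W →+ W) (w : W) : W := T (A (T (T w)))

/-- The product of the first two. -/
def opC (A T : W →+ W) (w : W) : W := A (opB A T w)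

/-- The action of an involution and an element of order three. -/
structure Act (A T : W →+ W) : Prop where
  invol : ∀ w, A (A w) = w
  cube : ∀ w, T (T (T w)) = w
  prod : ∀ w, T (T (A (T w))) = A (T (A (T (T w))))

/-- The equations of three conjugate lifts with squares `σ`, `T σ`, `T (T σ)`, with product `q` and
commutator `d` of the last two. -/
structure Eqs (A T : W →+ W) (σ q d : W) : Prop where
  fix : A σ = σ
  rel : T q = A q
  mix : d + opC A T (T σ) + T (T σ) = A q + q - σ
  back : opB A T d + d = T σ - opC A T (T σ)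

/-- What is needed for an elementary section of order thirty-two. -/
def Good (A T : W →+ W) (σ d : W) (K U : AddSubgroup W) : Prop :=
  K ≤ U ∧ T σ ∈ K ∧ T (T σ) ∈ K ∧ d ∈ K ∧
    (∀ u ∈ U, u + u ∈ K ∧ opB A T u - u ∈ K ∧ opC A T u - u ∈ K) ∧
      8 * Nat.card K ≤ Nat.card U

namespace Act

variable {A T : W →+ W} (h : Act A T)
include h

theorem invol' (w : W) : opB A T (opB A T w) = w := by
  simp only [opB, h.cube, h.invol]

theorem twist_A (w : W) : T (A w) = opB A T (T w) := by
  simp only [opB, h.cube]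

theorem twist_B (w : W) : T (opB A T w) = opC A T (T w) := by
  simp only [opC, opB, h.cube]
  simpa [h.cube] using h.prod (T w)

theorem twist_C (w : W) : T (opC A T w) = A (T w) := by
  have e : opC A T w = T (T (A (T w))) := (h.prod w).symm
  rw [e, h.cube]

theorem fix_all {k : W} {i : W} (hT : T k = k) (hTi : T i = i) (hA : A k = k + i) (hAi : A i = i)
    (h2 : i + i = 0) : A k = k ∧ opB A T k = k ∧ opC A T k = k := by
  have hB : opB A T k = k + i := by simp only [opB, hT, hA, map_add, hTi]
  have hC : opC A T k = k := by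
    rw [opC, hB, map_add, hA, hAi, add_assoc, h2, add_zero]
  have hi : i = 0 := by
    have e := h.twist_B k
    rw [hT, hB, hC, map_add, hT, hTi, add_eq_left] at e
    exact e
  exact ⟨by rw [hA, hi, add_zero], by rw [hB, hi, add_zero], hC⟩

theorem eqs_fix {σ q d : W} (he : Eqs A T σ q d) (hd : opB A T d + d = 0) :
    (A σ = σ ∧ opB A T σ = σ ∧ opC A T σ = σ) ∧ A (T σ) = T σ ∧ opB A T (T σ) = T σ ∧
      opC A T (T σ) = T σ ∧ A (T (T σ)) = T (T σ) := by
  have hC : opC A T (T σ) = T σ := by
    have h' := he.back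
    rw [hd] at h'
    exact (sub_eq_zero.1 h'.symm).symm
  have hB : opB A T (T σ) = T σ := by rw [← h.twist_A, he.fix]
  have hA : A (T σ) = T σ := by
    have : opC A T (T σ) = A (T σ) := by rw [opC, hB]
    rw [← this, hC]
  have hA2 : A (T (T σ)) = T (T σ) := by rw [← h.twist_C, hC]
  have hB2 : opB A T (T (T σ)) = T (T σ) := by rw [← h.twist_A, hA]
  refine ⟨⟨he.fix, ?_, ?_⟩, hA, hB, hC, hA2⟩
  · simp only [opB, hA2, h.cube]
  · have : opB A T σ = σ := by simp only [opB, hA2, h.cube]
    rw [opC, this, he.fix]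

end Act

/-! ### A homocyclic radical -/

section Squares

variable [Finite W] {A T : W →+ W}

set_option maxHeartbeats 1600000 in
theorem homocyclic (h : Act A T) (θ : W →+ Vec) (hsur : Function.Surjective θ)
    (hker : ∀ w, θ w = 0 ↔ w + w = 0) (hA : ∀ w, θ (A w) = mA *ᵥ θ w)
    (hT : ∀ w, θ (T w) = mT *ᵥ θ w) (hexp : ∀ w : W, (w + w) + (w + w) = 0)
    (hR : Nat.card {w : W // w + w = 0} ≤ 16) {P : W → W → W → Prop}
    (hP : ∀ σ q d, P σ q d → Eqs A T σ q d)
    (hmove : ∀ σ q d, P σ q d → ∀ x, ∃ q' d', P (σ + x + A x) q' d')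
    {σ₀ q₀ d₀ : W} (h₀ : P σ₀ q₀ d₀) :
    ∃ σ q d K U, P σ q d ∧ Good A T σ d K U := by
  classical
  have hB : ∀ w, θ (opB A T w) = vB (θ w) := fun w => by simp only [opB, vB, hA, hT]
  have hC : ∀ w, θ (opC A T w) = vC (θ w) := fun w => by simp only [opC, vC, hA, hB]
  have hneg : ∀ w : Vec, -w = w := fun w => funext fun i => ZMod.neg_eq_self_mod_two _
  have hdz : ∀ w : Vec, w + w = 0 := fun w => funext fun i => CharTwo.add_self_eq_zero _
  -- doubling
  let sec : Vec → W := Function.surjInv hsur
  have hsec : ∀ w, θ (sec w) = w := Function.surjInv_eq hsur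
  let μ : Vec → W := fun w => sec w + sec w
  have hdouble : ∀ u, u + u = μ (θ u) := fun u => by
    have : θ (u - sec (θ u)) = 0 := by rw [map_sub, hsec, sub_self]
    have := (hker _).1 this
    rw [← sub_eq_zero]
    calc u + u - (sec (θ u) + sec (θ u)) = (u - sec (θ u)) + (u - sec (θ u)) := by abel
      _ = 0 := this
  have hμ0 : μ 0 = 0 := by rw [← map_zero θ, ← hdouble, add_zero]
  have hμadd : ∀ x y, μ (x + y) = μ x + μ y := fun x y => by
    rw [← hsec x, ← hsec y, ← map_add, ← hdouble, ← hdouble, ← hdouble]; abel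
  have hμR : ∀ x, μ x + μ x = 0 := fun x => hexp (sec x)
  have hμθ : ∀ x, θ (μ x) = 0 := fun x => (hker _).2 (hμR x)
  have hμinj : Function.Injective μ := fun x y e => by
    have e' : (sec x - sec y) + (sec x - sec y) = 0 := by
      rw [← sub_eq_zero.2 e]; simp only [μ]; abel
    have := (hker _).2 e'
    rw [map_sub, hsec, hsec, sub_eq_zero] at this
    exact this
  have hμA : ∀ x, A (μ x) = μ (mA *ᵥ x) := fun x => by
    show A (sec x + sec x) = _
    rw [map_add, hdouble, hA, hsec]
  have hμT : ∀ x, T (μ x) = μ (mT *ᵥ x) := fun x => by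
    show T (sec x + sec x) = _
    rw [map_add, hdouble, hT, hsec]
  have hμB : ∀ x, opB A T (μ x) = μ (vB x) := fun x => by simp only [opB, vB, hμA, hμT]
  have hnegR : ∀ r, θ r = 0 → -r = r := fun r hr => neg_eq_of_add_eq_zero_left ((hker r).1 hr)
  -- the line
  let v : W := μ e0
  have hv2 : v + v = 0 := hμR _
  let L : AddSubgroup W :=
    { carrier := {w | w = 0 ∨ w = v}
      zero_mem' := Or.inl rfl
      add_mem' := by
        rintro x y (rfl | rfl) (rfl | rfl) <;> simp [hv2]
      neg_mem' := by
        rintro x (rfl | rfl)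
        · exact Or.inl neg_zero
        · exact Or.inr (neg_eq_of_add_eq_zero_left hv2) }
  have hLμ : ∀ x, μ x ∈ L ↔ Low x := fun x =>
    ⟨fun hx => hx.imp (fun e => hμinj (e.trans hμ0.symm)) fun e => hμinj e,
      fun hx => hx.imp (fun e => by rw [e, hμ0]) fun e => by rw [e]⟩
  have hLA : ∀ w ∈ L, A w = w := by
    rintro w (rfl | rfl)
    · simp
    · rw [hμA, mA_low e0 low_e0]
  have hLT : ∀ w ∈ L, T w = w := by
    rintro w (rfl | rfl)
    · simp
    · rw [hμT, mT_low e0 low_e0]
  have hLB : ∀ w ∈ L, opB A T w = w := fun w hw => by simp only [opB, hLT w hw, hLA w hw]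
  have hLθ : ∀ w ∈ L, θ w = 0 := by
    rintro w (rfl | rfl)
    · exact map_zero θ
    · exact hμθ _
  -- step one: the square lies over the centre
  have hlow : ∀ σ q d, P σ q d → Low (θ σ) ∧ Low (θ q) := by
    intro σ q d hp
    have he := hP _ _ _ hp
    have hs : mA *ᵥ θ σ = θ σ := by rw [← hA, he.fix]
    have hq : mT *ᵥ θ q = mA *ᵥ θ q := by rw [← hT, ← hA, he.rel]
    refine ⟨square_low _ (θ q) hs hq ?_, twisted_low _ hq⟩
    have h1 := congrArg θ he.mix
    simp only [map_add, sub_eq_add_neg, map_neg, hneg, hC, hT, hA] at h1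
    have hd : θ d = mA *ᵥ θ q + θ q + θ σ + vC (mT *ᵥ θ σ) + mT *ᵥ (mT *ᵥ θ σ) := by
      rw [← h1]
      calc θ d = θ d + (vC (mT *ᵥ θ σ) + vC (mT *ᵥ θ σ)) + (mT *ᵥ (mT *ᵥ θ σ) + mT *ᵥ (mT *ᵥ θ σ)) := by
            rw [hdz, hdz, add_zero, add_zero]
        _ = _ := by abel
    have h2 := congrArg θ he.back
    simp only [map_add, map_neg, sub_eq_add_neg, hneg, hC, hT, hB] at h2
    rwa [hd] at h2
  -- step two: the square may be taken in `R`
  obtain ⟨σ₁, q₁, d₁, h₁, hσ₁⟩ : ∃ σ q d, P σ q d ∧ θ σ = 0 := by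
    rcases (hlow _ _ _ h₀).1 with e | e
    · exact ⟨_, _, _, h₀, e⟩
    · obtain ⟨q, d, hp⟩ := hmove _ _ _ h₀ (sec e1)
      refine ⟨_, q, d, hp, ?_⟩
      rw [map_add, map_add, hA, hsec, e, add_assoc, add_comm e1, mA_e1, hdz]
  -- the moves of `U`
  have hAu : ∀ x, θ (A x - x) = mA *ᵥ θ x + θ x := fun x => by
    rw [map_sub, sub_eq_add_neg, hneg, hA]
  set u : W := A (sec e1) - sec e1 with hu
  have huθ : θ u = e0 := by rw [hu, hAu, hsec, mA_e1]
  have huA : A u - u = v := by
    have e : A u = -u := by rw [hu, map_sub, h.invol]; abel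
    have h2 : u + u = v := by rw [hdouble, huθ]
    rw [e, show -u - u = -(u + u) by abel, h2]
    exact neg_eq_of_add_eq_zero_left hv2
  -- `R` is at most twice the squares
  have hext : ∀ r r' : W, θ r = 0 → θ r' = 0 → (∀ x, r ≠ μ x) → (∀ x, r' ≠ μ x) →
      ∃ x, r' = r + μ x := by
    intro r r' hr hr' hn hn'
    by_contra hc
    push Not at hc
    let f : Vec ⊕ Vec ⊕ Unit → {w : W // w + w = 0} := Sum.elim (fun x => ⟨μ x, hμR x⟩)
      (Sum.elim (fun x => ⟨r + μ x, (hker _).1 (by rw [map_add, hr, hμθ, add_zero])⟩)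
        fun _ => ⟨r', (hker _).1 hr'⟩)
    have hinj : Function.Injective f := by
      have hk : ∀ x y, r + μ y ≠ μ x := fun x y e => hn (x + y) (by
        rw [hμadd, ← e, add_assoc, hμR, add_zero])
      rintro (x | x | x) (y | y | y) e <;> simp only [f, Sum.elim_inl, Sum.elim_inr, Subtype.mk.injEq] at e
      · rw [hμinj e]
      · exact absurd e.symm (hk x y)
      · exact absurd e.symm (hn' x)
      · exact absurd e (hk y x)
      · rw [hμinj (add_left_cancel e)]
      · exact absurd e.symm (hc x)
      · exact absurd e (hn' y)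
      · exact absurd e (hc y)
      · rfl
    have := Nat.card_le_card_of_injective f hinj
    simp at this
    omega
  have hRtriv : ∀ r, θ r = 0 → ∀ (g : W →+ W) (G : Vec → Vec), (∀ x, g (μ x) = μ (G x)) →
      (∀ x, g (g (g x)) = x ∨ g (g x) = x) → θ (g r) = 0 → ∃ x, g r = r + μ x := by
    intro r hr g G hg hper hgr
    by_cases hr' : ∃ x, r = μ x
    · obtain ⟨x, rfl⟩ := hr'
      exact ⟨x + G x, by rw [hg, ← hμadd, ← add_assoc, hdz, zero_add]⟩
    · push Not at hr'
      refine hext r (g r) hr hgr hr' fun x e => ?_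
      rcases hper r with e3 | e3
      · exact hr' (G (G x)) (by rw [← hg, ← hg, ← e, e3])
      · exact hr' (G x) (by rw [← hg, ← e, e3])
  have hMA : ∀ x, A (μ x) - μ x ∈ L := fun x => by
    rw [hμA, sub_eq_add_neg, hnegR _ (hμθ x), ← hμadd, hLμ]; exact mA_sub x
  have hμLA : ∀ x, mA *ᵥ x = x → A (μ x) = μ x := fun x e => by rw [hμA, e]
  have hcardD : Nat.card Vec = 8 := by simp
  let U₀ : AddSubgroup W :=
    { carrier := {w | Low (θ w)}
      zero_mem' := Or.inl (map_zero θ)
      add_mem' := by
        intro x y hx hy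
        show Low (θ (x + y))
        rw [map_add]
        rcases hx with e | e <;> rcases hy with e' | e' <;> rw [e, e']
        · exact Or.inl (add_zero 0)
        · exact Or.inr (zero_add _)
        · exact Or.inr (add_zero _)
        · exact Or.inl (hdz _)
      neg_mem' := by
        intro x hx
        show Low (θ (-x))
        rwa [map_neg, hneg] }
  by_cases hgood : ∀ r, θ r = 0 → A r - r ∈ L
  · -- the good case
    have hBr : ∀ r, θ r = 0 → opB A T r - r ∈ L := fun r hr => by
      have h2 : θ (T (T r)) = 0 := by rw [hT, hT, hr, mulVec_zero, mulVec_zero]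
      have e : opB A T r - r = T (A (T (T r)) - T (T r)) := by
        simp only [opB, map_sub, h.cube]
      rw [e, hLT _ (hgood _ h2)]
      exact hgood _ h2
    have hsplit : ∀ w ∈ U₀, θ w = 0 ∨ θ (w - u) = 0 := fun w hw => by
      rcases hw with e | e
      · exact Or.inl e
      · exact Or.inr (by rw [map_sub, e, huθ, sub_self])
    have hUA : ∀ w ∈ U₀, A w - w ∈ L := fun w hw => by
      rcases hsplit w hw with e | e
      · exact hgood w e
      · have := L.add_mem (hgood _ e) (huA ▸ Or.inr rfl : A u - u ∈ L)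
        convert this using 1
        rw [map_sub]; abel
    have hUB : ∀ w ∈ U₀, opB A T w - w ∈ L := fun w hw => by
      have h2 : T (T w) ∈ U₀ := by
        show Low (θ (T (T w)))
        rw [hT, hT, mT_low _ hw, mT_low _ hw]; exact hw
      have e : opB A T w - w = T (A (T (T w)) - T (T w)) := by
        simp only [opB, map_sub, h.cube]
      rw [e, hLT _ (hUA _ h2)]
      exact hUA _ h2
    have hUC : ∀ w ∈ U₀, opC A T w - w ∈ L := fun w hw => by
      have e : opC A T w - w = A (opB A T w - w) + (A w - w) := by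
        rw [opC, map_sub]; abel
      rw [e, hLA _ (hUB w hw)]
      exact L.add_mem (hUB w hw) (hUA w hw)
    let K : AddSubgroup W :=
      { carrier := {r | θ r = 0 ∧ T r = r}
        zero_mem' := ⟨map_zero θ, map_zero T⟩
        add_mem' := fun {x y} hx hy =>
          ⟨by rw [map_add, hx.1, hy.1, add_zero], by rw [map_add, hx.2, hy.2]⟩
        neg_mem' := fun {x} hx => ⟨by rw [map_neg, hx.1, neg_zero], by rw [map_neg, hx.2]⟩ }
    have hLK : L ≤ K := fun w hw => ⟨hLθ w hw, hLT w hw⟩
    have hKT : ∀ r, θ r = 0 → T r - r ∈ L → r ∈ K := fun r hr hd => by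
      obtain ⟨l, hl, el⟩ : ∃ l ∈ L, T r = r + l := ⟨_, hd, by abel⟩
      refine ⟨hr, ?_⟩
      have e := h.cube r
      rw [el, map_add, el, hLT l hl, map_add, map_add, el, hLT l hl] at e
      have hl2 : l + l = 0 := (hker l).1 (hLθ l hl)
      have : l = 0 := by
        rw [show r + l + l + l = r + l + (l + l) by abel, hl2, add_zero, add_eq_left] at e
        exact e
      rw [el, this, add_zero]
    have hKfix : ∀ k ∈ K, A k = k ∧ opB A T k = k ∧ opC A T k = k := fun k hk =>
      h.fix_all (i := A k - k) hk.2 (hLT _ (hgood _ hk.1)) (by abel) (hLA _ (hgood _ hk.1))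
        ((hker _).1 (hLθ _ (hgood _ hk.1)))
    have he := hP _ _ _ h₁
    have hqU : q₁ ∈ U₀ := (hlow _ _ _ h₁).2
    have hdθ : θ d₁ = 0 := by
      have h1 := congrArg θ he.mix
      simp only [map_add, sub_eq_add_neg, map_neg, hneg, hC, hT, hA, hσ₁, mulVec_zero] at h1
      have hz : vC 0 = 0 := by simp [vC, vB]
      rw [hz, add_zero, add_zero, add_zero, mA_low _ hqU, hdz] at h1
      exact h1
    have hd : d₁ ∈ K := by
      refine hKT _ hdθ ?_
      -- modulo the line
      let π := QuotientAddGroup.mk' L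
      have hπ : ∀ x y, x - y ∈ L → π x = π y := fun x y hxy => by
        rw [← sub_eq_zero, ← map_sub]; exact (QuotientAddGroup.eq_zero_iff (N := L) _).2 hxy
      have hTσθ : θ (T σ₁) = 0 := by rw [hT, hσ₁, mulVec_zero]
      have e1' : π (opC A T (T σ₁)) = π (T σ₁) := hπ _ _ (hUC _ (Or.inl hTσθ))
      have e2 : π (A q₁) = π q₁ := hπ _ _ (hUA _ hqU)
      have e3 : π (q₁ + q₁) = 0 := (QuotientAddGroup.eq_zero_iff _).2 (by
        rw [hdouble, hLμ]; exact hqU)
      have e4 : π d₁ = -(π σ₁ + π (T σ₁) + π (T (T σ₁))) := by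
        have := congrArg π he.mix
        simp only [map_add, map_sub, e1', e2] at this
        rw [← map_add π q₁ q₁, e3, zero_sub] at this
        rw [eq_neg_iff_add_eq_zero]
        calc π d₁ + (π σ₁ + π (T σ₁) + π (T (T σ₁))) = (π d₁ + π (T σ₁) + π (T (T σ₁))) + π σ₁ := by abel
          _ = 0 := by rw [this]; abel
      have e5 : π (T d₁) = π d₁ := by
        have hmap : ∀ x y, π x = π y → π (T x) = π (T y) := fun x y hxy => hπ _ _ (by
          have hm : x - y ∈ L := (QuotientAddGroup.eq_zero_iff (N := L) _).1 (by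
            show π (x - y) = 0
            rw [map_sub, hxy, sub_self])
          rw [← map_sub, hLT _ hm]; exact hm)
        have := hmap d₁ (-(σ₁ + T σ₁ + T (T σ₁))) (by simp only [e4, map_neg, map_add])
        rw [this, e4]
        simp only [map_neg, map_add, h.cube]
        abel
      have := (QuotientAddGroup.eq_zero_iff (N := L) (T d₁ - d₁)).1 (by
        show π (T d₁ - d₁) = 0
        rw [map_sub, e5, sub_self])
      exact this
    obtain ⟨⟨fA, fB, fC⟩, fA1, fB1, fC1, fA2⟩ := h.eqs_fix he (by
      rw [(hKfix _ hd).2.1]; exact (hker _).1 hdθ)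
    have hTσ : σ₁ ∈ K := by
      refine hKT _ hσ₁ ?_
      obtain ⟨x, hx⟩ := hRtriv σ₁ hσ₁ T _ hμT (fun w => Or.inl (h.cube w))
        (by rw [hT, hσ₁, mulVec_zero])
      rw [hx, add_sub_cancel_left, hLμ]
      refine fixed_pair x (hμinj ?_) (hμinj ?_)
      · have : A (T σ₁) = T σ₁ := fA1
        rw [hx, map_add, fA, add_right_inj, hμA] at this
        exact this
      · have hBadd : opB A T (σ₁ + μ x) = opB A T σ₁ + opB A T (μ x) := by
          simp only [opB, map_add]
        have : opB A T (T σ₁) = T σ₁ := fB1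
        rw [hx, hBadd, fB, add_right_inj, hμB] at this
        exact this
    refine ⟨σ₁, q₁, d₁, K, U₀, h₁, fun w hw => Or.inl hw.1, by rw [hTσ.2]; exact hTσ,
      by rw [hTσ.2, hTσ.2]; exact hTσ, hd, fun w hw => ⟨?_, hLK (hUB w hw), hLK (hUC w hw)⟩, ?_⟩
    · refine hLK ?_
      rw [hdouble, hLμ]; exact hw
    · -- counting
      have h4 : 4 * Nat.card K ≤ Nat.card {w : W // θ w = 0} := by
        let f : {x : Vec // x 0 = 0} × K → {w : W // θ w = 0} := fun p =>
          ⟨μ p.1.1 + p.2, by rw [map_add, hμθ, p.2.2.1, add_zero]⟩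
        have hinj : Function.Injective f := by
          rintro ⟨⟨x, hx⟩, k⟩ ⟨⟨y, hy⟩, k'⟩ e
          have e : μ x + k = μ y + k' := congrArg Subtype.val e
          have hm : μ (x + y) ∈ K := by
            have : μ (x + y) = (k' : W) - k := by
              rw [hμadd]
              calc μ x + μ y = (μ x + k) + μ y - k := by abel
                _ = (μ y + μ y) + k' - k := by rw [e]; abel
                _ = _ := by rw [hμR, zero_add]
            rw [this]; exact K.sub_mem k'.2 k.2
          have hl : Low (x + y) := fixed_low _ (hμinj (by rw [← hμT]; exact hm.2))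
          obtain rfl := plane_card x y hx hy hl
          exact Prod.ext rfl (Subtype.ext (add_left_cancel e))
        have := Nat.card_le_card_of_injective f hinj
        rwa [Nat.card_prod, show Nat.card {x : Vec // x 0 = 0} = 4 by
          rw [Nat.card_eq_fintype_card]; decide] at this
      have h2 : 2 * Nat.card {w : W // θ w = 0} ≤ Nat.card U₀ := by
        let f : Bool × {w : W // θ w = 0} → U₀ := fun p =>
          ⟨(if p.1 then u else 0) + p.2.1, by
            show Low (θ _)
            rw [map_add, p.2.2, add_zero]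
            cases p.1
            · exact Or.inl (by simp)
            · exact Or.inr (by simpa using huθ)⟩
        have hinj : Function.Injective f := by
          rintro ⟨i, x⟩ ⟨j, y⟩ e
          have e : (if i then u else 0) + x.1 = (if j then u else 0) + y.1 := congrArg Subtype.val e
          have e' := congrArg θ e
          simp only [map_add, x.2, y.2, add_zero] at e'
          have hij : i = j := by
            cases i <;> cases j <;> simp [huθ, e0_ne, e0_ne.symm] at e' ⊢
          subst hij
          exact Prod.ext rfl (Subtype.ext (add_left_cancel e))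
        simpa using Nat.card_le_card_of_injective f hinj
      omega
  · -- the bad case
    push Not at hgood
    obtain ⟨r₀, hr₀, hbad₀⟩ := hgood
    have hr₀n : ∀ x, r₀ ≠ μ x := fun x e => hbad₀ (e ▸ hMA x)
    obtain ⟨ω, hω⟩ := hRtriv r₀ hr₀ A _ hμA (fun w => Or.inr (h.invol w)) (by rw [hA, hr₀, mulVec_zero])
    have hωA : mA *ᵥ ω = ω := by
      refine hμinj ?_
      rw [← hμA]
      have := h.invol r₀
      rw [hω, map_add, hω, add_assoc, add_eq_left] at this
      calc A (μ ω) = (μ ω + μ ω) + A (μ ω) := by rw [hμR, zero_add]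
        _ = μ ω + (μ ω + A (μ ω)) := by abel
        _ = μ ω := by rw [this, add_zero]
    have hωn : ¬ Low ω := fun hl => hbad₀ (by rw [hω, add_sub_cancel_left, hLμ]; exact hl)
    -- every element outside the squares behaves alike
    have hbadA : ∀ r, θ r = 0 → (∀ x, r ≠ μ x) → ∃ l, Low l ∧ A r - r = μ (ω + l) := by
      intro r hr hn
      obtain ⟨x, rfl⟩ := hext r₀ r hr₀ hr hr₀n hn
      refine ⟨mA *ᵥ x + x, mA_sub x, ?_⟩
      rw [map_add, hω, hμA, hμadd, hμadd]
      calc r₀ + μ ω + μ (mA *ᵥ x) - (r₀ + μ x) = μ ω + (μ (mA *ᵥ x) - μ x) := by abel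
        _ = _ := by rw [sub_eq_add_neg, hnegR _ (hμθ x)]
    have hbadB : ∀ r, θ r = 0 → (∀ x, r ≠ μ x) →
        ∃ l, Low l ∧ opB A T r - r = μ (mT *ᵥ ω + l) := by
      intro r hr hn
      have h2 : θ (T (T r)) = 0 := by rw [hT, hT, hr, mulVec_zero, mulVec_zero]
      obtain ⟨l, hl, e⟩ := hbadA (T (T r)) h2 fun x e => hn (mT *ᵥ x) (by
        rw [← hμT, ← e, h.cube])
      refine ⟨l, hl, ?_⟩
      have : opB A T r - r = T (A (T (T r)) - T (T r)) := by simp only [opB, map_sub, h.cube]
      rw [this, e, hμT, mulVec_add, mT_low l hl]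
    -- the subgroup `U`
    let U : AddSubgroup W :=
      { carrier := {w | w ∈ U₀ ∧ A w - w ∈ L ∧ opB A T w - w ∈ L}
        zero_mem' := ⟨U₀.zero_mem, by simpa using L.zero_mem, by simpa [opB] using L.zero_mem⟩
        add_mem' := fun {x y} hx hy => ⟨U₀.add_mem hx.1 hy.1, by
          convert L.add_mem hx.2.1 hy.2.1 using 1; rw [map_add]; abel, by
          convert L.add_mem hx.2.2 hy.2.2 using 1; simp only [opB, map_add]; abel⟩
        neg_mem' := fun {x} hx => ⟨U₀.neg_mem hx.1, by
          convert L.neg_mem hx.2.1 using 1; rw [map_neg]; abel, by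
          convert L.neg_mem hx.2.2 using 1; simp only [opB, map_neg]; abel⟩ }
    have hMU : ∀ x, μ x ∈ U := fun x => ⟨Or.inl (hμθ x), hMA x, by
      rw [hμB, sub_eq_add_neg, hnegR _ (hμθ x), ← hμadd, hLμ]; exact vB_sub x⟩
    have huU : u ∈ U := by
      refine ⟨Or.inr huθ, huA ▸ Or.inr rfl, ?_⟩
      set u' : W := opB A T (sec e1) - sec e1 with hu'
      have hu'θ : θ u' = e0 := by
        rw [hu', map_sub, sub_eq_add_neg, hneg, hB, hsec, vB_e1]
      have hu'B : opB A T u' - u' = v := by
        have e : opB A T u' = -u' := by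
          have hsub : ∀ x y, opB A T (x - y) = opB A T x - opB A T y := fun x y => by
            simp only [opB, map_sub]
          rw [hu', hsub, h.invol']; abel
        have h2 : u' + u' = v := by rw [hdouble, hu'θ]
        rw [e, show -u' - u' = -(u' + u') by abel, h2]
        exact neg_eq_of_add_eq_zero_left hv2
      set r := u' - u with hr_def
      have hrθ : θ r = 0 := by rw [hr_def, map_sub, hu'θ, huθ, sub_self]
      have hcomm : ∀ x, opB A T (A x) = A (opB A T x) := fun x => by
        have hcc : ∀ w, opC A T (opC A T w) = w := fun w => by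
          calc opC A T (opC A T w) = opC A T (opC A T (T (T (T w)))) := by rw [h.cube]
            _ = T (opB A T (opB A T (T (T w)))) := by rw [h.twist_B, h.twist_B]
            _ = w := by rw [h.invol', h.cube]
        have := hcc (opB A T (A x))
        simp only [opC, h.invol', h.invol] at this
        exact this.symm
      have hswap : opB A T u - u = A u' - u' := by
        have hsub : ∀ x y, opB A T (x - y) = opB A T x - opB A T y := fun x y => by
          simp only [opB, map_sub]
        rw [hu, hu', hsub, hcomm, map_sub]; abel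
      have hsum : A r - r + (opB A T r - r) = 0 := by
        have e1' : A r - r = (A u' - u') - (A u - u) := by rw [hr_def, map_sub A u' u]; abel
        have e2 : opB A T r - r = (opB A T u' - u') - (opB A T u - u) := by
          rw [hr_def]; simp only [opB, map_sub]; abel
        rw [e1', e2, huA, hu'B, hswap]; abel
      by_cases hrD : ∃ x, r = μ x
      · obtain ⟨x, hx⟩ := hrD
        rw [hswap]
        have e : A u' - u' = (A u - u) + (A r - r) := by rw [hr_def, map_sub A u' u]; abel
        rw [e]
        exact L.add_mem (huA ▸ Or.inr rfl) (hx ▸ hMA x)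
      · push Not at hrD
        obtain ⟨l, hl, el⟩ := hbadA r hrθ hrD
        obtain ⟨l', hl', el'⟩ := hbadB r hrθ hrD
        rw [el, el', ← hμadd, ← hμ0] at hsum
        have := hμinj hsum
        refine absurd ?_ (moved_pair ω hωA hωn)
        have e : ω + mT *ᵥ ω = l + l' := by
          calc ω + mT *ᵥ ω = (ω + l + (mT *ᵥ ω + l')) + (l + l') := by
                rw [show ω + l + (mT *ᵥ ω + l') + (l + l') = ω + mT *ᵥ ω + ((l + l) + (l' + l')) by abel,
                  hdz, hdz, add_zero, add_zero]
            _ = l + l' := by rw [this, zero_add]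
        rw [e]
        rcases hl with rfl | rfl <;> rcases hl' with rfl | rfl <;> decide
    -- the square may be taken in the line
    have hσM : ∀ σ q d, P σ q d → θ σ = 0 → ∃ s, σ = μ s ∧ mA *ᵥ s = s := by
      intro σ q d hp hσ
      have hfix := (hP _ _ _ hp).fix
      by_contra hc
      have hn : ∀ x, σ ≠ μ x := fun x e => hc ⟨x, e, hμinj (by rw [← hμA, ← e, hfix])⟩
      obtain ⟨l, hl, el⟩ := hbadA σ hσ hn
      rw [hfix, sub_self, ← hμ0] at el
      have e2 : ω = l := by
        calc ω = (ω + l) + l := by rw [add_assoc, hdz, add_zero]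
          _ = l := by rw [← hμinj el, zero_add]
      exact hωn (e2 ▸ hl)
    obtain ⟨σ₂, q₂, d₂, h₂, hσ₂⟩ : ∃ σ q d, P σ q d ∧ σ ∈ L := by
      obtain ⟨s, rfl, hsA⟩ := hσM _ _ _ h₁ hσ₁
      rcases fixed_plane s ω hsA hωA hωn with hl | hl
      · exact ⟨_, _, _, h₁, (hLμ s).2 hl⟩
      · obtain ⟨q, d, hp⟩ := hmove _ _ _ h₁ r₀
        refine ⟨_, q, d, hp, ?_⟩
        rw [hω, show μ s + r₀ + (r₀ + μ ω) = (r₀ + r₀) + (μ s + μ ω) by abel,
          (hker r₀).1 hr₀, zero_add, ← hμadd, hLμ]
        exact hl
    have he := hP _ _ _ h₂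
    have hqU : q₂ ∈ U₀ := (hlow _ _ _ h₂).2
    have hT1 : T σ₂ = σ₂ := hLT _ hσ₂
    have hT2 : T (T σ₂) = σ₂ := by rw [hT1, hT1]
    have hC1 : opC A T σ₂ = σ₂ := by rw [opC, hLB _ hσ₂, hLA _ hσ₂]
    have hd2 : d₂ - (A q₂ - q₂) ∈ L := by
      have h1 := he.mix
      rw [hT1, hC1, hT1] at h1
      have e : d₂ - (A q₂ - q₂) = (q₂ + q₂) - (σ₂ + σ₂ + σ₂) := by
        calc d₂ - (A q₂ - q₂) = (d₂ + σ₂ + σ₂) - (σ₂ + σ₂) - A q₂ + q₂ := by abel
          _ = _ := by rw [h1]; abel
      rw [e]
      refine L.sub_mem ?_ (L.add_mem (L.add_mem hσ₂ hσ₂) hσ₂)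
      rw [hdouble, hLμ]; exact hqU
    have hqA : A q₂ - q₂ ∈ L := by
      -- the representative in `R`
      obtain ⟨r, hr, er⟩ : ∃ r, θ r = 0 ∧ (A q₂ - q₂) - (A r - r) ∈ L := by
        rcases hqU with e | e
        · exact ⟨q₂, e, by rw [sub_self]; exact L.zero_mem⟩
        · refine ⟨q₂ - u, by rw [map_sub, e, huθ, sub_self], ?_⟩
          have : (A q₂ - q₂) - (A (q₂ - u) - (q₂ - u)) = A u - u := by rw [map_sub]; abel
          rw [this, huA]; exact Or.inr rfl
      by_contra hq
      have hn : ∀ x, r ≠ μ x := by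
        rintro x rfl
        refine hq ?_
        have := L.add_mem er (hMA x)
        rwa [sub_add_cancel] at this
      obtain ⟨l, hl, el⟩ := hbadA r hr hn
      rw [el] at er
      have hdl : d₂ - μ (ω + l) ∈ L := by
        have := L.add_mem hd2 er
        rwa [sub_add_sub_cancel] at this
      obtain ⟨l', hl', el'⟩ : ∃ l', Low l' ∧ d₂ = μ (ω + l') := by
        rcases hdl with e | e
        · exact ⟨l, hl, sub_eq_zero.1 e⟩
        · refine ⟨l + e0, ?_, ?_⟩
          · rcases hl with rfl | rfl
            · exact Or.inr (zero_add _)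
            · exact Or.inl (hdz _)
          · rw [← add_assoc, hμadd]
            rw [sub_eq_iff_eq_add] at e
            rw [e, add_comm]
      have h2 := he.back
      rw [hT1, hC1, sub_self, el', hμB, ← hμadd, moved_plane ω l' hωA hωn hl', ← hμ0] at h2
      exact e0_ne (hμinj h2)
    have hd : d₂ ∈ L := by
      have := L.add_mem hd2 hqA
      rwa [sub_add_cancel] at this
    refine ⟨σ₂, q₂, d₂, L, U, h₂, fun w hw => ?_, by rw [hT1]; exact hσ₂, by rw [hT2]; exact hσ₂, hd,
      fun w hw => ⟨?_, hw.2.2, ?_⟩, ?_⟩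
    · rcases hw with rfl | rfl
      · exact U.zero_mem
      · exact hMU e0
    · rw [hdouble, hLμ]; exact hw.1
    · have e : opC A T w - w = A (opB A T w - w) + (A w - w) := by rw [opC, map_sub]; abel
      rw [e, hLA _ hw.2.2]
      exact L.add_mem hw.2.2 hw.2.1
    · have hL2 : Nat.card L ≤ 2 := by
        refine le_trans (Nat.card_le_card_of_surjective (fun i : Bool =>
          (⟨if i then v else 0, by cases i <;> [exact Or.inl rfl; exact Or.inr rfl]⟩ : L)) ?_) (by simp)
        rintro ⟨w, rfl | rfl⟩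
        · exact ⟨false, rfl⟩
        · exact ⟨true, rfl⟩
      have h16 : 2 * Nat.card Vec ≤ Nat.card U := by
        let f : Bool × Vec → U := fun p => ⟨(if p.1 then u else 0) + μ p.2, U.add_mem
          (by cases p.1 <;> [exact U.zero_mem; exact huU]) (hMU _)⟩
        have hinj : Function.Injective f := by
          rintro ⟨i, x⟩ ⟨j, y⟩ e
          have e : (if i then u else 0) + μ x = (if j then u else 0) + μ y := congrArg Subtype.val e
          have e' := congrArg θ e
          simp only [map_add, hμθ, add_zero] at e'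
          have hij : i = j := by
            cases i <;> cases j <;> simp [huθ, e0_ne, e0_ne.symm] at e' ⊢
          subst hij
          exact Prod.ext rfl (hμinj (add_left_cancel e))
        simpa using Nat.card_le_card_of_injective f hinj
      omega

end Squares

end CfsgLib.RankFourLinear
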