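import Cfsg.Agent.Lib.RankFourLinear.OrderTwo
import Cfsg.Agent.Lib.SectRank.CenterConjugate

/-!
A natural module cannot occur below the Frattini quotient.
-/

set_option autoImplicit false
set_option linter.style.haveILetI false

namespace CfsgLib.RankFourLinear

open Matrix
open scoped commutatorElement

variable {X : Type*} [Group X] [Finite X] {Q : Subgroup X}

theorem card_vec : Nat.card Vec = 8 := by simp

omit [Finite X] in
theorem Natural.comm_congr {N R : Subgroup X} {θ : X → Vec} {ρ : X →* G3} (h : Natural Q N R θ ρ)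
    (hRc : ∀ r ∈ R, ∀ x ∈ N, r * x = x * r) {u u' v v' : X} (hu : u ∈ N) (hu' : u' ∈ N) (hv : v ∈ N)
    (hv' : v' ∈ N) (eu : θ u = θ u') (ev : θ v = θ v') : ⁅u, v⁆ = ⁅u', v'⁆ := by
  obtain ⟨r, hr, rfl⟩ : ∃ r ∈ R, u' = u * r := ⟨u⁻¹ * u', h.coset hu hu' eu, by group⟩
  obtain ⟨s, hs, rfl⟩ : ∃ s ∈ R, v' = v * s := ⟨v⁻¹ * v', h.coset hv hv' ev, by group⟩
  symm
  simp only [commutatorElement_def, _root_.mul_inv_rev]
  calc u * r * (v * s) * (r⁻¹ * u⁻¹) * (s⁻¹ * v⁻¹)
      = u * (r * (v * s)) * r⁻¹ * u⁻¹ * (s⁻¹ * v⁻¹) := by group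
    _ = u * v * (s * u⁻¹) * s⁻¹ * v⁻¹ := by rw [hRc r hr _ hv']; group
    _ = u * v * u⁻¹ * v⁻¹ := by rw [hRc s hs _ (inv_mem hu)]; group

omit [Finite X] in
theorem Natural.sq_congr {N R : Subgroup X} {θ : X → Vec} {ρ : X →* G3} (h : Natural Q N R θ ρ)
    (hRc : ∀ r ∈ R, ∀ x ∈ N, r * x = x * r) (hR : ∀ r ∈ R, r * r = 1) {u u' : X} (hu : u ∈ N) (hu' : u' ∈ N)
    (eu : θ u = θ u') : u * u = u' * u' := by
  obtain ⟨r, hr, rfl⟩ : ∃ r ∈ R, u' = u * r := ⟨u⁻¹ * u', h.coset hu hu' eu, by group⟩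
  symm
  calc u * r * (u * r) = u * (r * u) * r := by group
    _ = u * (u * r) * r := by rw [hRc r hr u hu]
    _ = u * u * (r * r) := by group
    _ = u * u := by rw [hR r hr, mul_one]

/-- A natural section over a natural module is homocyclic. -/
theorem abelian_lift (C : Cfg Q) {N R M : Subgroup X} [N.Normal] [M.Normal] {θ : X → Vec} {ρ : X →* G3}
    (h : Natural Q N R θ ρ) (hMR : M ≤ R) (hRN : R ≤ N) (hR : ∀ r ∈ R, r * r = 1)
    (hRc : ∀ r ∈ R, ∀ x ∈ N, r * x = x * r) (hM8 : Nat.card M = 8)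
    (hMnt : ¬ ∀ g : X, ∀ m ∈ M, ⁅g, m⁆ = 1) (hMQ : ∀ q ∈ Q, ∀ m ∈ M, ⁅q, m⁆ = 1)
    (hsq : ∀ x ∈ N, x * x ∈ M) (hcomm : ∀ u ∈ N, ∀ w ∈ N, ⁅u, w⁆ ∈ M)
    (hcard : Nat.card N = 8 * Nat.card R) :
    (∀ u ∈ N, ∀ w ∈ N, u * w = w * u) ∧ (∀ x ∈ N, x * x = 1 → x ∈ R) ∧
      (∀ u ∈ N, ∀ w ∈ N, u * u = w * w → θ u = θ w) ∧ ∀ m ∈ M, ∃ n ∈ N, n * n = m := by
  haveI := C.base.qn
  haveI : IsMulCommutative (⊥ : Subgroup X) := inferInstance
  have hkerM : trivialOn M (⊥ : Subgroup X) = Q := by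
    rcases C.base.simple (trivialOn M (⊥ : Subgroup X)) inferInstance
      (fun q hq m hm => Subgroup.mem_bot.2 (hMQ q hq m hm)) with e | e
    · exact e
    · exact absurd (fun g m hm =>
        Subgroup.mem_bot.1 ((e.ge (Subgroup.mem_top g) : g ∈ trivialOn M ⊥) m hm)) hMnt
  have hMc : ∀ m ∈ M, ∀ x ∈ N, m * x = x * m := fun m hm => hRc m (hMR hm)
  have hcjN : ∀ g : X, ∀ x ∈ N, g * x * g⁻¹ ∈ N := fun g x hx =>
    Subgroup.Normal.conj_mem inferInstance x hx g
  have hdz : ∀ w : Vec, w + w = 0 := fun w => funext fun i => CharTwo.add_self_eq_zero _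
  have habN : ∀ u ∈ N, ∀ w ∈ N, u * w = w * u := by
    by_contra hnab
    push Not at hnab
    obtain ⟨u₀, hu₀, w₀, hw₀, hne⟩ := hnab
    -- independent pairs do not commute
    have hind : ∀ u ∈ N, ∀ w ∈ N, θ u ≠ 0 → θ w ≠ 0 → θ u ≠ θ w → ⁅u, w⁆ ≠ 1 := by
      intro u hu w hw hu0 hw0 huw e
      apply hne
      rw [← commutatorElement_eq_one_iff_mul_comm]
      by_cases h1 : θ u₀ = 0
      · exact commutatorElement_eq_one_iff_mul_comm.2 (hRc u₀ ((h.ker u₀ hu₀).1 h1) w₀ hw₀)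
      by_cases h2 : θ w₀ = 0
      · exact commutatorElement_eq_one_iff_mul_comm.2 (hRc w₀ ((h.ker w₀ hw₀).1 h2) u₀ hu₀).symm
      by_cases h3 : θ u₀ = θ w₀
      · rw [h.comm_congr hRc hu₀ hu₀ hw₀ hu₀ rfl h3.symm |>.trans (commutatorElement_self u₀)]
      obtain ⟨g, hg1, hg2⟩ := exists_move _ _ hu0 hw0 huw _ _ h1 h2 h3
      obtain ⟨g', rfl⟩ := h.onto g
      rw [h.comm_congr hRc hu₀ (hcjN g' u hu) hw₀ (hcjN g' w hw) (by rw [h.equiv g' u hu, hg1])
        (by rw [h.equiv g' w hw, hg2]),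
        show ⁅g' * u * g'⁻¹, g' * w * g'⁻¹⁆ = g' * ⁅u, w⁆ * g'⁻¹ by simp only [commutatorElement_def]; group,
        e, mul_one, mul_inv_cancel]
    obtain ⟨a, y, ha, hy, -, -, -⟩ := h.exists_pair C.two
    obtain ⟨x, hx, ex⟩ := h.surj e0
    choose sec hsecN hsec using h.surj
    have hkey : ∀ w ∈ N, ∀ w' ∈ N, ⁅x, w⁆ = ⁅x, w'⁆ → Low (θ w + θ w') := by
      intro w hw w' hw' e
      by_contra hl
      have hm : w⁻¹ * w' ∈ N := mul_mem (inv_mem hw) hw'
      refine hind x hx _ hm (by rw [ex]; decide) ?_ ?_ ?_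
      · rw [h.mul _ (inv_mem hw) w' hw', h.inv hw]; exact fun e' => hl (Or.inl e')
      · rw [h.mul _ (inv_mem hw) w' hw', h.inv hw, ex]; exact fun e' => hl (Or.inr e'.symm)
      · have e1 : ⁅x, w'⁆ = ⁅x, w⁆ * (w * ⁅x, w⁻¹ * w'⁆ * w⁻¹) := by
          simp only [commutatorElement_def]; group
        rw [e, left_eq_mul, conj_eq_one_iff] at e1
        exact e1
    have hlow : ∀ w ∈ N, Low (θ w) → ⁅x, w⁆ = 1 := fun w hw hl => by
      rcases hl with e | e
      · exact commutatorElement_eq_one_iff_mul_comm.2 (hRc w ((h.ker w hw).1 e) x hx).symm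
      · rw [h.comm_congr hRc hx hx hw hx rfl (e.trans ex.symm), commutatorElement_self]
    -- the square of `x` is trivial
    have hx2 : x * x = 1 := by
      by_contra hx2
      have hfix : ∀ g : X, θ (g * x * g⁻¹) = θ x → g * (x * x) * g⁻¹ = x * x := fun g e => by
        calc g * (x * x) * g⁻¹ = g * x * g⁻¹ * (g * x * g⁻¹) := by group
          _ = x * x := h.sq_congr hRc hR (hcjN g x hx) hx e
      have hax : θ (a * x * a⁻¹) = θ x := by rw [(h.conj_low ha hy hx).1, ex, mA_low _ low_e0]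
      have hyx : θ (y * x * y⁻¹) = θ x := by rw [(h.conj_low ha hy hx).2, ex, mT_low _ low_e0]
      have hout : ∀ w ∈ N, ⁅x, w⁆ ≠ x * x := by
        intro w hw e
        have e2 : ⁅x, y * w * y⁻¹⁆ = ⁅x, w⁆ := by
          rw [h.comm_congr hRc hx (hcjN y x hx) (hcjN y w hw) (hcjN y w hw) hyx.symm rfl,
            show ⁅y * x * y⁻¹, y * w * y⁻¹⁆ = y * ⁅x, w⁆ * y⁻¹ by simp only [commutatorElement_def]; group,
            e, hfix y hyx]
        have hl := hkey _ (hcjN y w hw) _ hw e2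
        rw [(h.conj_low ha hy hw).2] at hl
        exact hx2 (e.symm.trans (hlow w hw (moved_low _ hl)))
      -- the twisted commutators fill `M`
      let f : Bool × {t : Vec // t 0 = 0} → M := fun i =>
        ⟨(if i.1 then x * x else 1) * ⁅x, sec i.2.1⁆, mul_mem
          (by cases i.1 <;> [exact one_mem M; exact hsq x hx]) (hcomm x hx _ (hsecN _))⟩
      have hf : Function.Injective f := by
        rintro ⟨i, t, ht⟩ ⟨j, t', ht'⟩ e
        have e : (if i then x * x else 1) * ⁅x, sec t⁆ = (if j then x * x else 1) * ⁅x, sec t'⁆ :=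
          congrArg Subtype.val e
        have hmul : ∀ s s' : Vec, ⁅x, sec s⁆ * ⁅x, sec s'⁆ = ⁅x, sec s * sec s'⁆ := fun s s' => by
          rw [show ⁅x, sec s * sec s'⁆ = ⁅x, sec s⁆ * (sec s * ⁅x, sec s'⁆ * (sec s)⁻¹) by
            simp only [commutatorElement_def]; group, ← hMc _ (hcomm x hx _ (hsecN s')) _ (hsecN s),
            mul_inv_cancel_right]
        have hsq1 : ∀ m ∈ M, m * m = 1 := fun m hm => hR m (hMR hm)
        by_cases hij : i = j
        · subst hij
          have hl := hkey _ (hsecN t) _ (hsecN t') (mul_left_cancel e)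
          rw [hsec, hsec] at hl
          obtain rfl := plane_card t t' ht ht' hl
          rfl
        · exfalso
          have e' : x * x = ⁅x, sec t⁆ * ⁅x, sec t'⁆ := by
            cases i <;> cases j <;> simp only [Bool.false_eq_true, if_false, if_true, one_mul] at e hij
            · exact absurd trivial hij
            · rw [e, mul_assoc, hsq1 _ (hcomm x hx _ (hsecN t')), mul_one]
            · rw [← e, ← mul_assoc, hMc _ (hsq x hx) _ (hRN (hMR (hcomm x hx _ (hsecN t)))) |>.symm,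
                mul_assoc, mul_assoc]
              simp [hsq1 _ (hcomm x hx _ (hsecN t)), ← mul_assoc]
            · exact absurd trivial hij
          rw [hmul] at e'
          exact hout _ (mul_mem (hsecN t) (hsecN t')) e'.symm
      have hbij : Function.Bijective f := (Nat.bijective_iff_injective_and_card f).2
        ⟨hf, by rw [Nat.card_prod, hM8, show Nat.card {t : Vec // t 0 = 0} = 4 by
          rw [Nat.card_eq_fintype_card]; decide]; simp⟩
      refine h.not_trivial ha (hkerM ▸ fun m hm => Subgroup.mem_bot.2 ?_)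
      obtain ⟨⟨i, t⟩, e⟩ := hbij.2 ⟨m, hm⟩
      have e : (if i then x * x else 1) * ⁅x, sec t.1⁆ = m := congrArg Subtype.val e
      rw [commutatorElement_eq_one_iff_mul_comm, ← mul_inv_eq_iff_eq_mul, ← e]
      have h1 : a * ⁅x, sec t.1⁆ * a⁻¹ = ⁅x, sec t.1⁆ := by
        set w := sec t.1
        have hw : w ∈ N := hsecN _
        have hl : Low (θ w + θ (a * w * a⁻¹)) := by
          rw [(h.conj_low ha hy hw).1, add_comm]; exact mA_sub _
        have h2 : ⁅x, a * w * a⁻¹⁆ = ⁅x, w⁆ := by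
          have hm := mul_mem (inv_mem hw) (hcjN a w hw)
          have h3 := hlow _ hm (by rwa [h.mul _ (inv_mem hw) _ (hcjN a w hw), h.inv hw])
          rw [show ⁅x, a * w * a⁻¹⁆ = ⁅x, w⁆ * (w * ⁅x, w⁻¹ * (a * w * a⁻¹)⁆ * w⁻¹) by
            simp only [commutatorElement_def]; group, h3, mul_one, mul_inv_cancel, mul_one]
        rw [show a * ⁅x, w⁆ * a⁻¹ = ⁅a * x * a⁻¹, a * w * a⁻¹⁆ by simp only [commutatorElement_def]; group,
          h.comm_congr hRc (hcjN a x hx) hx (hcjN a w hw) (hcjN a w hw) hax rfl, h2]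
      cases i
      · simpa using h1
      · simp only [if_true]
        rw [show a * (x * x * ⁅x, sec t.1⁆) * a⁻¹ = (a * (x * x) * a⁻¹) * (a * ⁅x, sec t.1⁆ * a⁻¹) by group,
          h1, hfix a hax]
    -- so every square is trivial
    have hall : ∀ w ∈ N, w * w = 1 := fun w hw => by
      by_cases hw0 : θ w = 0
      · exact hR w ((h.ker w hw).1 hw0)
      · obtain ⟨g, hg⟩ := h.move hx (by rw [ex]; decide) hw0
        rw [h.sq_congr hRc hR hw (hcjN g x hx) hg.symm,
          show g * x * g⁻¹ * (g * x * g⁻¹) = g * (x * x) * g⁻¹ by group, hx2, mul_one, mul_inv_cancel]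
    apply hne
    calc u₀ * w₀ = (u₀ * w₀)⁻¹ := (inv_eq_of_mul_eq_one_right (hall _ (mul_mem hu₀ hw₀))).symm
      _ = w₀ * u₀ := by rw [_root_.mul_inv_rev, inv_eq_of_mul_eq_one_right (hall _ hu₀),
        inv_eq_of_mul_eq_one_right (hall _ hw₀)]
  have hker : ∀ x ∈ N, x * x = 1 → x ∈ R := by
    intro x hx hx2
    by_contra hxR
    have hall : ∀ w ∈ N, w * w = 1 := fun w hw => by
      by_cases hw0 : θ w = 0
      · exact hR w ((h.ker w hw).1 hw0)
      · obtain ⟨g, hg⟩ := h.move hx (fun e => hxR ((h.ker x hx).1 e)) hw0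
        rw [h.sq_congr hRc hR hw (hcjN g x hx) hg.symm,
          show g * x * g⁻¹ * (g * x * g⁻¹) = g * (x * x) * g⁻¹ by group, hx2, mul_one, mul_inv_cancel]
    have h16 := CfsgLib.DEightWreath.card_le_of_sectional C.rank (X := N) (K := ⊥)
      ⟨bot_le, fun w hw => Subgroup.mem_bot.2 (hall w hw)⟩
    have := Subgroup.card_le_of_le hMR
    rw [Subgroup.card_bot] at h16
    omega
  have huniq : ∀ u ∈ N, ∀ w ∈ N, u * u = w * w → θ u = θ w := fun u hu w hw e => by
    have hm := hker _ (mul_mem (inv_mem hu) hw) (by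
      calc u⁻¹ * w * (u⁻¹ * w) = u⁻¹ * (w * u⁻¹) * w := by group
        _ = u⁻¹ * (u⁻¹ * w) * w := by rw [habN w hw _ (inv_mem hu)]
        _ = (u * u)⁻¹ * (w * w) := by group
        _ = 1 := by rw [e, inv_mul_cancel])
    have := (h.ker _ (mul_mem (inv_mem hu) hw)).2 hm
    rw [h.mul _ (inv_mem hu) w hw, h.inv hu] at this
    calc θ u = θ u + (θ w + θ w) := by rw [hdz, add_zero]
      _ = θ w := by rw [← add_assoc, this, zero_add]
  refine ⟨habN, hker, huniq, fun m hm => ?_⟩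
  choose sec hsecN hsec using h.surj
  have hb : Function.Bijective fun t : Vec => (⟨sec t * sec t, hsq _ (hsecN t)⟩ : M) :=
    (Nat.bijective_iff_injective_and_card _).2 ⟨fun s t e => by
      rw [← hsec s, ← hsec t]
      exact huniq _ (hsecN s) _ (hsecN t) (congrArg Subtype.val e), by rw [card_vec, hM8]⟩
  obtain ⟨t, e⟩ := hb.2 ⟨m, hm⟩
  exact ⟨sec t, hsecN t, congrArg Subtype.val e⟩

/-- The final contradiction for an abelian normal subgroup. -/
theorem finish_abelian (C : Cfg Q) {L W : Subgroup X} [W.Normal] {R : Subgroup X} {θ : X → Vec}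
    {ρ : X →* G3} (h : Natural Q L R θ ρ) (hLW : L ≤ W) (hW : ∀ u ∈ W, ∀ w ∈ W, u * w = w * u)
    (hsq : ∀ w ∈ W, ∃ n ∈ L, n * n = w * w) (hexp : ∀ n ∈ L, n * n * (n * n) = 1)
    (huniq : ∀ u ∈ L, ∀ w ∈ L, u * u = w * w → θ u = θ w) (hR : ∀ r ∈ R, r * r = 1) [L.Normal]
    (hcard : Nat.card W ≤ 128) {a y : X} (ha : ρ a = gA) (hy : ρ y = gT) (hy3 : y ^ 3 = 1)
    (haW : a * a ∈ W) (hprod : a * (y * a * y⁻¹) * (y * y * a * (y * y)⁻¹) ∈ W) : False := by
  classical
  choose! root hrootL hroot using hsq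
  have hmulsq : ∀ u ∈ W, ∀ w ∈ W, u * w * (u * w) = (u * u) * (w * w) := fun u hu w hw => by
    calc u * w * (u * w) = u * (w * u) * w := by group
      _ = u * (u * w) * w := by rw [hW w hw u hu]
      _ = u * u * (w * w) := by group
  let θ' : X → Vec := fun w => θ (root w)
  have hsur : ∀ t, ∃ u ∈ W, θ' u = t := fun t => by
    obtain ⟨n, hn, e⟩ := h.surj t
    exact ⟨n, hLW hn, by rw [← e]; exact huniq _ (hrootL n (hLW hn)) n hn (hroot n (hLW hn))⟩
  have hcj : ∀ g : X, ∀ w ∈ W, g * w * g⁻¹ ∈ W := fun g w hw => Subgroup.Normal.conj_mem inferInstance w hw g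
  have heq : ∀ g : X, ∀ w ∈ W, θ' (g * w * g⁻¹) = θ (g * root w * g⁻¹) := fun g w hw =>
    huniq _ (hrootL _ (hcj g w hw)) _ (Subgroup.Normal.conj_mem inferInstance _ (hrootL w hw) g) (by
      rw [hroot _ (hcj g w hw), show g * root w * g⁻¹ * (g * root w * g⁻¹) = g * (root w * root w) * g⁻¹ by group,
        hroot w hw]
      group)
  have hmul : ∀ u ∈ W, ∀ w ∈ W, θ' (u * w) = θ' u + θ' w := fun u hu w hw => by
    show θ (root (u * w)) = θ (root u) + θ (root w)
    rw [← h.mul _ (hrootL u hu) _ (hrootL w hw)]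
    refine huniq _ (hrootL _ (mul_mem hu hw)) _ (mul_mem (hrootL u hu) (hrootL w hw)) ?_
    rw [hroot _ (mul_mem hu hw), hmulsq u hu w hw, hmulsq _ (hLW (hrootL u hu)) _ (hLW (hrootL w hw)),
      hroot u hu, hroot w hw]
  have hker : ∀ w ∈ W, (θ' w = 0 ↔ w * w = 1) := fun w hw => by
    rw [← hroot w hw]
    refine ⟨fun e => hR _ ((h.ker _ (hrootL w hw)).1 e), fun e => ?_⟩
    exact (huniq _ (hrootL w hw) 1 (one_mem L) (by rw [e, mul_one])).trans h.one
  refine no_homocyclic (Q := W) ⟨hW, hy3, haW, hprod⟩ C.rank θ' hmul hsur hker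
    (fun w hw => by rw [heq a w hw, (h.conj_low ha hy (hrootL w hw)).1])
    (fun w hw => by rw [heq y w hw, (h.conj_low ha hy (hrootL w hw)).2])
    (fun w hw => by rw [← hroot w hw]; exact hexp _ (hrootL w hw)) ?_
  choose sec hsecW hsec using hsur
  let f : Vec × {u : X // u ∈ W ∧ u * u = 1} → W := fun i => ⟨sec i.1 * i.2.1, mul_mem (hsecW _) i.2.2.1⟩
  have hf : Function.Injective f := by
    rintro ⟨s, u⟩ ⟨t, v⟩ e
    have e : sec s * u.1 = sec t * v.1 := congrArg Subtype.val e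
    have e' := congrArg θ' e
    rw [hmul _ (hsecW s) _ u.2.1, hmul _ (hsecW t) _ v.2.1, (hker _ u.2.1).2 u.2.2, (hker _ v.2.1).2 v.2.2,
      add_zero, add_zero, hsec, hsec] at e'
    subst e'
    exact Prod.ext rfl (Subtype.ext (mul_left_cancel e))
  have := Nat.card_le_card_of_injective f hf
  rw [Nat.card_prod, card_vec] at this
  omega

/-- An outer element centralises or inverts. -/
theorem inverts (C : Cfg Q) {L R M : Subgroup X} [L.Normal] {θ : X → Vec} {ρ : X →* G3}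
    (h : Natural Q L R θ ρ) (hRL : R ≤ L) (hab : ∀ u ∈ L, ∀ w ∈ L, u * w = w * u)
    (hR : ∀ r ∈ R, r * r = 1) (huniq : ∀ u ∈ L, ∀ w ∈ L, u * u = w * w → θ u = θ w)
    (hroot : ∀ m ∈ M, ∃ n ∈ L, n * n = m) {x : X} (hinv : ∀ g : X, ∃ n ∈ L, g * x * g⁻¹ = x * n)
    (hxL : ∀ w ∈ L, ⁅x, w⁆ ∈ M) (hxR : ∀ r ∈ R, x * r = r * x) :
    (∀ w ∈ L, x * w = w * x) ∨ ∀ w ∈ L, x * w * x⁻¹ = w⁻¹ := by
  have hcjL : ∀ g : X, ∀ w ∈ L, g * w * g⁻¹ ∈ L := fun g w hw => Subgroup.Normal.conj_mem inferInstance w hw g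
  have hconj : ∀ g : X, ∀ w ∈ L, g * ⁅x, w⁆ * g⁻¹ = ⁅x, g * w * g⁻¹⁆ := fun g w hw => by
    obtain ⟨n, hn, e⟩ := hinv g
    rw [show g * ⁅x, w⁆ * g⁻¹ = ⁅g * x * g⁻¹, g * w * g⁻¹⁆ by simp only [commutatorElement_def]; group, e,
      show ⁅x * n, g * w * g⁻¹⁆ = x * ⁅n, g * w * g⁻¹⁆ * x⁻¹ * ⁅x, g * w * g⁻¹⁆ by
        simp only [commutatorElement_def]; group,
      commutatorElement_eq_one_iff_mul_comm.2 (hab n hn _ (hcjL g w hw)), mul_one, mul_inv_cancel, one_mul]
  let K : Subgroup X := L ⊓ Subgroup.centralizer {x}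
  have hK : ∀ w, w ∈ K ↔ w ∈ L ∧ x * w = w * x := fun w => by
    rw [Subgroup.mem_inf, Subgroup.mem_centralizer_singleton_iff]
    exact ⟨fun e => ⟨e.1, e.2.symm⟩, fun e => ⟨e.1, e.2.symm⟩⟩
  haveI : K.Normal := ⟨fun w hw g => by
    rw [hK] at hw ⊢
    refine ⟨hcjL g w hw.1, commutatorElement_eq_one_iff_mul_comm.1 ?_⟩
    rw [← hconj g w hw.1, commutatorElement_eq_one_iff_mul_comm.2 hw.2, mul_one, mul_inv_cancel]⟩
  rcases h.no_hyper (L := K) (fun r hr => (hK r).2 ⟨hRL hr, hxR r hr⟩) (fun w hw => hw.1) with e | e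
  swap
  · exact Or.inl fun w hw => ((hK w).1 (e.ge hw)).2
  right
  have hcong : ∀ u ∈ L, ∀ w ∈ L, θ u = θ w → ⁅x, u⁆ = ⁅x, w⁆ := fun u hu w hw euw => by
    have hr := h.coset hu hw euw
    rw [show ⁅x, w⁆ = ⁅x, u⁆ * (u * ⁅x, u⁻¹ * w⁆ * u⁻¹) by simp only [commutatorElement_def]; group,
      commutatorElement_eq_one_iff_mul_comm.2 (hxR _ hr), mul_one, mul_inv_cancel, mul_one]
  have hsqc : ∀ u ∈ L, ∀ w ∈ L, θ u = θ w → u * u = w * w := fun u hu w hw euw =>
    h.sq_congr (fun r hr w hw => hab r (hRL hr) w hw) hR hu hw euw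
  obtain ⟨a, y, ha, hy, -, -, -⟩ := h.exists_pair C.two
  obtain ⟨x₀, hx₀, ex⟩ := h.surj e0
  obtain ⟨n', hn', en'⟩ := hroot _ (hxL x₀ hx₀)
  have hfix : θ (y * n' * y⁻¹) = θ n' := huniq _ (hcjL y n' hn') n' hn' (by
    rw [show y * n' * y⁻¹ * (y * n' * y⁻¹) = y * (n' * n') * y⁻¹ by group, en', hconj y x₀ hx₀]
    exact hcong _ (hcjL y x₀ hx₀) _ hx₀ (by rw [(h.conj_low ha hy hx₀).2, ex, mT_low _ low_e0]))
  rw [(h.conj_low ha hy hn').2] at hfix
  have hbase : ⁅x, x₀⁆ = x₀ * x₀ := by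
    rcases fixed_low _ hfix with e1 | e1
    · exfalso
      have : ⁅x, x₀⁆ = 1 := by rw [← en', hR _ ((h.ker n' hn').1 e1)]
      have hmem := e.le ((hK x₀).2 ⟨hx₀, commutatorElement_eq_one_iff_mul_comm.1 this⟩)
      exact e0_ne (ex.symm.trans ((h.ker x₀ hx₀).2 hmem))
    · rw [← en']; exact hsqc _ hn' _ hx₀ (e1.trans ex.symm)
  intro w hw
  have hval : ⁅x, w⁆ = w * w := by
    by_cases hw0 : θ w = 0
    · have hr := (h.ker w hw).1 hw0
      rw [hR w hr, commutatorElement_eq_one_iff_mul_comm.2 (hxR w hr)]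
    · obtain ⟨g, hg⟩ := h.move hx₀ (by rw [ex]; decide) hw0
      rw [hcong w hw _ (hcjL g x₀ hx₀) hg.symm, ← hconj g x₀ hx₀, hbase,
        hsqc w hw _ (hcjL g x₀ hx₀) hg.symm]
      group
  rw [show x * w * x⁻¹ = ⁅x, w⁆ * w by simp only [commutatorElement_def]; group, hval]
  have h4 : w * w * (w * w) = 1 := by
    have hc : ⁅x, w * w⁆ = ⁅x, w⁆ * (w * ⁅x, w⁆ * w⁻¹) := by simp only [commutatorElement_def]; group
    have hm : θ (w * w) = 0 := by
      rw [h.mul w hw w hw]; exact funext fun i => CharTwo.add_self_eq_zero _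
    rw [commutatorElement_eq_one_iff_mul_comm.2 (hxR _ ((h.ker _ (mul_mem hw hw)).1 hm)), hval] at hc
    calc w * w * (w * w) = w * w * (w * (w * w) * w⁻¹) := by group
      _ = 1 := hc.symm
  exact eq_inv_of_mul_eq_one_left (by rw [mul_assoc]; simpa [mul_assoc] using h4)

/-- A square of a lift does not invert. -/
theorem not_inverts {L R M : Subgroup X} [L.Normal] {θ : X → Vec} {ρ : X →* G3}
    (h : Natural Q L R θ ρ) (hRL : R ≤ L) (hab : ∀ u ∈ L, ∀ w ∈ L, u * w = w * u)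
    (huniq : ∀ u ∈ L, ∀ w ∈ L, u * u = w * w → θ u = θ w) (hroot : ∀ m ∈ M, ∃ n ∈ L, n * n = m)
    (hR : ∀ r ∈ R, r * r = 1) {a y : X} (ha : ρ a = gA) (hy : ρ y = gT)
    (hRM : ∀ r ∈ R, r ∈ M ∨ (a * a * (a * a))⁻¹ * r ∈ M)
    (hinvs : ∀ w ∈ L, a * a * w * (a * a)⁻¹ = w⁻¹) : False := by
  obtain ⟨n, hn, en⟩ := h.surj ![0, 0, 1]
  have hcjL : ∀ g : X, ∀ w ∈ L, g * w * g⁻¹ ∈ L := fun g w hw => Subgroup.Normal.conj_mem inferInstance w hw g
  have hm0 : θ (a * n * a⁻¹) = θ n := by rw [(h.conj_low ha hy hn).1, en]; decide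
  set r := n⁻¹ * (a * n * a⁻¹) with hr_def
  have hr : r ∈ R := h.coset hn (hcjL a n hn) hm0.symm
  -- the commutator of `a` with `r` lies over the centre
  obtain ⟨s, hs, hsr, hsl⟩ : ∃ s ∈ L, s * s = a * r * a⁻¹ * r⁻¹ ∧ Low (θ s) := by
    obtain ⟨m, hm, hcomm⟩ : ∃ m ∈ M, a * r * a⁻¹ * r⁻¹ = a * m * a⁻¹ * m⁻¹ := by
      rcases hRM r hr with h' | h'
      · exact ⟨r, h', rfl⟩
      · refine ⟨_, h', ?_⟩
        have hfix : ∀ w ∈ L, a * a * (a * a) * w * (a * a * (a * a))⁻¹ = w := fun w hw => by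
          calc a * a * (a * a) * w * (a * a * (a * a))⁻¹
              = a * a * (a * a * w * (a * a)⁻¹) * (a * a)⁻¹ := by group
            _ = a * a * w⁻¹ * (a * a)⁻¹ := by rw [hinvs w hw]
            _ = (a * a * w * (a * a)⁻¹)⁻¹ := by simp only [_root_.mul_inv_rev, inv_inv, mul_assoc]
            _ = w := by rw [hinvs w hw, inv_inv]
        have hc : a * r * a⁻¹ * r⁻¹ ∈ L := mul_mem (hcjL a r (hRL hr)) (inv_mem (hRL hr))
        nth_rw 1 [← hfix _ hc]
        set c := a * a * (a * a) with hc'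
        have hca : a * c⁻¹ = c⁻¹ * a := by rw [hc']; group
        calc c * (a * r * a⁻¹ * r⁻¹) * c⁻¹ = c * (a * r * a⁻¹ * r⁻¹) * c⁻¹ := rfl
          _ = _ := by
            have e1 := hfix _ hc
            have e2 : c⁻¹ * (a * r * a⁻¹ * r⁻¹) * c = a * r * a⁻¹ * r⁻¹ := by nth_rw 1 [← e1]; group
            rw [e1, ← e2]
            calc c⁻¹ * (a * r * a⁻¹ * r⁻¹) * c = (c⁻¹ * a) * r * a⁻¹ * r⁻¹ * c := by group
              _ = (a * c⁻¹) * r * a⁻¹ * r⁻¹ * c := by rw [hca]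
              _ = _ := by group
    obtain ⟨k, hk, rfl⟩ := hroot m hm
    refine ⟨(a * k * a⁻¹) * k⁻¹, mul_mem (hcjL a k hk) (inv_mem hk), ?_, ?_⟩
    · rw [hcomm]
      calc a * k * a⁻¹ * k⁻¹ * (a * k * a⁻¹ * k⁻¹)
          = a * k * a⁻¹ * (k⁻¹ * (a * k * a⁻¹)) * k⁻¹ := by group
        _ = a * k * a⁻¹ * ((a * k * a⁻¹) * k⁻¹) * k⁻¹ := by rw [hab _ (inv_mem hk) _ (hcjL a k hk)]
        _ = _ := by group
    · rw [h.mul _ (hcjL a k hk) _ (inv_mem hk), h.inv hk, (h.conj_low ha hy hk).1]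
      exact mA_sub _
  have e2 : a * a * n * (a * a)⁻¹ = n * (r * r) * (a * r * a⁻¹ * r⁻¹) := by
    have e3 : a * a * n * (a * a)⁻¹ = (a * n * a⁻¹) * (a * r * a⁻¹) := by rw [hr_def]; group
    have hrL := hRL hr
    calc a * a * n * (a * a)⁻¹ = (a * n * a⁻¹) * (a * r * a⁻¹) := e3
      _ = n * r * ((a * r * a⁻¹ * r⁻¹) * r) := by rw [hr_def]; group
      _ = n * r * (r * (a * r * a⁻¹ * r⁻¹)) := by
        rw [hab _ (mul_mem (hcjL a r hrL) (inv_mem hrL)) r hrL]
      _ = _ := by group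
  rw [hinvs n hn, hR r hr, mul_one, ← hsr] at e2
  have e4 : (n⁻¹ * s⁻¹) * (n⁻¹ * s⁻¹) = (1 : X) * 1 → False := fun e => by
    have h1 := huniq _ (mul_mem (inv_mem hn) (inv_mem hs)) 1 (one_mem L) e
    rw [h.mul _ (inv_mem hn) _ (inv_mem hs), h.inv hn, h.inv hs, h.one, en] at h1
    have hd : ∀ t : Vec, Low t → ![0, 0, 1] + t ≠ 0 := by decide
    exact hd _ hsl h1
  refine e4 ?_
  rw [one_mul, hab _ (inv_mem hn) _ (inv_mem hs)]
  calc s⁻¹ * n⁻¹ * (s⁻¹ * n⁻¹) = s⁻¹ * (n⁻¹ * s⁻¹) * n⁻¹ := by group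
    _ = s⁻¹ * (s⁻¹ * n⁻¹) * n⁻¹ := by rw [hab _ (inv_mem hn) _ (inv_mem hs)]
    _ = (s * s)⁻¹ * n⁻¹ * n⁻¹ := by group
    _ = (s * s)⁻¹ * (n * (s * s)) * n⁻¹ := by nth_rw 1 [e2]
    _ = (s * s)⁻¹ * (n * ((s * s) * n⁻¹)) := by group
    _ = (s * s)⁻¹ * (n * (n⁻¹ * (s * s))) := by rw [hab (s * s) (mul_mem hs hs) _ (inv_mem hn)]
    _ = 1 := by group

/-- A homocyclic hyperplane, its outer element and a lift give a contradiction. -/
theorem no_tower (C : Cfg Q) {L R M : Subgroup X} [L.Normal] {θ : X → Vec} {ρ : X →* G3}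
    (h : Natural Q L R θ ρ) (hRL : R ≤ L) (hLQ : L ≤ Q) (hab : ∀ u ∈ L, ∀ w ∈ L, u * w = w * u)
    (hR : ∀ r ∈ R, r * r = 1) (huniq : ∀ u ∈ L, ∀ w ∈ L, u * u = w * w → θ u = θ w)
    (hroot : ∀ m ∈ M, ∃ n ∈ L, n * n = m) (hsqM : ∀ n ∈ L, n * n ∈ M) (hMR : M ≤ R)
    (hcardL : Nat.card L ≤ 128) {x : X} (hx : x ∈ Q) (hxL : x ∉ L)
    (hgen : ∀ w ∈ Q, w ∈ L ∨ x⁻¹ * w ∈ L) (hcommQ : ∀ u ∈ Q, ∀ w ∈ Q, ⁅u, w⁆ ∈ M)
    (htriv : ∀ g : X, ∀ w ∈ Q, ⁅g, w⁆ ∈ L) (hxR : ∀ r ∈ R, x * r = r * x)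
    (hRM : ∀ r ∈ R, r ∈ M ∨ ∀ w ∈ Q, w ∉ L → (w * w)⁻¹ * r ∈ M) :
    ∃ a y : X, ρ a = gA ∧ ρ y = gT ∧ y ^ 3 = 1 ∧ a * a ∈ Q ∧ a * a ∉ L ∧
      a * (y * a * y⁻¹) * (y * y * a * (y * y)⁻¹) ∈ Q ∧ ∀ u ∈ Q, ∀ w ∈ Q, u * w = w * u := by
  haveI := C.base.qn
  obtain ⟨a, y, ha, hy, hy3, ha2, habc⟩ := h.exists_pair C.two
  set π := QuotientGroup.mk' L with hπ
  have h1 : ∀ w, π w = 1 ↔ w ∈ L := fun w => QuotientGroup.eq_one_iff w
  by_cases haL : a * a ∈ L
  · -- adjust the product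
    exfalso
    have hexp : ∀ n ∈ L, n * n * (n * n) = 1 := fun n hn => hR _ (hMR (hsqM n hn))
    have hfin : ∀ a' : X, ρ a' = gA → a' * a' ∈ L →
        a' * (y * a' * y⁻¹) * (y * y * a' * (y * y)⁻¹) ∈ L → False := fun a' ha' h2 h3 =>
      finish_abelian C h le_rfl hab (fun w hw => ⟨w, hw, rfl⟩) hexp huniq hR hcardL ha' hy hy3 h2 h3
    rcases hgen _ habc with hp | hp
    · exact hfin a ha haL hp
    · have hxc : ∀ g : X, π g * π x = π x * π g := fun g => by
        rw [← commutatorElement_eq_one_iff_mul_comm, ← map_commutatorElement, h1]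
        exact htriv g x hx
      have hx2 : π x * π x = 1 := by
        rw [← map_mul, h1]
        rcases hgen _ (mul_mem hx hx) with e | e
        · exact e
        · rw [inv_mul_cancel_left] at e; exact absurd e hxL
      have ha'' : ρ (x * a) = gA := by
        rw [map_mul, ha, MonoidHom.mem_ker.1 (h.kerQ.symm ▸ hx : x ∈ ρ.ker), one_mul]
      refine hfin (x * a) ha'' ((h1 _).1 ?_) ((h1 _).1 ?_)
      · simp only [map_mul]
        calc π x * π a * (π x * π a) = π x * (π a * π x) * π a := by group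
          _ = (π x * π x) * (π a * π a) := by rw [hxc a]; group
          _ = 1 := by rw [hx2, one_mul, ← map_mul]; exact (h1 _).2 haL
      · have e : π x = π a * π (y * a * y⁻¹) * π (y * y * a * (y * y)⁻¹) := by
          have := (h1 _).2 hp
          rw [map_mul, map_inv, inv_mul_eq_one] at this
          rw [this, map_mul, map_mul]
        have hb : ∀ g : X, π (g * (x * a) * g⁻¹) = π x * π (g * a * g⁻¹) := fun g => by
          simp only [map_mul, map_inv]
          calc π g * (π x * π a) * (π g)⁻¹ = (π g * π x) * π a * (π g)⁻¹ := by group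
            _ = _ := by rw [hxc g]; group
        rw [map_mul, map_mul, hb y, hb (y * y), map_mul π x a]
        calc π x * π a * (π x * π (y * a * y⁻¹)) * (π x * π (y * y * a * (y * y)⁻¹))
            = π x * (π a * π x) * (π (y * a * y⁻¹) * π x) * π (y * y * a * (y * y)⁻¹) := by group
          _ = π x * (π x * π a) * (π x * π (y * a * y⁻¹)) * π (y * y * a * (y * y)⁻¹) := by
            rw [hxc a, hxc (y * a * y⁻¹)]
          _ = (π x * π x) * (π a * π x) * π (y * a * y⁻¹) * π (y * y * a * (y * y)⁻¹) := by group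
          _ = π x * (π a * π (y * a * y⁻¹) * π (y * y * a * (y * y)⁻¹)) := by
            rw [hx2, one_mul, hxc a]; group
          _ = 1 := by rw [← e, hx2]
  · refine ⟨a, y, ha, hy, hy3, ha2, haL, habc, ?_⟩
    have hinvx : ∀ g : X, ∃ n ∈ L, g * x * g⁻¹ = x * n := fun g => by
      refine ⟨x⁻¹ * ⁅g, x⁆ * x⁻¹⁻¹, Subgroup.Normal.conj_mem inferInstance _ (htriv g x hx) _, ?_⟩
      simp only [commutatorElement_def]; group
    rcases inverts C h hRL hab hR huniq hroot hinvx (fun w hw => hcommQ x hx w (hLQ hw)) hxR with hc | hc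
    · intro u hu w hw
      have hkey : ∀ v ∈ Q, x * v = v * x := fun v hv => by
        rcases hgen v hv with e | e
        · exact hc v e
        · calc x * v = x * (x * (x⁻¹ * v)) := by group
            _ = x * ((x⁻¹ * v) * x) := by rw [hc _ e]
            _ = v * x := by group
      have hkey2 : ∀ l ∈ L, ∀ v ∈ Q, l * v = v * l := fun l hl v hv => by
        rcases hgen v hv with e | e
        · exact hab l hl v e
        · calc l * v = (l * x) * (x⁻¹ * v) := by group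
            _ = x * (l * (x⁻¹ * v)) := by rw [← hc l hl]; group
            _ = x * ((x⁻¹ * v) * l) := by rw [hab l hl _ e]
            _ = v * l := by group
      rcases hgen u hu with e | e
      · exact hkey2 u e w hw
      · calc u * w = x * ((x⁻¹ * u) * w) := by group
          _ = (x * w) * (x⁻¹ * u) := by rw [hkey2 _ e w hw]; group
          _ = w * (x * (x⁻¹ * u)) := by rw [hkey w hw]; group
          _ = w * u := by group
    · exfalso
      refine not_inverts h hRL hab huniq hroot hR ha hy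
        (fun r hr => (hRM r hr).imp id fun e => e _ ha2 haL) fun w hw => ?_
      have hl := (hgen _ ha2).resolve_left haL
      calc a * a * w * (a * a)⁻¹ = x * ((x⁻¹ * (a * a)) * w) * (x⁻¹ * (a * a))⁻¹ * x⁻¹ := by group
        _ = x * (w * (x⁻¹ * (a * a))) * (x⁻¹ * (a * a))⁻¹ * x⁻¹ := by rw [hab _ hl w hw]
        _ = x * w * x⁻¹ := by group
        _ = w⁻¹ := hc w hw

/-- A hyperplane over a natural module. -/
theorem no_hyperplane (C : Cfg Q) {M L : Subgroup X} [M.Normal] [L.Normal] (hM8 : Nat.card M = 8)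
    (hM2 : ∀ m ∈ M, m * m = 1) (hMQ : ∀ q ∈ Q, ∀ m ∈ M, ⁅q, m⁆ = 1)
    (hMnt : ¬ ∀ g : X, ∀ m ∈ M, ⁅g, m⁆ = 1) (hMS : M ≤ sqSub Q) (hQ : Nat.card Q = 128)
    (hsq : ∀ w ∈ Q, w * w ∈ M) (hcomm : ∀ u ∈ Q, ∀ w ∈ Q, ⁅u, w⁆ ∈ M)
    (hML : M ≤ L) (hLQ : L ≤ Q) (hL : Nat.card L = 64) : False := by
  haveI := C.base.qn
  have hnt : ¬ ∀ g : X, ∀ w ∈ Q, ⁅g, w⁆ ∈ M := fun h => by
    obtain ⟨g, w, hw, hgw⟩ := C.act
    exact hgw (hMS (h g w hw))
  have htriv := C.base.trivial_of_small hLQ (by rw [hL, hQ]; norm_num) (fun q hq w hw => hML (hcomm q hq w hw))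
  have hntL : ¬ ∀ g : X, ∀ w ∈ L, ⁅g, w⁆ ∈ M := fun h => hnt (C.base.trivial_of_chain hLQ hML
    (fun w hw => hsq w (hLQ hw)) hcomm htriv h)
  obtain ⟨θ, ρ, hN⟩ := C.base.exists_natural (N := L) (R := M) hML (fun w hw => hsq w (hLQ hw))
    (by rw [hL, hM8]) (fun q hq w hw => hcomm q hq w (hLQ hw)) hntL
  have hMc : ∀ m ∈ M, ∀ w ∈ L, m * w = w * m := fun m hm w hw =>
    (commutatorElement_eq_one_iff_mul_comm.1 (hMQ w (hLQ hw) m hm)).symm
  obtain ⟨hab, hker, huniq, hroot⟩ := abelian_lift C hN le_rfl hML hM2 hMc hM8 hMnt hMQ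
    (fun w hw => hsq w (hLQ hw)) (fun u hu w hw => hcomm u (hLQ hu) w (hLQ hw)) (by rw [hL, hM8])
  obtain ⟨x, hx, hxL⟩ := SetLike.not_le_iff_exists.1 (show ¬ Q ≤ L from fun h => by
    have := Subgroup.card_le_of_le h
    omega)
  have hgen : ∀ w ∈ Q, w ∈ L ∨ x⁻¹ * w ∈ L := fun w hw => by
    by_contra hcon
    push Not at hcon
    let K2 : Subgroup X :=
      { carrier := {v | v ∈ Q ∧ (v ∈ L ∨ x⁻¹ * v ∈ L)}
        one_mem' := ⟨one_mem Q, Or.inl (one_mem L)⟩
        mul_mem' := fun {u v} hu hv => ⟨mul_mem hu.1 hv.1, by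
          have hx2 : x * x ∈ L := hML (hsq x hx)
          rcases hu.2 with hu' | hu' <;> rcases hv.2 with hv' | hv'
          · exact Or.inl (mul_mem hu' hv')
          · refine Or.inr ?_
            rw [show x⁻¹ * (u * v) = (x⁻¹ * u * x⁻¹⁻¹) * (x⁻¹ * v) by group]
            exact mul_mem (Subgroup.Normal.conj_mem inferInstance u hu' _) hv'
          · exact Or.inr (by rw [← mul_assoc]; exact mul_mem hu' hv')
          · refine Or.inl ?_
            rw [show u * v = (x * (x⁻¹ * u) * x⁻¹) * (x * x) * (x⁻¹ * v) by group]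
            exact mul_mem (mul_mem (Subgroup.Normal.conj_mem inferInstance _ hu' x) hx2) hv'⟩
        inv_mem' := fun {u} hu => ⟨inv_mem hu.1, by
          rcases hu.2 with hu' | hu'
          · exact Or.inl (inv_mem hu')
          · refine Or.inr ?_
            rw [show x⁻¹ * u⁻¹ = (x⁻¹ * (x⁻¹ * u)⁻¹ * x⁻¹⁻¹) * (x * x)⁻¹ by group]
            exact mul_mem (Subgroup.Normal.conj_mem inferInstance _ (inv_mem hu') _)
              (inv_mem (hML (hsq x hx)))⟩ }
    have h1 := CfsgLib.NoSCN.card_two_mul_le (B := L) (A := K2) (fun v hv => ⟨hLQ hv, Or.inl hv⟩)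
      (a := x) ⟨hx, Or.inr (by rw [inv_mul_cancel]; exact one_mem L)⟩ hxL
    have h2 := CfsgLib.NoSCN.card_two_mul_le (B := K2) (A := Q) (fun v hv => hv.1) hw
      fun hw' => hcon.1 (hw'.2.resolve_right hcon.2)
    omega
  obtain ⟨a, y, ha, hy, hy3, ha2, -, hprod, habQ⟩ := no_tower C hN hML hLQ hab hM2 huniq hroot
    (fun n hn => hsq n (hLQ hn)) le_rfl (by omega) hx hxL hgen hcomm htriv
    (fun r hr => commutatorElement_eq_one_iff_mul_comm.1 (hMQ x hx r hr)) (fun r hr => Or.inl hr)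
  exact finish_abelian C hN hLQ habQ (fun w hw => hroot _ (hsq w hw))
    (fun n hn => hM2 _ (hsq n (hLQ hn))) huniq hM2 (by omega) ha hy hy3 ha2 hprod

theorem no_octad (C : Cfg Q) {M : Subgroup X} [M.Normal] (hM8 : Nat.card M = 8) (hM2 : ∀ m ∈ M, m * m = 1)
    (hMQ : ∀ q ∈ Q, ∀ m ∈ M, ⁅q, m⁆ = 1) (hMnt : ¬ ∀ g : X, ∀ m ∈ M, ⁅g, m⁆ = 1)
    (hMmin : ∀ m ∈ M, (∀ g : X, g * m = m * g) → m = 1) (hMS : M ≤ sqSub Q)
    (hS : Shape (Q.map (QuotientGroup.mk' M))) : False := by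
  classical
  haveI := C.base.qn
  set π := QuotientGroup.mk' M with hπ
  have hπ1 : ∀ w, π w = 1 ↔ w ∈ M := fun w => QuotientGroup.eq_one_iff w
  have hMle : M ≤ Q := hMS.trans (sqSub_le Q)
  have hsM : Function.Surjective π := QuotientGroup.mk'_surjective M
  have hcardQ : Nat.card Q = Nat.card (Q.map π) * 8 := by
    have h1 := (π.subgroupMap Q).ker.card_mul_index
    rw [Subgroup.index_ker, MonoidHom.range_eq_top.2 (π.subgroupMap_surjective Q), Subgroup.card_top] at h1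
    have h2 : (π.subgroupMap Q).ker = M.subgroupOf Q := by
      ext x
      rw [MonoidHom.mem_ker, Subgroup.mem_subgroupOf, Subtype.ext_iff]
      exact hπ1 _
    rw [h2, Nat.card_congr (Subgroup.subgroupOfEquivOfLe hMle).toEquiv, hM8] at h1
    omega
  have hMc : ∀ m ∈ M, ∀ w ∈ Q, m * w = w * m := fun m hm w hw =>
    (commutatorElement_eq_one_iff_mul_comm.1 (hMQ w hw m hm)).symm
  have hQbar : ∀ u ∈ Q, ∀ w ∈ Q, π u * π w = π w * π u := by
    intro u hu w hw
    rcases hS with ⟨hel, -⟩ | ⟨hc, -⟩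
    · have h1 := hel _ ⟨u, hu, rfl⟩
      have h2 := hel _ ⟨w, hw, rfl⟩
      have h3 := hel _ ⟨u * w, mul_mem hu hw, rfl⟩
      rw [map_mul] at h3
      calc π u * π w = (π u * π w)⁻¹ := (inv_eq_of_mul_eq_one_right h3).symm
        _ = π w * π u := by
          rw [_root_.mul_inv_rev, inv_eq_of_mul_eq_one_right h1, inv_eq_of_mul_eq_one_right h2]
    · exact hc _ ⟨u, hu, rfl⟩ _ ⟨w, hw, rfl⟩
  have hcomm : ∀ u ∈ Q, ∀ w ∈ Q, ⁅u, w⁆ ∈ M := fun u hu w hw => (hπ1 _).1 (by
    rw [map_commutatorElement, commutatorElement_eq_one_iff_mul_comm]; exact hQbar u hu w hw)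
  rcases hS with ⟨hel, hc⟩ | ⟨-, hc, x', ⟨x, hx, rfl⟩, hx2, hx4, hxall⟩
  · have hsq : ∀ w ∈ Q, w * w ∈ M := fun w hw => (hπ1 _).1 (by rw [map_mul]; exact hel _ ⟨w, hw, rfl⟩)
    have hnt : ¬ ∀ g : X, ∀ w ∈ Q, ⁅g, w⁆ ∈ M := fun h => by
      obtain ⟨g, w, hw, hgw⟩ := C.act
      exact hgw (hMS (h g w hw))
    rcases hc with h8 | h16
    · rw [h8] at hcardQ
      obtain ⟨θ, ρ, hN⟩ := C.base.exists_natural (N := Q) (R := M) hMle hsq (by rw [hcardQ, hM8]) hcomm hnt
      obtain ⟨hab, hker, huniq, hroot⟩ := abelian_lift C hN le_rfl hMle hM2 hMc hM8 hMnt hMQ hsq hcomm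
        (by rw [hcardQ, hM8])
      obtain ⟨a, y, ha, hy, hy3, ha2, habc⟩ := hN.exists_pair C.two
      exact finish_abelian C hN le_rfl hab (fun w hw => ⟨w, hw, rfl⟩) (fun n hn => hM2 _ (hsq n hn)) huniq
        hM2 (by omega) ha hy hy3 ha2 habc
    · rw [h16] at hcardQ
      have C' := C.quot M hMS
      have hnt' : ¬ ∀ g : X ⧸ M, ∀ w ∈ Q.map π, ⁅g, w⁆ = 1 := fun h => hnt fun g w hw =>
        (hπ1 _).1 (by rw [map_commutatorElement]; exact h (π g) (π w) ⟨w, hw, rfl⟩)
      haveI := C'.base.qn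
      have hfinish : (∃ N, N ≤ Q.map π ∧ N.Normal ∧ Nat.card N = 8) → False := by
        rintro ⟨N', hle, hn, h8⟩
        haveI := hn
        have hML : M ≤ N'.comap π := fun w hw => by
          show π w ∈ N'; rw [(hπ1 w).2 hw]; exact one_mem N'
        refine no_hyperplane C (L := N'.comap π) hM8 hM2 hMQ hMnt hMS hcardQ hsq hcomm hML
          (fun w hw => ?_) ?_
        · obtain ⟨v, hv, e⟩ := hle hw
          have := mul_mem hv (hMle (QuotientGroup.eq.1 e))
          simpa using this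
        · have h1 := (π.subgroupComap N').ker.card_mul_index
          rw [Subgroup.index_ker, MonoidHom.range_eq_top.2
            (MonoidHom.subgroupComap_surjective_of_surjective _ _ hsM), Subgroup.card_top, h8] at h1
          have h2 : (π.subgroupComap N').ker = M.subgroupOf (N'.comap π) := by
            ext w
            rw [MonoidHom.mem_ker, Subgroup.mem_subgroupOf, Subtype.ext_iff]
            exact hπ1 _
          rw [h2, Nat.card_congr (Subgroup.subgroupOfEquivOfLe hML).toEquiv, hM8] at h1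
          omega
      rcases C'.base.sixteen hel h16 (fun q hq w hw => by
        obtain ⟨u, hu, rfl⟩ := hq
        obtain ⟨v, hv, rfl⟩ := hw
        exact commutatorElement_eq_one_iff_mul_comm.2 (hQbar u hu v hv)) hnt' with
        hN' | ⟨u', hu'Q, hu'1, hu'c, hsel⟩
      · exact hfinish hN'
      obtain ⟨u, hu, rfl⟩ := hu'Q
      have hu2 : π u * π u = 1 := hel _ ⟨u, hu, rfl⟩
      let U : Subgroup X := (pairSub (π u) hu2).comap π
      haveI : U.Normal := Subgroup.Normal.comap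
        (pairSub_normal fun g => Subgroup.mem_center_iff.1 hu'c g) π
      have hUm : ∀ w, w ∈ U → π w = 1 ∨ π w = π u := fun w hw => hw
      have hUQ : U ≤ Q := fun w hw => by
        rcases hUm w hw with e | e
        · exact hMle ((hπ1 w).1 e)
        · have := mul_mem hu (hMle (QuotientGroup.eq.1 e.symm))
          rwa [mul_inv_cancel_left] at this
      have hMU : M ≤ U := fun w hw => by
        show π w ∈ pairSub (π u) hu2; rw [(hπ1 w).2 hw]; exact one_mem _
      have huU : u ∈ U := Or.inr rfl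
      have hU16 : Nat.card U = 16 := by
        have h1 := (π.subgroupComap (pairSub (π u) hu2)).ker.card_mul_index
        rw [Subgroup.index_ker, MonoidHom.range_eq_top.2
          (MonoidHom.subgroupComap_surjective_of_surjective _ _ hsM), Subgroup.card_top,
          card_pairSub hu'1] at h1
        have h2 : (π.subgroupComap (pairSub (π u) hu2)).ker = M.subgroupOf U := by
          ext w
          rw [MonoidHom.mem_ker, Subgroup.mem_subgroupOf, Subtype.ext_iff]
          exact hπ1 _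
        rw [h2, Nat.card_congr (Subgroup.subgroupOfEquivOfLe hMU).toEquiv, hM8] at h1
        exact h1.symm
      have hgu : ∀ g : X, ∃ m ∈ M, g * u * g⁻¹ = u * m := fun g => ⟨u⁻¹ * (g * u * g⁻¹), (hπ1 _).1 (by
        simp only [map_mul, map_inv]
        rw [Subgroup.mem_center_iff.1 hu'c (π g), mul_inv_cancel_right, inv_mul_cancel]), by group⟩
      have hu4 : u * u = 1 := hMmin _ (hsq u hu) fun g => by
        obtain ⟨m, hm, e⟩ := hgu g
        rw [← mul_inv_eq_iff_eq_mul, show g * (u * u) * g⁻¹ = (g * u * g⁻¹) * (g * u * g⁻¹) by group, e]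
        calc u * m * (u * m) = u * (m * u) * m := by group
          _ = (u * u) * (m * m) := by rw [hMc m hm u hu]; group
          _ = u * u := by rw [hM2 m hm, mul_one]
      have hUel : ∀ w ∈ U, w * w = 1 := fun w hw => by
        rcases hUm w hw with e | e
        · exact hM2 w ((hπ1 w).1 e)
        · obtain ⟨m, hm, rfl⟩ : ∃ m ∈ M, w = u * m := ⟨u⁻¹ * w, QuotientGroup.eq.1 e.symm, by group⟩
          calc u * m * (u * m) = u * (m * u) * m := by group
            _ = (u * u) * (m * m) := by rw [hMc m hm u hu]; group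
            _ = 1 := by rw [hu4, hM2 m hm, mul_one]
      have hntU : ¬ ∀ g : X, ∀ w ∈ Q, ⁅g, w⁆ ∈ U := fun h => hnt (C.base.trivial_of_chain hUQ hMU
        (fun w hw => hsq w (hUQ hw)) hcomm h fun g w hw => (hπ1 _).1 (by
          rw [map_commutatorElement, commutatorElement_eq_one_iff_mul_comm]
          rcases hUm w hw with e | e <;> rw [e]
          · simp
          · exact Subgroup.mem_center_iff.1 hu'c (π g)))
      obtain ⟨θ, ρ, hN⟩ := C.base.exists_natural (N := Q) (R := U) hUQ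
        (fun w hw => hMU (hsq w hw)) (by rw [hcardQ, hU16])
        (fun q hq w hw => hMU (hcomm q hq w hw)) hntU
      have hcjQ : ∀ g : X, ∀ w ∈ Q, g * w * g⁻¹ ∈ Q := fun g w hw => Subgroup.Normal.conj_mem inferInstance w hw g
      have hδconj : ∀ g : X, ∀ w ∈ Q, g * ⁅u, w⁆ * g⁻¹ = ⁅u, g * w * g⁻¹⁆ := fun g w hw => by
        obtain ⟨m, hm, e⟩ := hgu g
        rw [show g * ⁅u, w⁆ * g⁻¹ = ⁅g * u * g⁻¹, g * w * g⁻¹⁆ by simp only [commutatorElement_def]; group, e,
          show ⁅u * m, g * w * g⁻¹⁆ = u * ⁅m, g * w * g⁻¹⁆ * u⁻¹ * ⁅u, g * w * g⁻¹⁆ by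
            simp only [commutatorElement_def]; group,
          commutatorElement_eq_one_iff_mul_comm.2 (hMc m hm _ (hcjQ g w hw)), mul_one, mul_inv_cancel, one_mul]
      have hδmul : ∀ v ∈ Q, ∀ w ∈ Q, ⁅u, v * w⁆ = ⁅u, v⁆ * ⁅u, w⁆ := fun v hv w hw => by
        rw [show ⁅u, v * w⁆ = ⁅u, v⁆ * (v * ⁅u, w⁆ * v⁻¹) by simp only [commutatorElement_def]; group,
          ← hMc _ (hcomm u hu w hw) v hv, mul_inv_cancel_right]
      have hδU : ∀ r ∈ U, ⁅u, r⁆ = 1 := fun r hr => by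
        rcases hUm r hr with e | e
        · exact commutatorElement_eq_one_iff_mul_comm.2 (hMc r ((hπ1 r).1 e) u hu).symm
        · obtain ⟨m, hm, rfl⟩ : ∃ m ∈ M, r = u * m := ⟨u⁻¹ * r, QuotientGroup.eq.1 e.symm, by group⟩
          rw [hδmul u hu m (hMle hm), commutatorElement_self, one_mul]
          exact commutatorElement_eq_one_iff_mul_comm.2 (hMc m hm u hu).symm
      let K : Subgroup X := Q ⊓ Subgroup.centralizer {u}
      haveI : K.Normal := ⟨fun w hw g => ⟨hcjQ g w hw.1, Subgroup.mem_centralizer_singleton_iff.2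
        (commutatorElement_eq_one_iff_mul_comm.1 (by
          rw [← hδconj g w hw.1, commutatorElement_eq_one_iff_mul_comm.2
            (Subgroup.mem_centralizer_singleton_iff.1 hw.2).symm, mul_one, mul_inv_cancel])).symm⟩⟩
      rcases hN.no_hyper (L := K) (fun w hw => ⟨hUQ hw, Subgroup.mem_centralizer_singleton_iff.2
          (commutatorElement_eq_one_iff_mul_comm.1 (hδU w hw)).symm⟩) (fun w hw => hw.1) with eK | eK
      swap
      · -- `u` is central in `Q`
        have hRc : ∀ r ∈ U, ∀ w ∈ Q, r * w = w * r := fun r hr w hw => by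
          rcases hUm r hr with e | e
          · exact hMc r ((hπ1 r).1 e) w hw
          · obtain ⟨m, hm, rfl⟩ : ∃ m ∈ M, r = u * m := ⟨u⁻¹ * r, QuotientGroup.eq.1 e.symm, by group⟩
            rw [mul_assoc, hMc m hm w hw, ← mul_assoc,
              (Subgroup.mem_centralizer_singleton_iff.1 (eK.ge hw).2).symm, mul_assoc]
        obtain ⟨hab, hker, huniq, hroot⟩ := abelian_lift C hN hMU hUQ hUel hRc hM8 hMnt hMQ hsq hcomm
          (by rw [hcardQ, hU16])
        obtain ⟨a, y, ha, hy, hy3, ha2, habc⟩ := hN.exists_pair C.two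
        exact finish_abelian C hN le_rfl hab (fun w hw => ⟨w, hw, rfl⟩) (fun n hn => hM2 _ (hsq n hn))
          huniq hUel (by omega) ha hy hy3 ha2 habc
      -- the commutator with `u` is an isomorphism onto `M`
      have hkerδ : ∀ w ∈ Q, ⁅u, w⁆ = 1 → θ w = 0 := fun w hw e => (hN.ker w hw).2 (eK.le ⟨hw,
        Subgroup.mem_centralizer_singleton_iff.2 (commutatorElement_eq_one_iff_mul_comm.1 e).symm⟩)
      have hδinj : ∀ v ∈ Q, ∀ w ∈ Q, ⁅u, v⁆ = ⁅u, w⁆ → θ v = θ w := fun v hv w hw e => by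
        have h1 := hkerδ _ (mul_mem (inv_mem hv) hw) (by
          have := hδmul v hv (v⁻¹ * w) (mul_mem (inv_mem hv) hw)
          rw [mul_inv_cancel_left, e] at this
          exact left_eq_mul.1 this)
        rw [hN.mul _ (inv_mem hv) w hw, hN.inv hv] at h1
        calc θ v = θ v + (θ w + θ w) := by
              rw [show θ w + θ w = 0 from funext fun i => CharTwo.add_self_eq_zero _, add_zero]
          _ = θ w := by rw [← add_assoc, h1, zero_add]
      choose sec hsecQ hsec using hN.surj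
      have hδbij : Function.Bijective fun t : Vec => (⟨⁅u, sec t⁆, hcomm u hu _ (hsecQ t)⟩ : M) :=
        (Nat.bijective_iff_injective_and_card _).2 ⟨fun s t e => by
          rw [← hsec s, ← hsec t]; exact hδinj _ (hsecQ s) _ (hsecQ t) (congrArg Subtype.val e),
          by rw [card_vec, hM8]⟩
      -- squares are invariants of the cosets of `M`
      have hsqM : ∀ v ∈ Q, ∀ m ∈ M, v * m * (v * m) = v * v := fun v hv m hm => by
        calc v * m * (v * m) = v * (m * v) * m := by group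
          _ = v * v * (m * m) := by rw [hMc m hm v hv]; group
          _ = v * v := by rw [hM2 m hm, mul_one]
      have hsqu : ∀ v ∈ Q, u * v * (u * v) = ⁅u, v⁆ * (v * v) := fun v hv => by
        calc u * v * (u * v) = ⁅u, v⁆ * (v * (u * u) * v) := by simp only [commutatorElement_def]; group
          _ = _ := by rw [hu4, mul_one]
      obtain ⟨a, y, ha, hy, hy3, ha2, habc⟩ := hN.exists_pair C.two
      have hchoice : ∀ v ∈ Q, θ v = e0 → v * v = 1 ∨ v * v = ⁅u, v⁆ := by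
        intro v hv ev
        -- `a` and `y` fix the coset of `v` modulo `M`
        have hε : ∀ g : X, θ (g * v * g⁻¹) = θ v → π (g * v * g⁻¹) = π v ∨ π (g * v * g⁻¹) = π u * π v :=
          fun g e => by
            rcases hUm _ (hN.coset hv (hcjQ g v hv) e.symm) with h' | h'
            · left; rw [map_mul, map_inv, inv_mul_eq_one] at h'; exact h'.symm
            · right
              rw [map_mul, map_inv, inv_mul_eq_iff_eq_mul] at h'
              rw [h', Subgroup.mem_center_iff.1 hu'c]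
        have hmove : ∀ g : X, π g * π u * (π g)⁻¹ = π u := fun g => by
          rw [Subgroup.mem_center_iff.1 hu'c, mul_inv_cancel_right]
        have hyv : π (y * v * y⁻¹) = π v := by
          refine (hε y (by rw [(hN.conj_low ha hy hv).2, ev, mT_low _ low_e0])).resolve_right fun e => ?_
          have hcc : ∀ w, π (y * w * y⁻¹) = π y * π w * (π y)⁻¹ := fun w => by simp [mul_assoc]
          have e3 : π (y * (y * (y * v * y⁻¹) * y⁻¹) * y⁻¹) = π v := by
            rw [show y * (y * (y * v * y⁻¹) * y⁻¹) * y⁻¹ = y ^ 3 * v * (y ^ 3)⁻¹ by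
              simp only [pow_succ, pow_zero, one_mul, _root_.mul_inv_rev]; group, hy3]
            simp
          rw [hcc, hcc, e, show π y * (π u * π v) * (π y)⁻¹ = (π y * π u * (π y)⁻¹) * (π y * π v * (π y)⁻¹) by group,
            hmove, ← hcc, e,
            show π y * (π u * (π u * π v)) * (π y)⁻¹ = (π y * π u * (π y)⁻¹) * (π y * π u * (π y)⁻¹) *
              (π y * π v * (π y)⁻¹) by group, hmove, hu2, one_mul, ← hcc, e, mul_eq_right] at e3
          exact hu'1 e3
        have hav : π (a * v * a⁻¹) = π v := by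
          refine (hε a (by rw [(hN.conj_low ha hy hv).1, ev, mA_low _ low_e0])).resolve_right fun e => ?_
          simp only [map_mul, map_inv] at e hyv
          have hb : π (y * a * y⁻¹) * π v * (π (y * a * y⁻¹))⁻¹ = π u * π v := by
            simp only [map_mul, map_inv]
            calc π y * π a * (π y)⁻¹ * π v * (π y * π a * (π y)⁻¹)⁻¹
                = π y * (π a * ((π y)⁻¹ * π v * π y) * (π a)⁻¹) * (π y)⁻¹ := by group
              _ = π y * (π u * π v) * (π y)⁻¹ := by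
                rw [show (π y)⁻¹ * π v * π y = π v by nth_rw 1 [← hyv]; group, e]
              _ = (π y * π u * (π y)⁻¹) * (π y * π v * (π y)⁻¹) := by group
              _ = π u * π v := by rw [hmove, hyv]
          have hcc : π (y * y * a * (y * y)⁻¹) * π v * (π (y * y * a * (y * y)⁻¹))⁻¹ = π u * π v := by
            simp only [map_mul, map_inv] at hb ⊢
            calc π y * π y * π a * (π y * π y)⁻¹ * π v * (π y * π y * π a * (π y * π y)⁻¹)⁻¹
                = π y * ((π y * π a * (π y)⁻¹) * ((π y)⁻¹ * π v * π y) * (π y * π a * (π y)⁻¹)⁻¹) * (π y)⁻¹ := by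
                  simp only [_root_.mul_inv_rev, inv_inv, mul_assoc]
              _ = π y * (π u * π v) * (π y)⁻¹ := by
                rw [show (π y)⁻¹ * π v * π y = π v by nth_rw 1 [← hyv]; group, hb]
              _ = (π y * π u * (π y)⁻¹) * (π y * π v * (π y)⁻¹) := by group
              _ = π u * π v := by rw [hmove, hyv]
          have hq := hQbar _ habc v hv
          set A := π a
          set B := π (y * a * y⁻¹)
          set D := π (y * y * a * (y * y)⁻¹)
          rw [map_mul, map_mul] at hq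
          have e5 : A * B * D * π v * (A * B * D)⁻¹ = π v := by
            rw [hq, mul_inv_cancel_right]
          have e6 : A * B * D * π v * (A * B * D)⁻¹ = π u * π v := by
            calc A * B * D * π v * (A * B * D)⁻¹ = A * (B * (D * π v * D⁻¹) * B⁻¹) * A⁻¹ := by group
              _ = A * (B * (π u * π v) * B⁻¹) * A⁻¹ := by rw [hcc]
              _ = A * ((B * π u * B⁻¹) * (B * π v * B⁻¹)) * A⁻¹ := by group
              _ = A * (π u * π u * π v) * A⁻¹ := by rw [hmove, hb]; group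
              _ = π u * π v := by rw [hu2, one_mul, e]
          rw [e5, right_eq_mul] at e6
          exact hu'1 e6
        have hfix : ∀ g : X, π (g * v * g⁻¹) = π v → g * (v * v) * g⁻¹ = v * v := fun g e => by
          have h1 := hsqM v hv (v⁻¹ * (g * v * g⁻¹)) ((hπ1 _).1 (by rw [map_mul, map_inv, e, inv_mul_cancel]))
          rw [mul_inv_cancel_left] at h1
          calc g * (v * v) * g⁻¹ = g * v * g⁻¹ * (g * v * g⁻¹) := by group
            _ = v * v := h1
        obtain ⟨t, et⟩ := hδbij.2 ⟨v * v, hsq v hv⟩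
        have et : ⁅u, sec t⁆ = v * v := congrArg Subtype.val et
        have h2 := hδinj _ (hcjQ y _ (hsecQ t)) _ (hsecQ t) (by
          rw [← hδconj y _ (hsecQ t), et, hfix y hyv])
        rw [(hN.conj_low ha hy (hsecQ t)).2, hsec] at h2
        rcases fixed_low t h2 with e | e
        · left
          rw [← et]; exact hδU _ ((hN.ker _ (hsecQ t)).1 (by rw [hsec, e]))
        · right
          rw [← et]
          have hr := hN.coset hv (hsecQ t) (by rw [hsec, e, ev])
          calc ⁅u, sec t⁆ = ⁅u, v * (v⁻¹ * sec t)⁆ := by rw [mul_inv_cancel_left]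
            _ = ⁅u, v⁆ := by rw [hδmul v hv _ (hUQ hr), hδU _ hr, mul_one]
      have hchoiceAll : ∀ v ∈ Q, θ v ≠ 0 → v * v = 1 ∨ v * v = ⁅u, v⁆ := by
        intro v hv hv0
        obtain ⟨g, hg⟩ := hN.move hv hv0 (w := sec e0) (by rw [hsec]; decide)
        rcases hchoice _ (hcjQ g v hv) (hg.trans (hsec e0)) with e | e
        · left
          have e' : g * (v * v) * g⁻¹ = 1 := by rw [← e]; group
          exact conj_eq_one_iff.1 e'
        · right
          rw [← hδconj g v hv, show g * v * g⁻¹ * (g * v * g⁻¹) = g * (v * v) * g⁻¹ by group] at e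
          exact mul_left_cancel (mul_right_cancel e)
      have hδne : ∀ v ∈ Q, π v ≠ 1 → π v ≠ π u → θ v ≠ 0 := fun v hv h1 h2 e => by
        rcases hUm v ((hN.ker v hv).1 e) with e' | e'
        · exact h1 e'
        · exact h2 e'
      -- the invariant set
      refine hfinish (hsel {z | ∃ v ∈ Q, π v = z ∧ v * v = 1 ∧ θ v ≠ 0} ?_ ?_ ?_ ?_ ?_)
      · rintro _ ⟨v, hv, rfl, -, -⟩; exact ⟨v, hv, rfl⟩
      · intro g z hz
        obtain ⟨g', rfl⟩ := hsM g
        obtain ⟨v, hv, rfl, hv2, hv0⟩ := hz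
        refine ⟨g' * v * g'⁻¹, hcjQ g' v hv, by simp only [map_mul, map_inv], by
          rw [show g' * v * g'⁻¹ * (g' * v * g'⁻¹) = g' * (v * v) * g'⁻¹ by group, hv2, mul_one, mul_inv_cancel],
          fun e => hv0 ?_⟩
        have hr := (hN.ker _ (hcjQ g' v hv)).1 e
        refine (hN.ker v hv).2 ?_
        have := Subgroup.Normal.conj_mem (inferInstance : U.Normal) _ hr g'⁻¹
        simpa [mul_assoc] using this
      · rintro _ ⟨v, hv, rfl⟩ h1 h2
        have hv0 := hδne v hv h1 h2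
        have hδv : ⁅u, v⁆ ≠ 1 := fun e => hv0 (hkerδ v hv e)
        constructor
        · rintro ⟨w, hw, e, hw2, -⟩ ⟨w', hw', e', hw'2, -⟩
          have h3 : v * v = 1 := by
            rw [← hw2]
            have := hsqM w hw (w⁻¹ * v) (QuotientGroup.eq.1 e)
            rwa [mul_inv_cancel_left] at this
          have h4 : u * v * (u * v) = 1 := by
            rw [← hw'2]
            have := hsqM w' hw' (w'⁻¹ * (u * v)) (QuotientGroup.eq.1 (by
              rw [← QuotientGroup.mk'_apply, ← QuotientGroup.mk'_apply, map_mul]; exact e'))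
            rwa [mul_inv_cancel_left] at this
          rw [hsqu v hv, h3, mul_one] at h4
          exact hδv h4
        · intro hnot
          rcases hchoiceAll v hv hv0 with e | e
          · exact ⟨v, hv, rfl, e, hv0⟩
          · refine absurd ⟨u * v, mul_mem hu hv, map_mul π u v, ?_, ?_⟩ hnot
            · rw [hsqu v hv, e, hM2 _ (hcomm u hu v hv)]
            · rw [hN.mul u hu v hv, (hN.ker u hu).2 huU, zero_add]; exact hv0
      · rintro ⟨v, hv, e, -, hv0⟩
        exact hv0 ((hN.ker v hv).2 (hMU ((hπ1 v).1 e)))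
      · rintro ⟨v, hv, e, -, hv0⟩
        refine hv0 ((hN.ker v hv).2 ?_)
        show π v ∈ pairSub (π u) hu2
        exact Or.inr e
  · -- a cyclic quotient of order four
    rw [hc] at hcardQ
    set p := x * x with hp
    have hpM : p ∉ M := fun h => hx2 (by rw [← map_mul]; exact (hπ1 _).2 h)
    have hπp : π p = π x * π x := map_mul π x x
    have hval : ∀ w ∈ Q, w * w ∈ M ∨ p⁻¹ * (w * w) ∈ M := fun w hw => by
      rcases hxall _ ⟨w, hw, rfl⟩ with e | e
      · exact Or.inl ((hπ1 _).1 (by rw [map_mul]; exact e))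
      · refine Or.inr ((hπ1 _).1 ?_)
        rw [map_mul, map_inv, hπp, map_mul, e, inv_mul_cancel]
    have hpp : p * p ∈ M := (hπ1 _).1 (by rw [map_mul, hπp]; exact hx4)
    set P := sqSub Q with hP
    have hpP : p ∈ P := sq_mem_sqSub hx
    have hpQ : p ∈ Q := mul_mem hx hx
    -- `p` centralises `Q`
    have hpc : ∀ v ∈ Q, p * v = v * p := fun v hv => by
      have e : ⁅p, v⁆ = x * ⁅x, v⁆ * x⁻¹ * ⁅x, v⁆ := by simp only [hp, commutatorElement_def]; group
      have e2 : x * ⁅x, v⁆ * x⁻¹ = ⁅x, v⁆ := by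
        rw [← hMc _ (hcomm x hx v hv) x hx, mul_inv_cancel_right]
      rw [← commutatorElement_eq_one_iff_mul_comm, e, e2]
      exact hM2 _ (hcomm x hx v hv)
    -- elements of the coset `p M`
    have hcoset : ∀ v ∈ Q, p⁻¹ * v ∈ M → v * v = p * p ∧ ∀ w ∈ Q, v * w = w * v := fun v _ hv => by
      obtain ⟨m, hm, rfl⟩ : ∃ m ∈ M, v = p * m := ⟨p⁻¹ * v, hv, by group⟩
      refine ⟨?_, fun w hw => ?_⟩
      · calc p * m * (p * m) = p * (m * p) * m := by group
          _ = p * p * (m * m) := by rw [hMc m hm p hpQ]; group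
          _ = p * p := by rw [hM2 m hm, mul_one]
      · rw [mul_assoc, hMc m hm w hw, ← mul_assoc, hpc w hw, mul_assoc]
    have hP2 : ∀ w ∈ P, w ∈ M ∨ p⁻¹ * w ∈ M := by
      intro w hw
      induction hw using Subgroup.closure_induction with
      | mem w hw => obtain ⟨v, hv, rfl⟩ := hw; exact hval v hv
      | one => exact Or.inl (one_mem M)
      | mul u w hu' hw' hu hw =>
        rcases hu with hu | hu <;> rcases hw with hw | hw
        · exact Or.inl (mul_mem hu hw)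
        · refine Or.inr ?_
          rw [show p⁻¹ * (u * w) = (p⁻¹ * u * p⁻¹⁻¹) * (p⁻¹ * w) by group]
          exact mul_mem (Subgroup.Normal.conj_mem inferInstance u hu _) hw
        · exact Or.inr (by rw [← mul_assoc]; exact mul_mem hu hw)
        · left
          rw [show u * w = (p * (p⁻¹ * u) * p⁻¹) * (p * p) * (p⁻¹ * w) by group]
          exact mul_mem (mul_mem (Subgroup.Normal.conj_mem inferInstance _ hu _) hpp) hw
      | inv u _ hu =>
        rcases hu with hu | hu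
        · exact Or.inl (inv_mem hu)
        · right
          rw [show p⁻¹ * u⁻¹ = (p⁻¹ * (p⁻¹ * u)⁻¹ * p⁻¹⁻¹) * (p * p)⁻¹ by group]
          exact mul_mem (Subgroup.Normal.conj_mem inferInstance _ (inv_mem hu) _) (inv_mem hpp)
    let L : Subgroup X :=
      { carrier := {w | w ∈ Q ∧ w * w ∈ M}
        one_mem' := ⟨one_mem Q, by rw [one_mul]; exact one_mem M⟩
        mul_mem' := fun {u w} hu hw => ⟨mul_mem hu.1 hw.1, by
          rw [show u * w * (u * w) = (u * u) * ((u⁻¹ * w * u⁻¹⁻¹ * w⁻¹) * (w * w)) by group]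
          exact mul_mem hu.2 (mul_mem (hcomm _ (inv_mem hu.1) w hw.1) hw.2)⟩
        inv_mem' := fun {u} hu => ⟨inv_mem hu.1, by rw [← _root_.mul_inv_rev]; exact inv_mem hu.2⟩ }
    haveI : L.Normal := ⟨fun w hw g => ⟨Subgroup.Normal.conj_mem inferInstance w hw.1 g, by
      rw [show g * w * g⁻¹ * (g * w * g⁻¹) = g * (w * w) * g⁻¹ by group]
      exact Subgroup.Normal.conj_mem inferInstance _ hw.2 g⟩⟩
    have hLQ : L ≤ Q := fun w hw => hw.1
    have hxL : x ∉ L := fun h => hpM h.2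
    have hsqout : ∀ w ∈ Q, w ∉ L → p⁻¹ * (w * w) ∈ M := fun w hw hwL =>
      (hval w hw).resolve_left fun e => hwL ⟨hw, e⟩
    have hgen : ∀ w ∈ Q, w ∈ L ∨ x⁻¹ * w ∈ L := fun w hw => by
      by_cases hwL : w ∈ L
      · exact Or.inl hwL
      · refine Or.inr ⟨mul_mem (inv_mem hx) hw, ?_⟩
        have e : x⁻¹ * w * (x⁻¹ * w) = (x⁻¹ * ⁅w, x⁻¹⁆ * x⁻¹⁻¹) * (p⁻¹ * (w * w)) := by
          simp only [hp, commutatorElement_def]; group
        rw [e]
        exact mul_mem (Subgroup.Normal.conj_mem inferInstance _ (hcomm w hw _ (inv_mem hx)) _)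
          (hsqout w hw hwL)
    -- `p` has order two
    have hp1 : p * p = 1 := hMmin _ hpp fun g => by
      have hgx : g * x * g⁻¹ ∉ L := fun h => hxL (by
        have := Subgroup.Normal.conj_mem (inferInstance : L.Normal) _ h g⁻¹
        rwa [show g⁻¹ * (g * x * g⁻¹) * g⁻¹⁻¹ = x by group] at this)
      have h1 := hsqout _ (Subgroup.Normal.conj_mem inferInstance x hx g) hgx
      rw [show g * x * g⁻¹ * (g * x * g⁻¹) = g * p * g⁻¹ by rw [hp]; group] at h1
      have h2 := (hcoset _ (Subgroup.Normal.conj_mem inferInstance p hpQ g) h1).1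
      rw [← mul_inv_eq_iff_eq_mul]
      calc g * (p * p) * g⁻¹ = g * p * g⁻¹ * (g * p * g⁻¹) := by group
        _ = p * p := h2
    have hPel : ∀ r ∈ P, r * r = 1 := fun r hr => by
      rcases hP2 r hr with h | h
      · exact hM2 r h
      · rw [(hcoset r (sqSub_le Q hr) h).1, hp1]
    have hPc : ∀ r ∈ P, ∀ w ∈ Q, r * w = w * r := fun r hr w hw => by
      rcases hP2 r hr with h | h
      · exact hMc r h w hw
      · exact (hcoset r (sqSub_le Q hr) h).2 w hw
    have hPL : P ≤ L := fun w hw => ⟨sqSub_le Q hw, by rw [hPel w hw]; exact one_mem M⟩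
    have hPle : Nat.card P ≤ 16 := by
      have := card_le_two_mul (N := P) (K := M) fun v hv hvM w hw hwM => by
        have h1 := (hP2 v hv).resolve_left hvM
        have h2 := (hP2 w hw).resolve_left hwM
        rw [show v⁻¹ * w = (p⁻¹ * v)⁻¹ * (p⁻¹ * w) by group]
        exact mul_mem (inv_mem h1) h2
      omega
    have htop := C.card_top
    rw [← hP] at htop
    have hP16 : Nat.card P = 16 := by omega
    have hL128 : Nat.card L = 128 := by
      have h1 := CfsgLib.NoSCN.card_two_mul_le (B := L) (A := Q) hLQ hx hxL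
      have h2 := card_le_two_mul (N := Q) (K := L) fun v hv hvL w hw hwL => by
        have h1 := (hgen v hv).resolve_left hvL
        have h2 := (hgen w hw).resolve_left hwL
        rw [show v⁻¹ * w = (x⁻¹ * v)⁻¹ * (x⁻¹ * w) by group]
        exact mul_mem (inv_mem h1) h2
      omega
    have htriv : ∀ g : X, ∀ w ∈ Q, ⁅g, w⁆ ∈ L := C.base.trivial_of_small hLQ
      (by rw [hL128, hcardQ]; norm_num) fun q hq w hw => hPL (hMS (hcomm q hq w hw))
    have hntL : ¬ ∀ g : X, ∀ w ∈ L, ⁅g, w⁆ ∈ P := fun h => by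
      obtain ⟨g, w, hw, hgw⟩ := C.act
      exact hgw (C.base.trivial_of_chain (N := Q) (L := L) (R := P) hLQ hPL (fun w hw => hMS hw.2)
        (fun q hq w hw => hMS (hcomm q hq w hw)) htriv h g w hw)
    obtain ⟨θ, ρ, hN⟩ := C.base.exists_natural (N := L) (R := P) hPL (fun w hw => hMS hw.2)
      (by rw [hL128, hP16]) (fun q hq w hw => hMS (hcomm q hq w hw.1)) hntL
    obtain ⟨hab, hker, huniq, hroot⟩ := abelian_lift C hN hMS hPL hPel
      (fun r hr w hw => hPc r hr w hw.1) hM8 hMnt hMQ (fun w hw => hw.2)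
      (fun u hu w hw => hcomm u hu.1 w hw.1) (by rw [hL128, hP16])
    obtain ⟨a, y, ha, hy, hy3, ha2, haL, hprod, habQ⟩ := no_tower C hN hPL hLQ hab hPel huniq hroot
      (fun n hn => hn.2) hMS (by omega) hx hxL hgen hcomm htriv (fun r hr => (hPc r hr x hx).symm)
      (fun r hr => (hP2 r hr).imp id fun h w hw hwL => by
        rw [show (w * w)⁻¹ * r = (p⁻¹ * (w * w))⁻¹ * (p⁻¹ * r) by group]
        exact mul_mem (inv_mem (hsqout w hw hwL)) h)
    -- the fixed element above `M`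
    have hyL : ∀ g : X, g * (a * a) * g⁻¹ ∉ L := fun g h => haL (by
      have := Subgroup.Normal.conj_mem (inferInstance : L.Normal) _ h g⁻¹
      rwa [show g⁻¹ * (g * (a * a) * g⁻¹) * g⁻¹⁻¹ = a * a by group] at this)
    have hcjQ : ∀ g : X, ∀ w ∈ Q, g * w * g⁻¹ ∈ Q := fun g w hw => Subgroup.Normal.conj_mem inferInstance w hw g
    set p₁ := a * a * (a * a) with hp₁
    have hp₁c : ∀ g : X, g * p₁ * g⁻¹ ∈ P ∧ p⁻¹ * (g * p₁ * g⁻¹) ∈ M := fun g => by
      rw [show g * p₁ * g⁻¹ = (g * (a * a) * g⁻¹) * (g * (a * a) * g⁻¹) by rw [hp₁]; group]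
      exact ⟨sq_mem_sqSub (hcjQ g _ ha2), hsqout _ (hcjQ g _ ha2) (hyL g)⟩
    have hp₁P : p₁ ∈ P := by simpa using (hp₁c 1).1
    have hcjP : ∀ r ∈ P, ∀ g : X, g * r * g⁻¹ ∈ P := fun r hr g => Subgroup.Normal.conj_mem inferInstance r hr g
    set p₀ := p₁ * (y * p₁ * y⁻¹) * (y * y * p₁ * (y * y)⁻¹) with hp₀
    have hp₀P : p₀ ∈ P := mul_mem (mul_mem hp₁P (hcjP _ hp₁P y)) (hcjP _ hp₁P _)
    have hPcomm : ∀ r ∈ P, ∀ s ∈ P, r * s = s * r := fun r hr s hs => hPc r hr s (sqSub_le Q hs)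
    obtain ⟨m₀, hm₀, hm₀e⟩ : ∃ m ∈ M, p₀ = p₁ * m := by
      refine ⟨(y * p₁ * y⁻¹) * (y * y * p₁ * (y * y)⁻¹), ?_, by rw [hp₀]; group⟩
      have e : (y * p₁ * y⁻¹) * (y * y * p₁ * (y * y)⁻¹) =
          (p * (p⁻¹ * (y * p₁ * y⁻¹)) * p⁻¹) * (p * p) * (p⁻¹ * (y * y * p₁ * (y * y)⁻¹)) := by group
      rw [e]
      exact mul_mem (mul_mem (Subgroup.Normal.conj_mem inferInstance _ (hp₁c y).2 p) hpp) (hp₁c (y * y)).2
    have hy0 : y * p₀ * y⁻¹ = p₀ := by
      have e : y * p₀ * y⁻¹ = (y * p₁ * y⁻¹) * (y * y * p₁ * (y * y)⁻¹) * ((y ^ 3) * p₁ * (y ^ 3)⁻¹) := by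
        rw [hp₀]; simp only [pow_succ, pow_zero, one_mul]; group
      rw [e, hy3, one_mul, inv_one, mul_one,
        hPcomm _ (mul_mem (hcjP _ hp₁P y) (hcjP _ hp₁P (y * y))) p₁ hp₁P, hp₀]
      group
    have hap₁ : a * p₁ * a⁻¹ = p₁ := by rw [hp₁]; group
    obtain ⟨k, hk, hkm⟩ := hroot m₀ hm₀
    have hcjL : ∀ g : X, ∀ w ∈ L, g * w * g⁻¹ ∈ L := fun g w hw => Subgroup.Normal.conj_mem inferInstance w hw g
    set s := (a * k * a⁻¹) * k⁻¹ with hs
    have hsL : s ∈ L := mul_mem (hcjL a k hk) (inv_mem hk)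
    have hslow : Low (θ s) := by
      rw [hs, hN.mul _ (hcjL a k hk) _ (inv_mem hk), hN.inv hk, (hN.conj_low ha hy hk).1]
      exact mA_sub _
    set ε := s * s with hε
    have hεP : ε ∈ P := sq_mem_sqSub hsL.1
    have hεfix : ∀ g : X, θ (g * s * g⁻¹) = θ s → g * ε * g⁻¹ = ε := fun g e => by
      rw [hε, show g * (s * s) * g⁻¹ = (g * s * g⁻¹) * (g * s * g⁻¹) by group]
      exact hN.sq_congr (fun r hr w hw => hPc r hr w hw.1) hPel (hcjL g s hsL) hsL e
    have hεy : y * ε * y⁻¹ = ε := hεfix y (by rw [(hN.conj_low ha hy hsL).2, mT_low _ hslow])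
    have hεa : a * ε * a⁻¹ = ε := hεfix a (by rw [(hN.conj_low ha hy hsL).1, mA_low _ hslow])
    have ha0 : a * p₀ * a⁻¹ = p₀ * ε := by
      have e1 : ε = m₀⁻¹ * (a * m₀ * a⁻¹) := by
        rw [← hkm, hε, hs]
        calc a * k * a⁻¹ * k⁻¹ * (a * k * a⁻¹ * k⁻¹)
            = a * k * a⁻¹ * (k⁻¹ * (a * k * a⁻¹)) * k⁻¹ := by group
          _ = a * k * a⁻¹ * ((a * k * a⁻¹) * k⁻¹) * k⁻¹ := by rw [hab _ (inv_mem hk) _ (hcjL a k hk)]
          _ = (a * (k * k) * a⁻¹) * (k * k)⁻¹ := by group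
          _ = (k * k)⁻¹ * (a * (k * k) * a⁻¹) :=
            hab _ (hcjL a _ (mul_mem hk hk)) _ (inv_mem (mul_mem hk hk))
      rw [e1, hm₀e, show a * (p₁ * m₀) * a⁻¹ = (a * p₁ * a⁻¹) * (a * m₀ * a⁻¹) by group, hap₁]
      group
    have hb0 : ∀ g : X, g * p₀ * g⁻¹ = p₀ → g * ε * g⁻¹ = ε →
        g * a * g⁻¹ * p₀ * (g * a * g⁻¹)⁻¹ = p₀ * ε ∧ g * a * g⁻¹ * ε * (g * a * g⁻¹)⁻¹ = ε := by
      intro g h1 h2
      have h1' : g⁻¹ * p₀ * g = p₀ := by nth_rw 1 [← h1]; group
      have h2' : g⁻¹ * ε * g = ε := by nth_rw 1 [← h2]; group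
      constructor
      · rw [show g * a * g⁻¹ * p₀ * (g * a * g⁻¹)⁻¹ = g * (a * (g⁻¹ * p₀ * g) * a⁻¹) * g⁻¹ by group, h1', ha0,
          show g * (p₀ * ε) * g⁻¹ = (g * p₀ * g⁻¹) * (g * ε * g⁻¹) by group, h1, h2]
      · rw [show g * a * g⁻¹ * ε * (g * a * g⁻¹)⁻¹ = g * (a * (g⁻¹ * ε * g) * a⁻¹) * g⁻¹ by group, h2', hεa, h2]
    have hyy : y * y * p₀ * (y * y)⁻¹ = p₀ := by
      rw [show y * y * p₀ * (y * y)⁻¹ = y * (y * p₀ * y⁻¹) * y⁻¹ by group, hy0, hy0]
    have hyyε : y * y * ε * (y * y)⁻¹ = ε := by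
      rw [show y * y * ε * (y * y)⁻¹ = y * (y * ε * y⁻¹) * y⁻¹ by group, hεy, hεy]
    have hε1 : ε = 1 := by
      obtain ⟨hbp, hbε⟩ := hb0 y hy0 hεy
      obtain ⟨hcp, hcε⟩ := hb0 (y * y) hyy hyyε
      have hq : a * (y * a * y⁻¹) * (y * y * a * (y * y)⁻¹) * p₀ *
          (a * (y * a * y⁻¹) * (y * y * a * (y * y)⁻¹))⁻¹ = p₀ := by
        rw [← hPc p₀ hp₀P _ hprod, mul_inv_cancel_right]
      set b := y * a * y⁻¹
      set c := y * y * a * (y * y)⁻¹
      rw [show a * b * c * p₀ * (a * b * c)⁻¹ = a * (b * (c * p₀ * c⁻¹) * b⁻¹) * a⁻¹ by group, hcp,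
        show b * (p₀ * ε) * b⁻¹ = (b * p₀ * b⁻¹) * (b * ε * b⁻¹) by group, hbp, hbε,
        show p₀ * ε * ε = p₀ * (ε * ε) by group, hPel ε hεP, mul_one, ha0, mul_eq_left] at hq
      exact hq
    rw [hε1, mul_one] at ha0
    -- pass to the centraliser of `p₀`
    let H : Subgroup X := Subgroup.centralizer {p₀}
    have hHmem : ∀ g, g ∈ H ↔ g * p₀ = p₀ * g := fun g => Subgroup.mem_centralizer_singleton_iff
    have hQH : Q ≤ H := fun w hw => (hHmem w).2 (hPc p₀ hp₀P w hw).symm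
    have haH : a ∈ H := (hHmem a).2 (mul_inv_eq_iff_eq_mul.1 ha0)
    have hyH : y ∈ H := (hHmem y).2 (mul_inv_eq_iff_eq_mul.1 hy0)
    let Z : Subgroup H := Subgroup.zpowers ⟨p₀, hQH (sqSub_le Q hp₀P)⟩
    have hZc : Z ≤ Subgroup.center H := Subgroup.zpowers_le.2 (Subgroup.mem_center_iff.2 fun g =>
      Subtype.ext ((hHmem g.1).1 g.2))
    haveI : Z.Normal := ⟨fun z hz g => by
      rwa [Subgroup.mem_center_iff.1 (hZc hz) g, mul_inv_cancel_right]⟩
    have hp₀2 : p₀ * p₀ = 1 := hPel _ hp₀P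
    have hZm : ∀ z : H, z ∈ Z → (z : X) = 1 ∨ (z : X) = p₀ := by
      intro z hz
      have hle : Z ≤ (pairSub p₀ hp₀2).subgroupOf H := Subgroup.zpowers_le.2 (Or.inr rfl)
      exact hle hz
    set σ := QuotientGroup.mk' Z with hσ
    have hσs : Function.Surjective σ := QuotientGroup.mk'_surjective Z
    haveI : (Q.subgroupOf H).Normal := inferInstance
    set W := (Q.subgroupOf H).map σ with hW
    haveI : W.Normal := Subgroup.Normal.map inferInstance σ hσs
    have hp₀M : p₀ ∉ M := fun h => hpM (by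
      have h2 := (hp₁c 1).2
      rw [one_mul, inv_one, mul_one] at h2
      have h3 : p₁ ∈ M := by
        have := mul_mem h (inv_mem hm₀)
        rwa [hm₀e, mul_inv_cancel_right] at this
      have := mul_mem h3 (inv_mem h2)
      rwa [show p₁ * (p⁻¹ * p₁)⁻¹ = p by group] at this)
    have hPcase : ∀ r ∈ P, r ∈ M ∨ p₀⁻¹ * r ∈ M := fun r hr => (hP2 r hr).imp id fun h => by
      have h0 := (hP2 p₀ hp₀P).resolve_left hp₀M
      rw [show p₀⁻¹ * r = (p⁻¹ * p₀)⁻¹ * (p⁻¹ * r) by group]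
      exact mul_mem (inv_mem h0) h
    -- the coordinates
    have hrootW : ∀ w : X, w ∈ Q → ∃ n ∈ L, n * n = w * w ∨ p₀ * (n * n) = w * w := fun w hw => by
      rcases hPcase _ (sq_mem_sqSub hw) with h | h
      · obtain ⟨n, hn, e⟩ := hroot _ h; exact ⟨n, hn, Or.inl e⟩
      · obtain ⟨n, hn, e⟩ := hroot _ h; exact ⟨n, hn, Or.inr (by rw [e, mul_inv_cancel_left])⟩
    have hsqinj : ∀ n ∈ L, ∀ n' ∈ L, n * n = p₀ * (n' * n') → False := fun n hn n' hn' e => hp₀M (by
      have h1 := mul_mem hn.2 (inv_mem hn'.2)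
      rwa [e, mul_inv_cancel_right] at h1)
    choose! root hrootL hrootE using hrootW
    have hroot_uniq : ∀ w ∈ Q, ∀ n ∈ L, (n * n = w * w ∨ p₀ * (n * n) = w * w) → θ (root w) = θ n := by
      intro w hw n hn e
      rcases hrootE w hw with e' | e' <;> rcases e with e | e
      · exact huniq _ (hrootL w hw) n hn (e'.trans e.symm)
      · exact (hsqinj _ (hrootL w hw) n hn (e'.trans e.symm)).elim
      · exact (hsqinj n hn _ (hrootL w hw) (e.trans e'.symm)).elim
      · exact huniq _ (hrootL w hw) n hn (mul_left_cancel (e'.trans e.symm))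
    -- independence of the representative
    have hrep : ∀ w ∈ Q, θ (root (w * p₀)) = θ (root w) := fun w hw => by
      refine hroot_uniq _ (mul_mem hw (sqSub_le Q hp₀P)) _ (hrootL w hw) ?_
      rw [show w * p₀ * (w * p₀) = w * (p₀ * w) * p₀ by group, hPc p₀ hp₀P w hw,
        show w * (w * p₀) * p₀ = w * w * (p₀ * p₀) by group, hp₀2, mul_one]
      exact hrootE w hw
    let θ' : H ⧸ Z → Vec := fun z => θ (root ((Function.surjInv hσs z : H) : X))
    have hθ' : ∀ w : H, (w : X) ∈ Q → θ' (σ w) = θ (root (w : X)) := fun w hw => by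
      set w' := Function.surjInv hσs (σ w)
      have e : σ w' = σ w := Function.surjInv_eq hσs (σ w)
      rcases hZm _ (QuotientGroup.eq.1 e.symm) with h | h
      · show θ (root (w' : X)) = _
        rw [show (w' : X) = w by
          have := congrArg (fun t => (w : X) * t) h
          simpa using this]
      · show θ (root (w' : X)) = _
        rw [show (w' : X) = (w : X) * p₀ by
          have := congrArg (fun t => (w : X) * t) h
          simpa using this, hrep _ hw]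
    have hlift : ∀ z ∈ W, ∃ w : H, (w : X) ∈ Q ∧ σ w = z := fun z hz => by
      obtain ⟨w, hw, rfl⟩ := hz; exact ⟨w, hw, rfl⟩
    have hsqmul : ∀ u ∈ Q, ∀ v ∈ Q, u * v * (u * v) = (u * u) * (v * v) := fun u hu v hv => by
      calc u * v * (u * v) = u * (v * u) * v := by group
        _ = u * (u * v) * v := by rw [habQ v hv u hu]
        _ = u * u * (v * v) := by group
    have hrootmul : ∀ u ∈ Q, ∀ v ∈ Q, θ (root (u * v)) = θ (root u) + θ (root v) := fun u hu v hv => by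
      rw [← hN.mul _ (hrootL u hu) _ (hrootL v hv)]
      refine hroot_uniq _ (mul_mem hu hv) _ (mul_mem (hrootL u hu) (hrootL v hv)) ?_
      rw [hsqmul u hu v hv, hsqmul _ (hLQ (hrootL u hu)) _ (hLQ (hrootL v hv))]
      set A := root u * root u with hA
      have hc : A * p₀ = p₀ * A := (hPc p₀ hp₀P A (hLQ (mul_mem (hrootL u hu) (hrootL u hu)))).symm
      rcases hrootE u hu with e | e <;> rcases hrootE v hv with e' | e' <;> rw [← e, ← e']
      · exact Or.inl rfl
      · right; rw [← mul_assoc, ← hc, mul_assoc]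
      · exact Or.inr (mul_assoc p₀ A _).symm
      · left
        calc A * (root v * root v) = (p₀ * p₀) * A * (root v * root v) := by rw [hp₀2, one_mul]
          _ = p₀ * (p₀ * A) * (root v * root v) := by group
          _ = p₀ * (A * p₀) * (root v * root v) := by rw [hc]
          _ = _ := by rw [hA]; group
    have hrootconj : ∀ g ∈ H, ∀ v ∈ Q, θ (root (g * v * g⁻¹)) = θ (g * root v * g⁻¹) := fun g hg v hv => by
      refine hroot_uniq _ (hcjQ g v hv) _ (hcjL g _ (hrootL v hv)) ?_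
      rcases hrootE v hv with e | e
      · left
        rw [show g * v * g⁻¹ * (g * v * g⁻¹) = g * (v * v) * g⁻¹ by group, ← e]; group
      · right
        rw [show g * v * g⁻¹ * (g * v * g⁻¹) = g * (v * v) * g⁻¹ by group, ← e,
          show g * (p₀ * (root v * root v)) * g⁻¹ = (g * p₀) * (root v * root v) * g⁻¹ by group, (hHmem g).1 hg]
        group
    let a' : H := ⟨a, haH⟩
    let y' : H := ⟨y, hyH⟩
    have hWc : ∀ u ∈ W, ∀ v ∈ W, u * v = v * u := by
      rintro _ ⟨u, hu, rfl⟩ _ ⟨v, hv, rfl⟩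
      rw [← map_mul, ← map_mul]
      exact congrArg σ (Subtype.ext (habQ _ hu _ hv))
    have hone : ∀ w : H, (w : X) ∈ Q → ((w : X) * w = 1 ∨ (w : X) * w = p₀ ↔ σ w * σ w = 1) := fun w hw => by
      rw [← map_mul]
      refine ⟨fun e => (QuotientGroup.eq_one_iff _).2 ?_, fun e => hZm (w * w) ((QuotientGroup.eq_one_iff _).1 e)⟩
      rcases e with e | e
      · rw [show w * w = (1 : H) from Subtype.ext e]; exact one_mem Z
      · rw [show w * w = (⟨p₀, hQH (sqSub_le Q hp₀P)⟩ : H) from Subtype.ext e]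
        exact Subgroup.mem_zpowers _
    have hker' : ∀ w : H, (w : X) ∈ Q → (θ' (σ w) = 0 ↔ σ w * σ w = 1) := fun w hw => by
      rw [hθ' w hw, ← hone w hw]
      refine ⟨fun e => ?_, fun e => ?_⟩
      · have h1 := hPel _ ((hN.ker _ (hrootL _ hw)).1 e)
        rcases hrootE _ hw with e' | e' <;> rw [h1] at e'
        · exact Or.inl e'.symm
        · rw [mul_one] at e'; exact Or.inr e'.symm
      · refine (hroot_uniq _ hw 1 (one_mem L) ?_).trans hN.one
        rcases e with e | e <;> rw [e]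
        · exact Or.inl (one_mul 1)
        · exact Or.inr (by rw [one_mul, mul_one])
    have hWcard : Nat.card W * 2 ≤ 256 := by
      have h1 := (σ.subgroupMap (Q.subgroupOf H)).ker.card_mul_index
      rw [Subgroup.index_ker, MonoidHom.range_eq_top.2 (σ.subgroupMap_surjective _), Subgroup.card_top,
        Nat.card_congr (Subgroup.subgroupOfEquivOfLe hQH).toEquiv] at h1
      have h2 : 2 ≤ Nat.card (σ.subgroupMap (Q.subgroupOf H)).ker := by
        refine Nat.succ_le_of_lt (Finite.one_lt_card_iff_nontrivial.2 ⟨1, ⟨⟨⟨p₀, hQH (sqSub_le Q hp₀P)⟩,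
          sqSub_le Q hp₀P⟩, ?_⟩, ?_⟩)
        · refine MonoidHom.mem_ker.2 (Subtype.ext ?_)
          exact (QuotientGroup.eq_one_iff _).2 (Subgroup.mem_zpowers _)
        · intro e
          have e' : p₀ = 1 := congrArg (fun t : (σ.subgroupMap (Q.subgroupOf H)).ker => ((t.1.1 : H) : X)) e.symm
          exact hp₀M (e' ▸ one_mem M)
      have h3 : Nat.card (σ.subgroupMap (Q.subgroupOf H)).ker * Nat.card W = 256 := by
        rw [hW, h1, hcardQ]
      have h4 := Nat.mul_le_mul_right (Nat.card W) h2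
      omega
    refine no_homocyclic (Q := W) (a := σ a') (y := σ y') ⟨hWc, ?_, ⟨a' * a', ha2, map_mul σ a' a'⟩,
      ⟨a' * (y' * a' * y'⁻¹) * (y' * y' * a' * (y' * y')⁻¹), hprod, by simp only [map_mul, map_inv]⟩⟩
      (CfsgLib.RankFourRadical.rank_quot (CfsgLib.CenterPair.sectional_subgroup C.rank H) Z) θ' ?_ ?_ ?_ ?_ ?_ ?_ ?_
    · rw [← map_pow, show y' ^ 3 = 1 from Subtype.ext hy3, map_one]
    · intro u hu v hv
      obtain ⟨u, hu', rfl⟩ := hlift u hu
      obtain ⟨v, hv', rfl⟩ := hlift v hv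
      rw [← map_mul, hθ' _ (mul_mem hu' hv'), hθ' u hu', hθ' v hv']
      exact hrootmul _ hu' _ hv'
    · intro t
      obtain ⟨n, hn, e⟩ := hN.surj t
      refine ⟨σ ⟨n, hQH hn.1⟩, ⟨_, hn.1, rfl⟩, ?_⟩
      rw [hθ' _ hn.1, ← e]
      exact hroot_uniq n hn.1 n hn (Or.inl rfl)
    · intro u hu
      obtain ⟨u, hu', rfl⟩ := hlift u hu
      exact hker' u hu'
    · intro u hu
      obtain ⟨u, hu', rfl⟩ := hlift u hu
      rw [← map_inv σ a', ← map_mul, ← map_mul, hθ' _ (hcjQ a _ hu'), hθ' u hu']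
      exact (hrootconj a haH _ hu').trans (hN.conj_low ha hy (hrootL _ hu')).1
    · intro u hu
      obtain ⟨u, hu', rfl⟩ := hlift u hu
      rw [← map_inv σ y', ← map_mul, ← map_mul, hθ' _ (hcjQ y _ hu'), hθ' u hu']
      exact (hrootconj y hyH _ hu').trans (hN.conj_low ha hy (hrootL _ hu')).2
    · intro u hu
      obtain ⟨u, hu', rfl⟩ := hlift u hu
      rw [← map_mul, ← map_mul, show u * u * (u * u) = (1 : H) from Subtype.ext (hPel _ (sq_mem_sqSub hu')),
        map_one]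
    · let sec : Vec → H := fun t => ⟨(hN.surj t).choose, hQH (hN.surj t).choose_spec.1.1⟩
      have hsecQ : ∀ t, (sec t : X) ∈ Q := fun t => (hN.surj t).choose_spec.1.1
      have hsec : ∀ t, θ' (σ (sec t)) = t := fun t => by
        rw [hθ' _ (hsecQ t)]
        exact (hroot_uniq _ (hsecQ t) _ (hN.surj t).choose_spec.1 (Or.inl rfl)).trans (hN.surj t).choose_spec.2
      let f : Vec × {u : H ⧸ Z // u ∈ W ∧ u * u = 1} → W := fun i =>
        ⟨σ (sec i.1) * i.2.1, mul_mem ⟨_, hsecQ _, rfl⟩ i.2.2.1⟩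
      have hf : Function.Injective f := by
        rintro ⟨s', ⟨u, hu, hu2⟩⟩ ⟨t, ⟨v, hv, hv2⟩⟩ e
        obtain ⟨u, hu', rfl⟩ := hlift u hu
        obtain ⟨v, hv', rfl⟩ := hlift v hv
        have e : σ (sec s') * σ u = σ (sec t) * σ v := congrArg Subtype.val e
        have e' := congrArg θ' e
        have key : ∀ (t : Vec) (u : H), (u : X) ∈ Q → σ u * σ u = 1 → θ' (σ (sec t) * σ u) = t := fun t u hu hu2 => by
          have h0 := (hker' u hu).2 hu2
          rw [hθ' u hu] at h0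
          rw [← map_mul, hθ' (sec t * u) (mul_mem (hsecQ t) hu), Subgroup.coe_mul, hrootmul _ (hsecQ t) _ hu, h0,
            add_zero, ← hθ' _ (hsecQ t), hsec]
        rw [key _ _ hu' hu2, key _ _ hv' hv2] at e'
        subst e'
        exact Prod.ext rfl (Subtype.ext (mul_left_cancel e))
      have := Nat.card_le_card_of_injective f hf
      rw [Nat.card_prod, card_vec] at this
      omega

end CfsgLib.RankFourLinear
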