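import Cfsg.Agent.Lib.RankFourLinear.OrderTwo
import Cfsg.Agent.Lib.RankFourLinear.Octad

/-!
The radical has one of the three shapes.
-/

set_option autoImplicit false
set_option linter.style.haveILetI false

namespace CfsgLib.RankFourLinear

open scoped commutatorElement

universe u

variable {X : Type u} [Group X] [Finite X] {Q : Subgroup X}

theorem card_quot_lt {M : Subgroup X} (hM : M ≠ ⊥) : Nat.card (X ⧸ M) < Nat.card X := by
  rw [Subgroup.card_eq_card_quotient_mul_card_subgroup M]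
  exact lt_mul_of_one_lt_right Nat.card_pos ((Subgroup.one_lt_card_iff_ne_bot M).2 hM)

/-- A minimal normal subgroup below the squares. -/
theorem Cfg.exists_layer (C : Cfg Q) (hP : sqSub Q ≠ ⊥) :
    ∃ M : Subgroup X, M.Normal ∧ M ≤ sqSub Q ∧ M ≠ ⊥ ∧ (∀ q ∈ Q, ∀ m ∈ M, ⁅q, m⁆ = 1) ∧
      (∀ m ∈ M, m * m = 1) ∧ Nat.card M ≤ 16 ∧
      ∀ K : Subgroup X, K.Normal → K ≤ M → K = ⊥ ∨ K = M := by
  haveI := C.base.qn
  haveI : Fact (Nat.Prime 2) := ⟨Nat.prime_two⟩
  obtain ⟨M, ⟨hMn, hMS, hM1⟩, hminimal⟩ :=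
    (Set.toFinite {N : Subgroup X | N.Normal ∧ N ≤ sqSub Q ∧ N ≠ ⊥}).exists_minimal
      ⟨sqSub Q, inferInstance, le_rfl, hP⟩
  haveI := hMn
  have hmin : ∀ K : Subgroup X, K.Normal → K ≤ M → K = ⊥ ∨ K = M := fun K h1 h2 =>
    or_iff_not_imp_left.2 fun h3 => le_antisymm h2 (hminimal ⟨h1, h2.trans hMS, h3⟩ h2)
  have hMQ : M ≤ Q := hMS.trans (sqSub_le Q)
  have hM2 : IsPGroup 2 M := C.two.to_le hMQ
  have hcQ : ∀ q ∈ Q, ∀ m ∈ M, q * m = m * q := by
    have hne : M ⊓ Subgroup.centralizer (Q : Set X) ≠ ⊥ := by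
      haveI := C.two.isNilpotent
      haveI : (M.subgroupOf Q).Normal := inferInstance
      have h1 : M.subgroupOf Q ≠ ⊥ := by
        rw [ne_eq, Subgroup.subgroupOf_eq_bot, disjoint_iff, inf_eq_left.2 hMQ]
        exact hM1
      obtain ⟨⟨z, hz⟩, hz1⟩ := Subgroup.ne_bot_iff_exists_ne_one.1
        (CfsgLib.Critical.inf_center_ne_bot (M.subgroupOf Q) h1)
      refine fun hb => hz1 (Subtype.ext (Subtype.ext ?_))
      have hmem : (z : X) ∈ M ⊓ Subgroup.centralizer (Q : Set X) :=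
        ⟨hz.1, Subgroup.mem_centralizer_iff.2 fun q hq =>
          congrArg Subtype.val (Subgroup.mem_center_iff.1 hz.2 ⟨q, hq⟩)⟩
      rw [hb, Subgroup.mem_bot] at hmem
      exact hmem
    have h2 := (hmin _ inferInstance inf_le_left).resolve_left hne
    exact fun q hq m hm => (Subgroup.mem_centralizer_iff.1 (h2.ge hm).2 q hq)
  have hMc : ∀ m ∈ M, ∀ n ∈ M, m * n = n * m := fun m hm n hn => hcQ m (hMQ hm) n hn
  let Ω : Subgroup X :=
    { carrier := {m | m ∈ M ∧ m * m = 1}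
      one_mem' := ⟨one_mem M, one_mul 1⟩
      mul_mem' := by
        rintro x y ⟨hx, hx2⟩ ⟨hy, hy2⟩
        refine ⟨mul_mem hx hy, ?_⟩
        calc x * y * (x * y) = x * (y * x) * y := by group
          _ = (x * x) * (y * y) := by rw [hMc y hy x hx]; group
          _ = 1 := by rw [hx2, hy2, one_mul]
      inv_mem' := by
        rintro x ⟨hx, hx2⟩
        exact ⟨inv_mem hx, by rw [← _root_.mul_inv_rev, hx2, inv_one]⟩ }
  haveI : Ω.Normal := ⟨fun m hm g => ⟨Subgroup.Normal.conj_mem hMn m hm.1 g, by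
    calc g * m * g⁻¹ * (g * m * g⁻¹) = g * (m * m) * g⁻¹ := by group
      _ = 1 := by rw [hm.2, mul_one, mul_inv_cancel]⟩⟩
  have hΩ : Ω ≠ ⊥ := by
    obtain ⟨n, hn⟩ := hM2.exists_card_eq
    have hdvd : 2 ∣ Nat.card M := by
      rw [hn]
      refine dvd_pow_self 2 fun h0 => hM1 ?_
      rw [h0, pow_zero] at hn
      exact Subgroup.card_eq_one.1 hn
    obtain ⟨m, hm⟩ := exists_prime_orderOf_dvd_card' 2 hdvd
    intro hb
    have hmem : (m : X) ∈ Ω := ⟨m.2, by
      rw [← pow_two, ← hm, ← Subgroup.orderOf_coe, pow_orderOf_eq_one]⟩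
    rw [hb, Subgroup.mem_bot] at hmem
    rw [← Subgroup.orderOf_coe, hmem, orderOf_one] at hm
    omega
  have hsq : ∀ m ∈ M, m * m = 1 := fun m hm =>
    (((hmin Ω inferInstance fun _ h => h.1).resolve_left hΩ).ge hm).2
  refine ⟨M, hMn, hMS, hM1, fun q hq m hm => commutatorElement_eq_one_iff_mul_comm.2 (hcQ q hq m hm),
    hsq, ?_, hmin⟩
  have := CfsgLib.DEightWreath.card_le_of_sectional C.rank (X := M) (K := ⊥)
    ⟨bot_le, fun x hx => by rw [Subgroup.mem_bot]; exact hsq x hx⟩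
  simpa [Subgroup.card_bot] using this

/-- The radical has one of the three shapes. -/
theorem Cfg.shape (C : Cfg Q) : Shape Q := by
  suffices H : ∀ n, ∀ (Y : Type u) [Group Y] [Finite Y], Nat.card Y = n →
      ∀ R : Subgroup Y, Cfg R → Shape R from H _ X rfl Q C
  intro n
  induction n using Nat.strong_induction_on with
  | _ n ih =>
    intro X _ _ hn Q C
    by_cases hP : sqSub Q = ⊥
    · refine Or.inl ⟨fun x hx => ?_, ?_⟩
      · have := sq_mem_sqSub hx
        rwa [hP, Subgroup.mem_bot] at this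
      · simpa [hP] using C.card_top
    obtain ⟨M, hMn, hMS, hM1, hMQ, hMsq, hM16, hmin⟩ := C.exists_layer hP
    haveI := hMn
    have hQ' : Shape (Q.map (QuotientGroup.mk' M)) :=
      ih _ (hn ▸ card_quot_lt hM1) (X ⧸ M) rfl _ (C.quot M hMS)
    obtain ⟨⟨z, hz⟩, hz1'⟩ := Subgroup.ne_bot_iff_exists_ne_one.1 hM1
    have hz1 : z ≠ 1 := fun h => hz1' (Subtype.ext h)
    have hpair : ∀ w (hw2 : w * w = 1), w ∈ M → w ≠ 1 → (∀ g : X, g * w = w * g) → M = pairSub w hw2 := by
      intro w hw2 hw hw1 hwc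
      refine ((hmin _ (pairSub_normal hwc) ?_).resolve_left fun hb => hw1 ?_).symm
      · rintro v (rfl | rfl) <;> [exact one_mem M; exact hw]
      · exact (Subgroup.mem_bot.1 (hb.le (Or.inr rfl)))
    by_cases htriv : ∀ g : X, ∀ m ∈ M, ⁅g, m⁆ = 1
    · have hzc : ∀ g : X, g * z = z * g := fun g => commutatorElement_eq_one_iff_mul_comm.1 (htriv g z hz)
      have hz2 := hMsq z hz
      have e := hpair z hz2 hz hz1 hzc
      subst e
      exact shape_of_two C hz2 hz1 hzc (hMS hz) hQ'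
    exfalso
    have hM8 : Nat.card M = 8 := by
      haveI : Fact (Nat.Prime 2) := ⟨Nat.prime_two⟩
      obtain ⟨k, hk⟩ := (C.two.to_le (hMS.trans (sqSub_le Q))).exists_card_eq
      have hk3 : 3 ≤ k := by
        by_contra hlt
        refine htriv fun g m hm => Subgroup.mem_bot.1 (C.base.trivial_of_small bot_le ?_
          (fun q hq x hx => Subgroup.mem_bot.2 (hMQ q hq x hx)) g m hm)
        rw [hk, Subgroup.card_bot, mul_one]
        exact (Nat.pow_le_pow_right (by norm_num) (by omega : k ≤ 2)).trans (by norm_num)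
      have hk4 : k ≤ 4 := (Nat.pow_le_pow_iff_right (le_refl 2)).1 (hk ▸ hM16)
      interval_cases k
      · simpa using hk
      · exfalso
        rcases C.base.sixteen hMsq (by simpa using hk) hMQ htriv with ⟨N, hN, hNn, hN8⟩ | ⟨u, hu, hu1, huc, -⟩
        · rcases hmin N hNn hN with e | e
          · rw [e, Subgroup.card_bot] at hN8; omega
          · rw [e, hk] at hN8; omega
        · have e := hpair u (hMsq u hu) hu hu1 fun g => Subgroup.mem_center_iff.1 huc g
          rw [e, card_pairSub hu1] at hk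
          omega
    refine no_octad C hM8 hMsq hMQ htriv (fun m hm hmc => ?_) hMS hQ'
    by_contra hm1
    rw [hpair m (hMsq m hm) hm hm1 hmc, card_pairSub hm1] at hM8
    omega

end CfsgLib.RankFourLinear
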