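import Mathlib

/-!
Four transvections with a common centre in three dimensions over the field with two elements,
permuted by an element of order three.
-/

set_option autoImplicit false

namespace CfsgLib.RankFourLinear

open Matrix

/-- The natural module. -/
abbrev Vec := Fin 3 → ZMod 2

/-- The centre. -/
def e0 : Vec := ![1, 0, 0]

/-- A vector moved by the transvections. -/
def e1 : Vec := ![0, 1, 0]

/-- A transvection. -/
def mA : Matrix (Fin 3) (Fin 3) (ZMod 2) := !![1, 1, 0; 0, 1, 0; 0, 0, 1]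

/-- The element of order three. -/
def mT : Matrix (Fin 3) (Fin 3) (ZMod 2) := !![1, 0, 0; 0, 0, 1; 0, 1, 1]

/-- The first conjugate. -/
def vB (w : Vec) : Vec := mT *ᵥ (mA *ᵥ (mT *ᵥ (mT *ᵥ w)))

/-- The second conjugate. -/
def vC (w : Vec) : Vec := mA *ᵥ vB w

/-- The line spanned by the centre. -/
def Low (w : Vec) : Prop := w = 0 ∨ w = e0

instance (w : Vec) : Decidable (Low w) := inferInstanceAs (Decidable (_ ∨ _))

theorem low_zero : Low 0 := Or.inl rfl

theorem low_e0 : Low e0 := Or.inr rfl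

theorem mA_e1 : mA *ᵥ e1 + e1 = e0 := by decide

theorem vB_e1 : vB e1 + e1 = e0 := by decide

theorem e0_ne : e0 ≠ 0 := by decide

theorem mA_low : ∀ w, Low w → mA *ᵥ w = w := by decide

theorem mT_low : ∀ w, Low w → mT *ᵥ w = w := by decide

theorem mA_sub : ∀ w, Low (mA *ᵥ w + w) := by decide

theorem vB_sub : ∀ w, Low (vB w + w) := by decide

theorem fixed_low : ∀ w, mT *ᵥ w = w → Low w := by decide

theorem fixed_pair : ∀ w, mA *ᵥ w = w → vB w = w → Low w := by decide

theorem twisted_low : ∀ w, mT *ᵥ w = mA *ᵥ w → Low w := by decide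

/-- The squares of the lifts lie over the centre. -/
theorem square_low : ∀ s q, mA *ᵥ s = s → mT *ᵥ q = mA *ᵥ q →
    vB (mA *ᵥ q + q + s + vC (mT *ᵥ s) + mT *ᵥ (mT *ᵥ s)) +
      (mA *ᵥ q + q + s + vC (mT *ᵥ s) + mT *ᵥ (mT *ᵥ s)) = mT *ᵥ s + vC (mT *ᵥ s) →
    Low s := by decide

/-- The fixed plane of the transvection. -/
theorem fixed_plane : ∀ s w, mA *ᵥ s = s → mA *ᵥ w = w → ¬ Low w → Low s ∨ Low (s + w) := by decide

theorem moved_plane : ∀ w r, mA *ᵥ w = w → ¬ Low w → Low r → vB (w + r) + (w + r) = e0 := by decide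

theorem moved_pair : ∀ w, mA *ᵥ w = w → ¬ Low w → ¬ Low (w + mT *ᵥ w) := by decide

theorem sum_low : ∀ s, Low (s + mT *ᵥ s + mT *ᵥ (mT *ᵥ s)) := by decide

theorem square_fixed : ∀ s, mA *ᵥ s = s → vC (mT *ᵥ s) = mT *ᵥ s → Low s := by decide

theorem moved_low : ∀ w, Low (mT *ᵥ w + w) → Low w := by decide

theorem plane_card : ∀ u w : Vec, u 0 = 0 → w 0 = 0 → Low (u + w) → u = w := by decide

end CfsgLib.RankFourLinear
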