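import Cfsg.Agent.Lib.RankFourLinear.Matrices
import Cfsg.Agent.Lib.Coprime.Action

/-!
Small modules for a simple group of order 168.
-/

set_option autoImplicit false
set_option linter.style.haveILetI false

namespace CfsgLib.RankFourLinear

open Matrix
open scoped commutatorElement

/-- The group of the natural module. -/
abbrev G3 := GL (Fin 3) (ZMod 2)

variable {X : Type*} [Group X]

/-- `X / Q` is simple of order 168. -/
structure Over (Q : Subgroup X) : Prop where
  qn : Q.Normal
  index : Q.index = 168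
  simple : ∀ N : Subgroup X, N.Normal → Q ≤ N → N = Q ∨ N = ⊤

/-- Coordinates for a natural section `N / R`. -/
structure Natural (Q N R : Subgroup X) (θ : X → Vec) (ρ : X →* G3) : Prop where
  mul : ∀ x ∈ N, ∀ w ∈ N, θ (x * w) = θ x + θ w
  ker : ∀ x ∈ N, (θ x = 0 ↔ x ∈ R)
  surj : ∀ t, ∃ x ∈ N, θ x = t
  equiv : ∀ g : X, ∀ x ∈ N, θ (g * x * g⁻¹) = (ρ g : Matrix (Fin 3) (Fin 3) (ZMod 2)) *ᵥ θ x
  onto : Function.Surjective ρ
  kerQ : ρ.ker = Q

/-- The transvection. -/
def gA : G3 := ⟨mA, mA, by decide, by decide⟩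

/-- The element of order three. -/
def gT : G3 := ⟨mT, mT * mT, by decide, by decide⟩

theorem gA_sq : gA * gA = 1 := Units.ext (show mA * mA = 1 by decide)

theorem gT_cube : gT ^ 3 = 1 :=
  Units.ext (show ((gT ^ 3 : G3) : Matrix (Fin 3) (Fin 3) (ZMod 2)) = 1 by
    rw [Units.val_pow_eq_pow_val]; show mT ^ 3 = 1; decide)

theorem g_prod : gA * (gT * gA * gT⁻¹) * (gT * gT * gA * (gT * gT)⁻¹) = 1 :=
  Units.ext (show mA * (mT * mA * (mT * mT)) * (mT * mT * mA * (mT * mT * (mT * mT))) = 1 by decide)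

/-- Conjugation modulo `R` fixes `N`. -/
def trivialOn (N R : Subgroup X) [N.Normal] [R.Normal] : Subgroup X where
  carrier := {g | ∀ x ∈ N, ⁅g, x⁆ ∈ R}
  one_mem' := fun x _ => by rw [commutatorElement_one_left]; exact one_mem R
  mul_mem' := fun {g k} hg hk x hx => by
    rw [show ⁅g * k, x⁆ = g * ⁅k, x⁆ * g⁻¹ * ⁅g, x⁆ by simp only [commutatorElement_def]; group]
    exact mul_mem (Subgroup.Normal.conj_mem inferInstance _ (hk x hx) g) (hg x hx)
  inv_mem' := fun {g} hg x hx => by
    rw [show ⁅g⁻¹, x⁆ = g⁻¹ * ⁅g, x⁆⁻¹ * g⁻¹⁻¹ by simp only [commutatorElement_def]; group]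
    exact Subgroup.Normal.conj_mem inferInstance _ (inv_mem (hg x hx)) _

instance (N R : Subgroup X) [N.Normal] [R.Normal] : (trivialOn N R).Normal :=
  ⟨fun g hg k x hx => by
    have h := Subgroup.Normal.conj_mem (inferInstance : R.Normal) _
      (hg (k⁻¹ * x * k⁻¹⁻¹) (Subgroup.Normal.conj_mem inferInstance x hx k⁻¹)) k
    rw [show ⁅k * g * k⁻¹, x⁆ = k * ⁅g, k⁻¹ * x * k⁻¹⁻¹⁆ * k⁻¹ by simp only [commutatorElement_def]; group]
    exact h⟩

section

variable [Finite X] {Q N R : Subgroup X}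

/-- An action on a section of order at most four is trivial. -/
theorem Over.trivial_of_small (O : Over Q) [N.Normal] [R.Normal] (hle : R ≤ N)
    (hcard : Nat.card N ≤ 4 * Nat.card R) (hQ : ∀ q ∈ Q, ∀ x ∈ N, ⁅q, x⁆ ∈ R) :
    ∀ g : X, ∀ x ∈ N, ⁅g, x⁆ ∈ R := by
  classical
  rcases O.simple (trivialOn N R) inferInstance hQ with e | e
  swap
  · exact fun g => (e.ge (Subgroup.mem_top g) : g ∈ trivialOn N R)
  exfalso
  set π := QuotientGroup.mk' R
  set V := N.map π
  haveI : V.Normal := Subgroup.Normal.map inferInstance π (QuotientGroup.mk'_surjective R)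
  let ψ : X →* Equiv.Perm V :=
    (MonoidHom.mk' (fun f : MulAut V => (f.toEquiv : Equiv.Perm V)) fun f g => rfl).comp
      ((MulAut.conjNormal : X ⧸ R →* MulAut V).comp π)
  have hker : ψ.ker = trivialOn N R := by
    ext g
    refine ⟨fun hg x hx => ?_, fun hg => Equiv.ext fun z => ?_⟩
    · have h1 : (⟨π g * π x * (π g)⁻¹, _⟩ : V) = ⟨π x, x, hx, rfl⟩ :=
        Equiv.ext_iff.1 (MonoidHom.mem_ker.1 hg) ⟨π x, x, hx, rfl⟩
      have h2 : π g * π x * (π g)⁻¹ = π x := congrArg Subtype.val h1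
      refine (QuotientGroup.eq_one_iff _).1 ?_
      show π ⁅g, x⁆ = 1
      rw [commutatorElement_def, map_mul, map_mul, map_mul, map_inv, map_inv, h2, mul_inv_cancel]
    · obtain ⟨_, x, hx, rfl⟩ := z
      refine Subtype.ext ?_
      show π g * π x * (π g)⁻¹ = π x
      have h1 : π ⁅g, x⁆ = 1 := (QuotientGroup.eq_one_iff _).2 (hg x hx)
      rwa [commutatorElement_def, map_mul, map_mul, map_mul, map_inv, map_inv, mul_inv_eq_one] at h1
  have hV : Nat.card V ≤ 4 := by
    have h1 := (π.subgroupMap N).ker.card_mul_index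
    rw [Subgroup.index_ker, MonoidHom.range_eq_top.2 (π.subgroupMap_surjective N),
      Subgroup.card_top] at h1
    have h2 : (π.subgroupMap N).ker = R.subgroupOf N := by
      ext x
      rw [MonoidHom.mem_ker, Subgroup.mem_subgroupOf, Subtype.ext_iff]
      exact QuotientGroup.eq_one_iff _
    rw [h2, Nat.card_congr (Subgroup.subgroupOfEquivOfLe hle).toEquiv] at h1
    have : 0 < Nat.card R := Nat.card_pos
    nlinarith [h1, hcard]
  have h := ψ.range.card_subgroup_dvd_card
  rw [← Subgroup.index_ker, hker, e, O.index, Nat.card_perm] at h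
  have := Nat.le_of_dvd (Nat.factorial_pos _) h
  have := Nat.factorial_le hV
  simp [Nat.factorial] at this
  omega

/-- A non-trivial section of order eight is natural. -/
theorem Over.exists_natural (O : Over Q) [N.Normal] [R.Normal] (hle : R ≤ N)
    (hsq : ∀ x ∈ N, x * x ∈ R) (hcard : Nat.card N = 8 * Nat.card R)
    (hQ : ∀ q ∈ Q, ∀ x ∈ N, ⁅q, x⁆ ∈ R) (hnt : ¬ ∀ g : X, ∀ x ∈ N, ⁅g, x⁆ ∈ R) :
    ∃ θ ρ, Natural Q N R θ ρ := by
  classical
  set π := QuotientGroup.mk' R
  set V := N.map π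
  haveI : V.Normal := Subgroup.Normal.map inferInstance π (QuotientGroup.mk'_surjective R)
  have h2V : ∀ z : V, z * z = 1 := by
    rintro ⟨_, x, hx, rfl⟩
    refine Subtype.ext ?_
    show π x * π x = 1
    rw [← map_mul]; exact (QuotientGroup.eq_one_iff _).2 (hsq x hx)
  letI : CommGroup V :=
    { (inferInstance : Group V) with
      mul_comm := fun u w => by
        calc u * w = (u * w)⁻¹ := (inv_eq_of_mul_eq_one_right (h2V _)).symm
          _ = w⁻¹ * u⁻¹ := _root_.mul_inv_rev u w
          _ = w * u := by rw [inv_eq_of_mul_eq_one_right (h2V u), inv_eq_of_mul_eq_one_right (h2V w)] }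
  letI : Module (ZMod 2) (Additive V) := AddCommGroup.zmodModule fun z => by
    rw [two_nsmul]; exact h2V z.toMul
  have h8 : Nat.card (Additive V) = 8 := by
    have h1 := (π.subgroupMap N).ker.card_mul_index
    rw [Subgroup.index_ker, MonoidHom.range_eq_top.2 (π.subgroupMap_surjective N),
      Subgroup.card_top] at h1
    have h2 : (π.subgroupMap N).ker = R.subgroupOf N := by
      ext x
      rw [MonoidHom.mem_ker, Subgroup.mem_subgroupOf, Subtype.ext_iff]
      exact QuotientGroup.eq_one_iff _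
    rw [h2, Nat.card_congr (Subgroup.subgroupOfEquivOfLe hle).toEquiv, hcard, mul_comm] at h1
    exact Nat.eq_of_mul_eq_mul_right Nat.card_pos h1
  have hfr : Module.finrank (ZMod 2) (Additive V) = 3 := by
    have h := Module.natCard_eq_pow_finrank (K := ZMod 2) (V := Additive V)
    rw [h8, Nat.card_zmod] at h
    exact (Nat.pow_right_injective (le_refl 2) (by rw [← h]; rfl : 2 ^ 3 = 2 ^ _)).symm
  let e : Additive V ≃ₗ[ZMod 2] Vec := (Module.finBasisOfFinrankEq (ZMod 2) (Additive V) hfr).equivFun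
  let θ : X → Vec := fun x => if h : x ∈ N then e (Additive.ofMul ⟨π x, x, h, rfl⟩) else 0
  have hθ : ∀ x (h : x ∈ N), θ x = e (Additive.ofMul ⟨π x, x, h, rfl⟩) := fun x h => dif_pos h
  have hθmul : ∀ x ∈ N, ∀ w ∈ N, θ (x * w) = θ x + θ w := fun x hx w hw => by
    rw [hθ _ (mul_mem hx hw), hθ x hx, hθ w hw, ← map_add]
    exact congrArg e (Subtype.ext (map_mul π x w))
  have hθker : ∀ x ∈ N, (θ x = 0 ↔ x ∈ R) := fun x hx => by
    rw [hθ x hx, LinearEquiv.map_eq_zero_iff]
    exact ⟨fun h => (QuotientGroup.eq_one_iff _).1 (congrArg Subtype.val h),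
      fun h => Subtype.ext ((QuotientGroup.eq_one_iff _).2 h)⟩
  have hθsurj : ∀ t, ∃ x ∈ N, θ x = t := fun t => by
    obtain ⟨z, hz⟩ : ∃ z : V, e (Additive.ofMul z) = t := ⟨(e.symm t).toMul, e.apply_symm_apply t⟩
    obtain ⟨_, x, hx, rfl⟩ := z
    exact ⟨x, hx, by rw [hθ x hx]; exact hz⟩
  have hθneg : ∀ w : Vec, w + w = 0 := fun w => funext fun i => CharTwo.add_self_eq_zero _
  -- the matrices
  have hconj : ∀ g : X, ∀ x w, x ∈ N → w ∈ N → θ x = θ w → θ (g * x * g⁻¹) = θ (g * w * g⁻¹) := by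
    intro g x w hx hw h
    have hxw : x * w ∈ R := (hθker _ (mul_mem hx hw)).1 (by rw [hθmul x hx w hw, h, hθneg])
    have h1 : θ (g * (x * w) * g⁻¹) = 0 := (hθker _ (Subgroup.Normal.conj_mem inferInstance _ (mul_mem hx hw) g)).2
      (Subgroup.Normal.conj_mem inferInstance _ hxw g)
    rw [show g * (x * w) * g⁻¹ = (g * x * g⁻¹) * (g * w * g⁻¹) by group,
      hθmul _ (Subgroup.Normal.conj_mem inferInstance _ hx g) _ (Subgroup.Normal.conj_mem inferInstance _ hw g)] at h1
    calc θ (g * x * g⁻¹) = θ (g * x * g⁻¹) + (θ (g * w * g⁻¹) + θ (g * w * g⁻¹)) := by rw [hθneg, add_zero]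
      _ = _ := by rw [← add_assoc, h1, zero_add]
  choose sec hsecN hsec using hθsurj
  let F : X → Vec →ₗ[ZMod 2] Vec := fun g =>
    (AddMonoidHom.mk' (fun t => θ (g * sec t * g⁻¹)) fun s t => by
      rw [hconj g _ _ (hsecN (s + t)) (mul_mem (hsecN s) (hsecN t)) (by
        rw [hsec, hθmul _ (hsecN s) _ (hsecN t), hsec, hsec]),
        show g * (sec s * sec t) * g⁻¹ = (g * sec s * g⁻¹) * (g * sec t * g⁻¹) by group]
      exact hθmul _ (Subgroup.Normal.conj_mem inferInstance _ (hsecN s) g) _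
        (Subgroup.Normal.conj_mem inferInstance _ (hsecN t) g)).toZModLinearMap 2
  have hF : ∀ g, ∀ x ∈ N, F g (θ x) = θ (g * x * g⁻¹) := fun g x hx =>
    hconj g _ _ (hsecN _) hx (hsec _)
  let M : X →* Matrix (Fin 3) (Fin 3) (ZMod 2) :=
    { toFun := fun g => LinearMap.toMatrix' (F g)
      map_one' := by
        rw [← LinearMap.toMatrix'_id]
        refine congrArg _ (LinearMap.ext fun t => ?_)
        show θ (1 * sec t * 1⁻¹) = t
        rw [one_mul, inv_one, mul_one, hsec]
      map_mul' := fun g k => by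
        rw [← LinearMap.toMatrix'_comp]
        refine congrArg _ (LinearMap.ext fun t => ?_)
        show θ (g * k * sec t * (g * k)⁻¹) = F g (θ (k * sec t * k⁻¹))
        rw [hF g _ (Subgroup.Normal.conj_mem inferInstance _ (hsecN t) k)]
        congr 1; group }
  let ρ : X →* G3 := M.toHomUnits
  have heq : ∀ g : X, ∀ x ∈ N, θ (g * x * g⁻¹) = (ρ g : Matrix (Fin 3) (Fin 3) (ZMod 2)) *ᵥ θ x := by
    intro g x hx
    show _ = LinearMap.toMatrix' (F g) *ᵥ θ x
    rw [LinearMap.toMatrix'_mulVec, hF g x hx]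
  have hker : ρ.ker = trivialOn N R := by
    ext g
    refine ⟨fun hg x hx => ?_, fun hg => MonoidHom.mem_ker.2 (Units.ext ?_)⟩
    · have h1 := heq g x hx
      rw [MonoidHom.mem_ker.1 hg, Units.val_one, one_mulVec] at h1
      have hc := Subgroup.Normal.conj_mem (inferInstance : N.Normal) x hx g
      rw [commutatorElement_def]
      refine (hθker _ (mul_mem hc (inv_mem hx))).1 ?_
      have h2 := hθmul (g * x * g⁻¹ * x⁻¹) (mul_mem hc (inv_mem hx)) x hx
      rw [inv_mul_cancel_right, h1] at h2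
      exact (add_eq_right.1 h2.symm)
    · show LinearMap.toMatrix' (F g) = 1
      rw [← LinearMap.toMatrix'_id]
      refine congrArg _ (LinearMap.ext fun t => ?_)
      show θ (g * sec t * g⁻¹) = t
      have hx := hsecN t
      have hcm := hg _ hx
      have hc := Subgroup.Normal.conj_mem (inferInstance : N.Normal) _ hx g
      rw [show g * sec t * g⁻¹ = ⁅g, sec t⁆ * sec t by simp only [commutatorElement_def]; group,
        hθmul _ (hle hcm) _ hx, (hθker _ (hle hcm)).2 hcm, zero_add, hsec]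
  have hkQ : ρ.ker = Q := by
    rcases O.simple (trivialOn N R) inferInstance hQ with e1 | e1
    · rw [hker, e1]
    · exact absurd (fun g => (e1.ge (Subgroup.mem_top g) : g ∈ trivialOn N R)) hnt
  refine ⟨θ, ρ, hθmul, hθker, fun t => ⟨sec t, hsecN t, hsec t⟩, heq, ?_, hkQ⟩
  rw [← MonoidHom.range_eq_top]
  refine Subgroup.eq_top_of_card_eq _ ?_
  rw [← Subgroup.index_ker, hkQ, O.index, Matrix.card_GL_field]
  simp [Fin.prod_univ_succ]

/-- Lifts of the transvection and of the element of order three. -/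
theorem Natural.exists_pair {θ : X → Vec} {ρ : X →* G3} (h : Natural Q N R θ ρ) (hQ2 : IsPGroup 2 Q) :
    ∃ a y : X, ρ a = gA ∧ ρ y = gT ∧ y ^ 3 = 1 ∧ a * a ∈ Q ∧
      a * (y * a * y⁻¹) * (y * y * a * (y * y)⁻¹) ∈ Q := by
  obtain ⟨a, ha⟩ := h.onto gA
  obtain ⟨g, hg⟩ := h.onto gT
  have hmem : ∀ {x}, ρ x = 1 → x ∈ Q := fun hx => h.kerQ ▸ MonoidHom.mem_ker.2 hx
  obtain ⟨k, hk⟩ := hQ2 ⟨g ^ 3, hmem (by rw [map_pow, hg, gT_cube])⟩
  have hk' : (g ^ 3) ^ 2 ^ k = 1 := congrArg Subtype.val hk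
  have hy : ρ (g ^ 4 ^ k) = gT := by
    rw [map_pow, hg, pow_eq_pow_mod _ gT_cube, Nat.pow_mod]
    norm_num
  refine ⟨a, g ^ 4 ^ k, ha, hy, ?_, hmem (by rw [map_mul, ha, gA_sq]), hmem ?_⟩
  · rw [← pow_mul, mul_comm, pow_mul, show 4 ^ k = 2 ^ k * 2 ^ k by rw [← mul_pow]; norm_num,
      pow_mul, hk', one_pow]
  · simp only [map_mul, map_inv, ha, hy]
    exact g_prod

end

/-- The natural group moves any independent pair to any other. -/
theorem exists_move : ∀ v w : Vec, v ≠ 0 → w ≠ 0 → v ≠ w → ∀ v' w' : Vec, v' ≠ 0 → w' ≠ 0 → v' ≠ w' →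
    ∃ g : G3, (g : Matrix (Fin 3) (Fin 3) (ZMod 2)) *ᵥ v = v' ∧
      (g : Matrix (Fin 3) (Fin 3) (ZMod 2)) *ᵥ w = w' := by
  intro v w hv hw hvw v' w' hv' hw' hvw'
  have h2 : ∀ c : ZMod 2, c = 0 ∨ c = 1 := by decide
  have hli : ∀ p q : Vec, p ≠ 0 → q ≠ 0 → p ≠ q → LinearIndependent (ZMod 2) ![p, q] := fun p q hp hq hpq =>
    (LinearIndependent.pair_iff' hp).2 fun c => by
      rcases h2 c with rfl | rfl
      · rw [zero_smul]; exact hq.symm
      · rw [one_smul]; exact hpq
  obtain ⟨b, hb⟩ : ∃ b : Module.Basis (Fin 3) (ZMod 2) Vec, b 0 = v ∧ b 1 = w := by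
    obtain ⟨u, hu⟩ : ∃ u, u ∉ Submodule.span (ZMod 2) (Set.range ![v, w]) := by
      by_contra hc
      push Not at hc
      have htop : Submodule.span (ZMod 2) (Set.range ![v, w]) = ⊤ := eq_top_iff.2 fun x _ => hc x
      have := finrank_span_eq_card (hli v w hv hw hvw)
      rw [htop, finrank_top, Module.finrank_fin_fun] at this
      simp at this
    have h3 : LinearIndependent (ZMod 2) ![u, v, w] :=
      linearIndependent_finCons.2 ⟨hli v w hv hw hvw, hu⟩
    let b := basisOfLinearIndependentOfCardEqFinrank h3 (by simp)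
    refine ⟨b.reindex (Equiv.swap 0 1 * Equiv.swap 0 2), ?_, ?_⟩ <;>
      simp [b, coe_basisOfLinearIndependentOfCardEqFinrank, Equiv.Perm.mul_def, Equiv.swap_apply_def]
  obtain ⟨b', hb'⟩ : ∃ b : Module.Basis (Fin 3) (ZMod 2) Vec, b 0 = v' ∧ b 1 = w' := by
    obtain ⟨u, hu⟩ : ∃ u, u ∉ Submodule.span (ZMod 2) (Set.range ![v', w']) := by
      by_contra hc
      push Not at hc
      have htop : Submodule.span (ZMod 2) (Set.range ![v', w']) = ⊤ := eq_top_iff.2 fun x _ => hc x
      have := finrank_span_eq_card (hli v' w' hv' hw' hvw')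
      rw [htop, finrank_top, Module.finrank_fin_fun] at this
      simp at this
    have h3 : LinearIndependent (ZMod 2) ![u, v', w'] :=
      linearIndependent_finCons.2 ⟨hli v' w' hv' hw' hvw', hu⟩
    let b := basisOfLinearIndependentOfCardEqFinrank h3 (by simp)
    refine ⟨b.reindex (Equiv.swap 0 1 * Equiv.swap 0 2), ?_, ?_⟩ <;>
      simp [b, coe_basisOfLinearIndependentOfCardEqFinrank, Equiv.Perm.mul_def, Equiv.swap_apply_def]
  let f := b.equiv b' (Equiv.refl _)
  have hu : IsUnit (LinearMap.toMatrix' f.toLinearMap) :=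
    Matrix.mulVec_injective_iff_isUnit.1 fun x z e => f.injective (by
      simpa only [LinearMap.toMatrix'_mulVec, LinearEquiv.coe_coe] using e)
  exact ⟨hu.unit, (LinearMap.toMatrix'_mulVec _ _).trans (by rw [← hb.1]; simp [f, hb'.1]),
    (LinearMap.toMatrix'_mulVec _ _).trans (by rw [← hb.2]; simp [f, hb'.2])⟩

section

variable [Finite X] {Q W : Subgroup X}

/-- The invariant subgroups of a non-trivial module of order sixteen. -/
theorem Over.sixteen (O : Over Q) [W.Normal] (hW : ∀ x ∈ W, x * x = 1) (hcard : Nat.card W = 16)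
    (hQ : ∀ q ∈ Q, ∀ x ∈ W, ⁅q, x⁆ = 1) (hnt : ¬ ∀ g : X, ∀ x ∈ W, ⁅g, x⁆ = 1) :
    (∃ N, N ≤ W ∧ N.Normal ∧ Nat.card N = 8) ∨
      ∃ u, u ∈ W ∧ u ≠ 1 ∧ u ∈ Subgroup.center X ∧ ∀ S : Set X, S ⊆ W → (∀ g : X, ∀ x ∈ S, g * x * g⁻¹ ∈ S) →
        (∀ x ∈ W, x ≠ 1 → x ≠ u → (x ∈ S ↔ u * x ∉ S)) → 1 ∉ S → u ∉ S →
          ∃ N, N ≤ W ∧ N.Normal ∧ Nat.card N = 8 := by
  classical
  haveI := O.qn
  haveI : Fact (Nat.Prime 7) := ⟨by norm_num⟩
  have hWc : ∀ u ∈ W, ∀ w ∈ W, u * w = w * u := fun u hu w hw => by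
    calc u * w = (u * w)⁻¹ := (inv_eq_of_mul_eq_one_right (hW _ (mul_mem hu hw))).symm
      _ = w * u := by rw [_root_.mul_inv_rev, inv_eq_of_mul_eq_one_right (hW u hu),
        inv_eq_of_mul_eq_one_right (hW w hw)]
  have hinv : ∀ x ∈ W, x⁻¹ = x := fun x hx => inv_eq_of_mul_eq_one_right (hW x hx)
  have hkerQ : trivialOn W (⊥ : Subgroup X) = Q := by
    rcases O.simple (trivialOn W (⊥ : Subgroup X)) inferInstance (fun q hq x hx => Subgroup.mem_bot.2 (hQ q hq x hx)) with e | e
    · exact e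
    · exact absurd (fun g x hx => Subgroup.mem_bot.1 ((e.ge (Subgroup.mem_top g) : g ∈ trivialOn W ⊥) x hx)) hnt
  -- an element of order seven
  obtain ⟨z, hz⟩ := exists_prime_orderOf_dvd_card' (G := X ⧸ Q) 7 (by
    rw [← Subgroup.index_eq_card, O.index]; norm_num)
  obtain ⟨h, rfl⟩ := QuotientGroup.mk'_surjective Q z
  have hh7 : h ^ 7 ∈ Q := (QuotientGroup.eq_one_iff _).1 (by
    show QuotientGroup.mk' Q (h ^ 7) = 1
    rw [map_pow, ← hz, pow_orderOf_eq_one])
  have hhQ : h ∉ Q := fun hh => by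
    rw [show QuotientGroup.mk' Q h = 1 from (QuotientGroup.eq_one_iff _).2 hh, orderOf_one] at hz
    norm_num at hz
  have hcj : ∀ g : X, ∀ x ∈ W, g * x * g⁻¹ ∈ W := fun g x hx => Subgroup.Normal.conj_mem inferInstance x hx g
  have hQfix : ∀ q ∈ Q, ∀ x ∈ W, q * x * q⁻¹ = x := fun q hq x hx => by
    have := hQ q hq x hx
    rwa [commutatorElement_def, mul_inv_eq_one] at this
  let σ : Equiv.Perm W := (MulAut.conjNormal h : MulAut W).toEquiv
  have hσval : ∀ (n : ℕ) (x : W), ((σ ^ n) x : X) = h ^ n * x * (h ^ n)⁻¹ := by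
    intro n
    induction n with
    | zero => intro x; simp
    | succ n ih =>
      intro x
      rw [pow_succ', Equiv.Perm.mul_apply]
      show h * ((σ ^ n) x : X) * h⁻¹ = _
      rw [ih]; simp only [pow_succ', _root_.mul_inv_rev]; group
  have hσ7 : σ ^ 7 = 1 := Equiv.ext fun x => Subtype.ext (by rw [hσval, hQfix _ hh7 _ x.2]; rfl)
  -- the fixed points
  let F : Subgroup X := W ⊓ Subgroup.centralizer {h}
  have hFmem : ∀ x ∈ W, (x ∈ F ↔ h * x * h⁻¹ = x) := fun x hx => by
    rw [Subgroup.mem_inf, Subgroup.mem_centralizer_singleton_iff, mul_inv_eq_iff_eq_mul]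
    exact ⟨fun e => e.2.symm, fun e => ⟨hx, e.symm⟩⟩
  have hF2 : Nat.card F = 2 := by
    haveI : Fintype W := Fintype.ofFinite W
    have h1 := Equiv.Perm.card_compl_support_modEq (p := 7) (n := 1) (σ := σ) (by rw [pow_one, hσ7])
    have h2 : (σ.supportᶜ).card = Nat.card F := by
      rw [← Nat.card_eq_finsetCard]
      refine Nat.card_congr
        { toFun := fun x => ⟨x.1.1, (hFmem _ x.1.2).2 (congrArg Subtype.val (Equiv.Perm.notMem_support.1 (Finset.mem_compl.1 x.2) : σ x.1 = x.1))⟩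
          invFun := fun x => ⟨⟨x.1, x.2.1⟩, by simp [σ, Subtype.ext_iff, (hFmem _ x.2.1).1 x.2]⟩
          left_inv := fun x => rfl
          right_inv := fun x => rfl }
    rw [h2, ← Nat.card_eq_fintype_card, hcard] at h1
    have h3 : Nat.card F ∣ 2 ^ 4 := by
      have := Subgroup.card_dvd_of_le (inf_le_left : F ≤ W)
      rwa [hcard] at this
    obtain ⟨i, hi, e⟩ := (Nat.dvd_prime_pow Nat.prime_two).1 h3
    rw [e] at h1
    interval_cases i
    · exact absurd h1 (by decide)
    · exact e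
    · exact absurd h1 (by decide)
    · exact absurd h1 (by decide)
    · exfalso
      refine hhQ (hkerQ ▸ fun x hx => Subgroup.mem_bot.2 ?_)
      have hx' : x ∈ F := (Subgroup.eq_of_le_of_card_ge (inf_le_left : F ≤ W) (by rw [e, hcard]; norm_num)).ge hx
      rw [commutatorElement_def, (hFmem x hx).1 hx', mul_inv_cancel]
  obtain ⟨⟨u, huF⟩, hu1⟩ := Subgroup.ne_bot_iff_exists_ne_one.1
    (fun hb : F = ⊥ => by rw [hb, Subgroup.card_bot] at hF2; norm_num at hF2)
  have hu1' : u ≠ 1 := fun e => hu1 (Subtype.ext e)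
  have huW : u ∈ W := huF.1
  have hFeq : ∀ x ∈ F, x = 1 ∨ x = u := by
    intro x hx
    by_contra hc
    push Not at hc
    haveI := Fintype.ofFinite F
    rw [Nat.card_eq_fintype_card] at hF2
    have := Finset.card_le_univ ({⟨1, one_mem F⟩, ⟨u, huF⟩, ⟨x, hx⟩} : Finset F)
    rw [Finset.card_eq_three.2 ⟨_, _, _, ?_, ?_, ?_, rfl⟩, hF2] at this
    · omega
    all_goals simp only [ne_eq, Subtype.mk.injEq]
    · exact hu1'.symm
    · exact fun e => hc.1 e.symm
    · exact fun e => hc.2 e.symm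
  -- the commutators
  let τ : W →* X :=
    { toFun := fun x => h * x * h⁻¹ * (x : X)⁻¹
      map_one' := by simp
      map_mul' := fun x w => by
        have e := hWc _ (mul_mem (hcj h _ w.2) (inv_mem w.2)) _ (inv_mem x.2)
        simp only [Subgroup.coe_mul, _root_.mul_inv_rev]
        calc h * (x * w) * h⁻¹ * ((w : X)⁻¹ * (x : X)⁻¹)
            = h * x * h⁻¹ * (h * w * h⁻¹ * (w : X)⁻¹ * (x : X)⁻¹) := by group
          _ = h * x * h⁻¹ * ((x : X)⁻¹ * (h * w * h⁻¹ * (w : X)⁻¹)) := by rw [e]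
          _ = _ := by group }
  set N₁ := τ.range with hN₁
  have hN₁W : N₁ ≤ W := by
    rintro _ ⟨x, rfl⟩
    exact mul_mem (hcj h _ x.2) (inv_mem x.2)
  have hN₁8 : Nat.card N₁ = 8 := by
    have h1 := τ.ker.card_mul_index
    rw [Subgroup.index_ker] at h1
    have h2 : Nat.card τ.ker = Nat.card F := Nat.card_congr
      { toFun := fun x => ⟨x.1.1, (hFmem _ x.1.2).2 (mul_inv_eq_one.1 x.2)⟩
        invFun := fun x => ⟨⟨x.1, x.2.1⟩, mul_inv_eq_one.2 ((hFmem _ x.2.1).1 x.2)⟩
        left_inv := fun x => rfl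
        right_inv := fun x => rfl }
    rw [h2, hF2, hcard] at h1
    show Nat.card τ.range = 8
    omega
  have huN : u ∉ N₁ := by
    rintro ⟨x, hx⟩
    have e : h * x * h⁻¹ = u * x := eq_mul_of_mul_inv_eq hx
    have hk : ∀ n : ℕ, h ^ n * x * (h ^ n)⁻¹ = u ^ n * x := by
      intro n
      induction n with
      | zero => simp
      | succ n ih =>
        have hun : h * u ^ n * h⁻¹ = u ^ n := by
          rw [← conj_pow, (hFmem u huW).1 huF]
        calc h ^ (n + 1) * x * (h ^ (n + 1))⁻¹ = h * (h ^ n * x * (h ^ n)⁻¹) * h⁻¹ := by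
              rw [pow_succ']; group
          _ = (h * u ^ n * h⁻¹) * (h * x * h⁻¹) := by rw [ih]; group
          _ = u ^ (n + 1) * x := by rw [hun, e, pow_succ]; group
    have h7 := hk 7
    rw [hQfix _ hh7 _ x.2] at h7
    refine hu1' ?_
    calc u = u ^ 7 * (u * u)⁻¹ ^ 3 := by simp [pow_succ, mul_assoc]
      _ = 1 := by rw [hW u huW, inv_one, one_pow, mul_one]; exact mul_eq_right.1 h7.symm
  have hN₁h : ∀ x ∈ N₁, h * x * h⁻¹ ∈ N₁ := by
    rintro _ ⟨x, rfl⟩
    exact ⟨⟨h * x * h⁻¹, hcj h _ x.2⟩, by simp [τ]; group⟩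
  have hfree : ∀ x ∈ N₁, x ≠ 1 → h * x * h⁻¹ ≠ x := by
    intro x hx hx1 e
    rcases hFeq x ((hFmem x (hN₁W hx)).2 e) with rfl | rfl
    · exact hx1 rfl
    · exact huN hx
  -- a stable set contains all or none
  have hall : ∀ S : Set X, (∀ x ∈ S, h * x * h⁻¹ ∈ S) → ∀ x ∈ N₁, x ≠ 1 → x ∈ S →
      ∀ w ∈ N₁, w ≠ 1 → w ∈ S := by
    intro S hS x hx hx1 hxS w hw hw1
    let T := {z : N₁ // (z : X) ≠ 1 ∧ (z : X) ∈ S}
    let f : T → T := fun z => ⟨⟨h * z.1.1 * h⁻¹, hN₁h _ z.1.2⟩,
      ⟨fun e => z.2.1 (by simpa using e), hS _ z.2.2⟩⟩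
    have hf : Function.Injective f := fun z z' e => Subtype.ext (Subtype.ext (by
      simpa [f] using congrArg (fun t : T => (t.1 : X)) e))
    let p : Equiv.Perm T := Equiv.ofBijective f (Finite.injective_iff_bijective.1 hf)
    haveI : Fintype T := Fintype.ofFinite T
    have hp : ∀ (n : ℕ) (z : T), (((p ^ n) z).1 : X) = h ^ n * z.1.1 * (h ^ n)⁻¹ := by
      intro n
      induction n with
      | zero => intro z; simp
      | succ n ih =>
        intro z
        rw [pow_succ', Equiv.Perm.mul_apply]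
        show h * (((p ^ n) z).1 : X) * h⁻¹ = _
        rw [ih]; simp only [pow_succ', _root_.mul_inv_rev]; group
    have h1 := Equiv.Perm.card_compl_support_modEq (p := 7) (n := 1) (σ := p) (by
      rw [pow_one]
      exact Equiv.ext fun z => Subtype.ext (Subtype.ext (by rw [hp, hQfix _ hh7 _ (hN₁W z.1.2)]; rfl)))
    have h0 : (p.supportᶜ).card = 0 := by
      rw [Finset.card_eq_zero, Finset.eq_empty_iff_forall_notMem]
      intro z hz
      refine hfree _ z.1.2 z.2.1 ?_
      exact congrArg (fun t : T => (t.1 : X)) (Equiv.Perm.notMem_support.1 (Finset.mem_compl.1 hz) : p z = z)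
    rw [h0] at h1
    have hdvd : 7 ∣ Fintype.card T := Nat.modEq_zero_iff_dvd.1 h1.symm
    have hpos : 0 < Fintype.card T := Fintype.card_pos_iff.2 ⟨⟨⟨x, hx⟩, hx1, hxS⟩⟩
    by_contra hwS
    let i : T ⊕ Bool → N₁ := Sum.elim (fun z => z.1) fun b => if b then 1 else ⟨w, hw⟩
    have hi : Function.Injective i := by
      rintro (z | b) (z' | b') e <;> simp only [i, Sum.elim_inl, Sum.elim_inr] at e
      · exact congrArg Sum.inl (Subtype.ext e)
      · cases b' <;> simp only [Bool.false_eq_true, if_false, if_true] at e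
        · refine absurd ?_ hwS
          have := z.2.2
          rw [e] at this
          exact this
        · exact absurd (congrArg Subtype.val e) z.2.1
      · cases b <;> simp only [Bool.false_eq_true, if_false, if_true] at e
        · refine absurd ?_ hwS
          have := z'.2.2
          rw [← e] at this
          exact this
        · exact absurd (congrArg Subtype.val e).symm z'.2.1
      · cases b <;> cases b'
        · rfl
        · exact absurd (congrArg Subtype.val e) hw1
        · exact absurd (congrArg Subtype.val e).symm hw1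
        · rfl
    have h8 := Nat.card_le_card_of_injective i hi
    rw [Nat.card_sum, hN₁8, Nat.card_eq_fintype_card (α := T)] at h8
    simp at h8
    have := Nat.le_of_dvd hpos hdvd
    omega
  -- the decomposition
  have hsplit : ∀ x ∈ W, x ∈ N₁ ∨ u * x ∈ N₁ := by
    intro x hx
    by_contra hc
    push Not at hc
    let i : Fin 3 × N₁ → W := fun j => ⟨![1, u, x] j.1 * j.2.1, mul_mem (by
      obtain ⟨j, -⟩ := j
      fin_cases j
      · exact one_mem W
      · exact huW
      · exact hx) (hN₁W j.2.2)⟩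
    have hi : Function.Injective i := by
      rintro ⟨j, n⟩ ⟨k, m⟩ e
      have e : ![1, u, x] j * n.1 = ![1, u, x] k * m.1 := congrArg Subtype.val e
      have hm : (![1, u, x] k)⁻¹ * ![1, u, x] j ∈ N₁ := by
        have : (![1, u, x] k)⁻¹ * ![1, u, x] j = m.1 * n.1⁻¹ := by
          rw [eq_mul_inv_iff_mul_eq, mul_assoc, e, inv_mul_cancel_left]
        rw [this]; exact mul_mem m.2 (inv_mem n.2)
      have hjk : j = k := by
        have hux : x⁻¹ * u = u * x := by rw [hinv x hx, hWc x hx u huW]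
        fin_cases j <;> fin_cases k <;> simp [hinv u huW, hinv x hx] at hm ⊢
        · exact huN hm
        · exact hc.1 hm
        · exact huN hm
        · exact hc.2 (hWc x hx u huW ▸ hm)
        · exact hc.1 hm
        · exact hc.2 hm
      subst hjk
      exact Prod.ext rfl (Subtype.ext (mul_left_cancel e))
    have := Nat.card_le_card_of_injective i hi
    rw [Nat.card_prod, hN₁8, hcard] at this
    simp at this
  have hnorm : (∀ g : X, ∀ x ∈ N₁, x ≠ 1 → g * x * g⁻¹ ∈ N₁) →
      ∃ N, N ≤ W ∧ N.Normal ∧ Nat.card N = 8 := fun hA =>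
    ⟨N₁, hN₁W, ⟨fun x hx g => by
      by_cases hx1 : x = 1
      · subst hx1; simp
      · exact hA g x hx hx1⟩, hN₁8⟩
  -- the orbit of `u`
  let O' : Set X := {z | ∃ g : X, g * u * g⁻¹ = z}
  have hO'inv : ∀ g : X, ∀ z ∈ O', g * z * g⁻¹ ∈ O' := by
    rintro g _ ⟨k, rfl⟩
    exact ⟨g * k, by group⟩
  have hO'W : ∀ z ∈ O', z ∈ W ∧ z ≠ 1 := by
    rintro _ ⟨g, rfl⟩
    exact ⟨hcj g u huW, fun e => hu1' (by simpa using e)⟩
  by_cases hcen : u ∈ Subgroup.center X
  · refine Or.inr ⟨u, huW, hu1', hcen, fun S hSW hS hsel hS1 hSu => ?_⟩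
    have hu2 := hW u huW
    have hgu : ∀ g : X, g * u * g⁻¹ = u := fun g => by
      rw [Subgroup.mem_center_iff.1 hcen g, mul_inv_cancel_right]
    refine hnorm fun g x hx hx1 => ?_
    have hxu : x ≠ u := fun e => huN (e ▸ hx)
    have hg := hcj g x (hN₁W hx)
    have hg1 : g * x * g⁻¹ ≠ 1 := fun e => hx1 (by simpa using e)
    have hgu' : g * x * g⁻¹ ≠ u := fun e => hxu (by
      have := congrArg (fun z => g⁻¹ * z * g) e
      simp only [show g⁻¹ * (g * x * g⁻¹) * g = x by group] at this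
      rw [this, show g⁻¹ * u * g = u by simpa using hgu g⁻¹])
    by_cases hxS : x ∈ S
    · rcases hsplit _ hg with hn | hn
      · exact hn
      · exfalso
        have hwS := hS g x hxS
        have hn1 : u * (g * x * g⁻¹) ≠ 1 := fun e => hgu' (by
          rw [← mul_inv_cancel u, mul_right_inj] at e; rw [e, hinv u huW])
        have := hall S (fun z hz => hS h z hz) x hx hx1 hxS _ hn hn1
        exact (hsel _ hg hg1 hgu').1 hwS this
    · have hall' := hall {z | z ∈ W ∧ z ∉ S} (fun z hz => ⟨hcj h z hz.1, fun hzS => hz.2 (by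
        have := hS h⁻¹ _ hzS
        simpa [mul_assoc] using this)⟩) x hx hx1 ⟨hN₁W hx, hxS⟩
      rcases hsplit _ hg with hn | hn
      · exact hn
      · exfalso
        have hn1 : u * (g * x * g⁻¹) ≠ 1 := fun e => hgu' (by
          rw [← mul_inv_cancel u, mul_right_inj] at e; rw [e, hinv u huW])
        have h1 := (hall' _ hn hn1).2
        refine hxS ?_
        have h2 : g * x * g⁻¹ ∈ S := by
          by_contra h3
          exact h1 (by
            by_contra h4
            exact h3 ((hsel _ hg hg1 hgu').2 h4))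
        have := hS g⁻¹ _ h2
        simpa [mul_assoc] using this
  · -- the orbit has eight elements
    refine Or.inl ?_
    by_cases hA : ∃ x ∈ N₁, x ∈ O'
    · obtain ⟨x, hx, hxO⟩ := hA
      have hsub : ∀ w ∈ N₁, w ≠ 1 → w ∈ O' :=
        hall O' (fun z hz => hO'inv h z hz) x hx (hO'W x hxO).2 hxO
      by_cases hB : ∃ x ∈ N₁, x ≠ 1 ∧ u * x ∈ O'
      · exfalso
        obtain ⟨x', hx', hx'1, hx'O⟩ := hB
        have hsub' := hall {z | u * z ∈ O'} (fun z hz => by
          show u * (h * z * h⁻¹) ∈ O'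
          have := hO'inv h _ hz
          rwa [show h * (u * z) * h⁻¹ = (h * u * h⁻¹) * (h * z * h⁻¹) by group,
            (hFmem u huW).1 huF] at this) x' hx' hx'1 hx'O
        have hall15 : ∀ z ∈ W, z ≠ 1 → z ∈ O' := fun z hz hz1 => by
          rcases hsplit z hz with hn | hn
          · exact hsub z hn hz1
          · by_cases e : u * z = 1
            · rw [← hinv z hz, ← eq_inv_of_mul_eq_one_left e]
              exact ⟨1, by simp⟩
            · have : u * (u * z) ∈ O' := hsub' _ hn e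
              rwa [← mul_assoc, hW u huW, one_mul] at this
        let C := Subgroup.centralizer {u}
        have hidx : C.index = 15 := by
          have e15 : Nat.card {z : W // z ≠ 1} = 15 := by
            haveI := Fintype.ofFinite W
            rw [Nat.card_eq_fintype_card, Fintype.card_subtype_compl, Fintype.card_subtype_eq,
              ← Nat.card_eq_fintype_card, hcard]
          rw [← e15, Subgroup.index_eq_card]
          have hq : ∀ g k : X, g⁻¹ * k ∈ C ↔ g * u * g⁻¹ = k * u * k⁻¹ := fun g k => by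
            rw [Subgroup.mem_centralizer_singleton_iff]
            constructor
            · intro e
              calc g * u * g⁻¹ = g * (u * (g⁻¹ * k)) * k⁻¹ := by group
                _ = g * ((g⁻¹ * k) * u) * k⁻¹ := by rw [e]
                _ = _ := by group
            · intro e
              calc g⁻¹ * k * u = g⁻¹ * (k * u * k⁻¹) * k := by group
                _ = g⁻¹ * (g * u * g⁻¹) * k := by rw [e]
                _ = u * (g⁻¹ * k) := by group
          refine Nat.card_eq_of_bijective (Quotient.lift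
            (fun g => (⟨⟨g * u * g⁻¹, hcj g u huW⟩, fun e => hu1' (by simpa using congrArg Subtype.val e)⟩ :
              {z : W // z ≠ 1}))
            fun g k e => Subtype.ext (Subtype.ext ((hq g k).1 (QuotientGroup.leftRel_apply.1 e)))) ⟨?_, ?_⟩
          · rintro ⟨g⟩ ⟨k⟩ e
            exact Quotient.sound (QuotientGroup.leftRel_apply.2 ((hq g k).2
              (congrArg (fun z : {z : W // z ≠ 1} => (z.1 : X)) e)))
          · rintro ⟨⟨z, hz⟩, hz1⟩
            obtain ⟨g, hg⟩ := hall15 z hz fun e => hz1 (Subtype.ext e)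
            exact ⟨QuotientGroup.mk g, Subtype.ext (Subtype.ext hg)⟩
        have hd : C.index ∣ Q.index := Subgroup.index_dvd_of_le fun q hq => by
          rw [Subgroup.mem_centralizer_singleton_iff]
          exact mul_inv_eq_iff_eq_mul.1 (hQfix q hq u huW)
        rw [hidx, O.index] at hd
        norm_num at hd
      · push Not at hB
        refine hnorm fun g w hw hw1 => ?_
        -- write `w` as a product of two elements outside the orbit
        obtain ⟨b, hb, hb1, hbw⟩ : ∃ b ∈ N₁, b ≠ 1 ∧ b ≠ w := by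
          refine ⟨h * w * h⁻¹, hN₁h w hw, fun e => hw1 (by simpa using e), hfree w hw hw1⟩
        have hout : ∀ z ∈ N₁, z ≠ 1 → g * (u * z) * g⁻¹ ∈ W ∧ u * (g * (u * z) * g⁻¹) ∈ N₁ := by
          intro z hz hz1
          have hzW := hcj g _ (mul_mem huW (hN₁W hz))
          refine ⟨hzW, (hsplit _ hzW).resolve_left fun hn => ?_⟩
          have hne : g * (u * z) * g⁻¹ ≠ 1 := fun e => by
            rw [conj_eq_one_iff] at e
            exact huN (by rw [eq_inv_of_mul_eq_one_left e]; exact inv_mem hz)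
          have := hO'inv g⁻¹ _ (hsub _ hn hne)
          rw [show g⁻¹ * (g * (u * z) * g⁻¹) * g⁻¹⁻¹ = u * z by group] at this
          exact hB z hz hz1 this
        obtain ⟨hv1, hn1⟩ := hout b hb hb1
        obtain ⟨hv2, hn2⟩ := hout (b * w) (mul_mem hb hw) fun e => hbw (by
          rw [eq_inv_of_mul_eq_one_left e, hinv w (hN₁W hw)])
        have e : g * w * g⁻¹ = (g * (u * b) * g⁻¹) * (g * (u * (b * w)) * g⁻¹) := by
          have e' : (u * b) * (u * (b * w)) = w := by
            rw [← mul_assoc u b w, ← mul_assoc, hW _ (mul_mem huW (hN₁W hb)), one_mul]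
          calc g * w * g⁻¹ = g * ((u * b) * (u * (b * w))) * g⁻¹ := by rw [e']
            _ = _ := by group
        rw [e]
        have : (g * (u * b) * g⁻¹) * (g * (u * (b * w)) * g⁻¹) =
            (u * (g * (u * b) * g⁻¹)) * (u * (g * (u * (b * w)) * g⁻¹)) := by
          generalize g * (u * b) * g⁻¹ = p at hv1 ⊢
          generalize g * (u * (b * w)) * g⁻¹ = r
          calc p * r = (u * u) * (p * r) := by rw [hW u huW, one_mul]
            _ = u * (u * p) * r := by group
            _ = u * (p * u) * r := by rw [hWc u huW p hv1]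
            _ = _ := by group
        rw [this]
        exact mul_mem hn1 hn2
    · push Not at hA
      refine hnorm fun g w hw hw1 => ?_
      have hgW := hcj g w (hN₁W hw)
      have hg1 : g * w * g⁻¹ ≠ 1 := fun e => hw1 (by simpa using e)
      rcases hsplit _ hgW with hn | hn
      · exact hn
      · exfalso
        -- the orbit is the coset
        obtain ⟨k, hk⟩ : ∃ k : X, k * u * k⁻¹ ≠ u := by
          by_contra hc
          push Not at hc
          exact hcen (Subgroup.mem_center_iff.2 fun k => mul_inv_eq_iff_eq_mul.1 (hc k))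
        have hkW := hcj k u huW
        have hkN : u * (k * u * k⁻¹) ∈ N₁ := (hsplit _ hkW).resolve_left fun h' => hA _ h' ⟨k, rfl⟩
        have hkn1 : u * (k * u * k⁻¹) ≠ 1 := fun e => hk (by
          rw [← mul_inv_cancel u, mul_right_inj] at e; rw [e, hinv u huW])
        have hsub := hall {z | u * z ∈ O'} (fun z hz => by
          show u * (h * z * h⁻¹) ∈ O'
          have := hO'inv h _ hz
          rwa [show h * (u * z) * h⁻¹ = (h * u * h⁻¹) * (h * z * h⁻¹) by group,
            (hFmem u huW).1 huF] at this) _ hkN hkn1 (by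
          show u * (u * (k * u * k⁻¹)) ∈ O'
          rw [← mul_assoc, hW u huW, one_mul]; exact ⟨k, rfl⟩)
        have hmem : g * w * g⁻¹ ∈ O' := by
          by_cases e : u * (g * w * g⁻¹) = 1
          · exact ⟨1, by rw [← hinv _ hgW, ← eq_inv_of_mul_eq_one_left e]; simp⟩
          · have : u * (u * (g * w * g⁻¹)) ∈ O' := hsub _ hn e
            rwa [← mul_assoc, hW u huW, one_mul] at this
        have := hO'inv g⁻¹ _ hmem
        rw [show g⁻¹ * (g * w * g⁻¹) * g⁻¹⁻¹ = w by group] at this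
        exact hA w hw this

end

end CfsgLib.RankFourLinear
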