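import Cfsg.Agent.Lib.RankFourLinear.Base

/-!
Extensions by a central subgroup of order two.
-/

set_option autoImplicit false
set_option linter.style.haveILetI false

namespace CfsgLib.RankFourLinear

open Matrix
open scoped commutatorElement

variable {X : Type*} [Group X] [Finite X] {Q : Subgroup X}

/-- The subgroup generated by a central involution. -/
def pairSub (z : X) (hz : z * z = 1) : Subgroup X where
  carrier := {w | w = 1 ∨ w = z}
  one_mem' := Or.inl rfl
  mul_mem' := by rintro u w (rfl | rfl) (rfl | rfl) <;> simp [hz]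
  inv_mem' := by
    rintro u (rfl | rfl)
    · exact Or.inl inv_one
    · exact Or.inr (inv_eq_of_mul_eq_one_right hz)

omit [Finite X] in
theorem pairSub_normal {z : X} {hz : z * z = 1} (hc : ∀ g : X, g * z = z * g) : (pairSub z hz).Normal :=
  ⟨by
    rintro u (rfl | rfl) g
    · exact Or.inl (by simp)
    · exact Or.inr (by rw [hc g, mul_inv_cancel_right])⟩

theorem card_pairSub {z : X} {hz : z * z = 1} (hz1 : z ≠ 1) : Nat.card (pairSub z hz) = 2 := by
  refine Nat.card_eq_of_equiv_fin (Equiv.ofBijective
    (fun i : Fin 2 => (⟨![1, z] i, by fin_cases i <;> [exact Or.inl rfl; exact Or.inr rfl]⟩ : pairSub z hz))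
    ⟨?_, ?_⟩).symm
  · intro i j e
    have e : ![1, z] i = ![1, z] j := congrArg Subtype.val e
    fin_cases i <;> fin_cases j <;> simp [hz1, Ne.symm hz1] at e ⊢
  · rintro ⟨w, rfl | rfl⟩
    · exact ⟨0, rfl⟩
    · exact ⟨1, rfl⟩

theorem card_le_two_mul {K N : Subgroup X}
    (h : ∀ v ∈ N, v ∉ K → ∀ w ∈ N, w ∉ K → v⁻¹ * w ∈ K) : Nat.card N ≤ 2 * Nat.card K := by
  classical
  by_cases hNK : N ≤ K
  · have := Subgroup.card_le_of_le hNK
    omega
  obtain ⟨v, hv, hvK⟩ := SetLike.not_le_iff_exists.1 hNK
  let f : N → Bool × K := fun w =>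
    if hw : (w : X) ∈ K then (true, ⟨w, hw⟩) else (false, ⟨v⁻¹ * w, h v hv hvK w w.2 hw⟩)
  have hf : Function.Injective f := by
    intro u w e'
    simp only [f] at e'
    split_ifs at e' with h1 h2 h3
    · exact Subtype.ext (congrArg (fun p : Bool × K => (p.2 : X)) e')
    · exact absurd (congrArg Prod.fst e') (by simp)
    · exact absurd (congrArg Prod.fst e') (by simp)
    · exact Subtype.ext (mul_left_cancel (congrArg (fun p : Bool × K => (p.2 : X)) e'))
  simpa [Nat.card_prod] using Nat.card_le_card_of_injective f hf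

/-- Squares with values in a central subgroup of order two. -/
theorem squares_trivial {N R : Subgroup X} [N.Normal] {θ : X → Vec} {ρ : X →* G3}
    (h : Natural Q N R θ ρ) (hcard : Nat.card N = 8 * Nat.card R) (hRN : R ≤ N)
    (hab : ∀ u ∈ N, ∀ w ∈ N, u * w = w * u) {z : X} (hzc : ∀ g : X, g * z = z * g)
    (hsq : ∀ w ∈ N, w * w = 1 ∨ w * w = z) (hR : ∀ r ∈ R, r * r = 1) : ∀ w ∈ N, w * w = 1 := by
  let K : Subgroup X :=
    { carrier := {w | w ∈ N ∧ w * w = 1}
      one_mem' := ⟨one_mem N, one_mul 1⟩
      mul_mem' := fun {u w} hu hw => ⟨mul_mem hu.1 hw.1, by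
        calc u * w * (u * w) = u * (w * u) * w := by group
          _ = u * (u * w) * w := by rw [hab w hw.1 u hu.1]
          _ = (u * u) * (w * w) := by group
          _ = 1 := by rw [hu.2, hw.2, one_mul]⟩
      inv_mem' := fun {u} hu => ⟨inv_mem hu.1, by rw [← _root_.mul_inv_rev, hu.2, inv_one]⟩ }
  haveI : K.Normal := ⟨fun w hw g => ⟨Subgroup.Normal.conj_mem inferInstance w hw.1 g, by
    rw [show g * w * g⁻¹ * (g * w * g⁻¹) = g * (w * w) * g⁻¹ by group, hw.2, mul_one, mul_inv_cancel]⟩⟩
  rcases h.no_hyper (L := K) (fun r hr => ⟨hRN hr, hR r hr⟩) (fun w hw => hw.1) with e | e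
  swap
  · exact fun w hw => (e.ge hw).2
  exfalso
  have hle := card_le_two_mul (K := K) (N := N) fun v hv hvK w hw hwK => by
    refine ⟨mul_mem (inv_mem hv) hw, ?_⟩
    have hv2 := (hsq v hv).resolve_left fun e' => hvK ⟨hv, e'⟩
    have hw2 := (hsq w hw).resolve_left fun e' => hwK ⟨hw, e'⟩
    calc v⁻¹ * w * (v⁻¹ * w) = v⁻¹ * (w * v⁻¹) * w := by group
      _ = v⁻¹ * (v⁻¹ * w) * w := by rw [hab w hw _ (inv_mem hv)]
      _ = (v * v)⁻¹ * (w * w) := by group
      _ = 1 := by rw [hv2, hw2, inv_mul_cancel]
  rw [e, hcard] at hle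
  have : 0 < Nat.card R := Nat.card_pos
  omega

/-- An element of the ambient group centralises an abelian layer. -/
theorem centralizes {N R : Subgroup X} [N.Normal] {θ : X → Vec} {ρ : X →* G3}
    (h : Natural Q N R θ ρ) (hcard : Nat.card N = 8 * Nat.card R) (hRN : R ≤ N)
    {z : X} (hzc : ∀ g : X, g * z = z * g) {x : X} (hab : ∀ u ∈ N, ∀ w ∈ N, u * w = w * u)
    (hinv : ∀ g : X, ∃ n ∈ N, g * x * g⁻¹ = x * n)
    (hcomm : ∀ w ∈ N, ⁅x, w⁆ = 1 ∨ ⁅x, w⁆ = z) (hR : ∀ r ∈ R, ⁅x, r⁆ = 1) : ∀ w ∈ N, x * w = w * x := by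
  let K : Subgroup X := N ⊓ Subgroup.centralizer {x}
  have hK : ∀ w, w ∈ K ↔ w ∈ N ∧ x * w = w * x := fun w => by
    rw [Subgroup.mem_inf, Subgroup.mem_centralizer_singleton_iff]
    exact ⟨fun e => ⟨e.1, e.2.symm⟩, fun e => ⟨e.1, e.2.symm⟩⟩
  haveI : K.Normal := ⟨fun w hw g => by
    rw [hK] at hw ⊢
    have hm := Subgroup.Normal.conj_mem (inferInstance : N.Normal) w hw.1 g
    refine ⟨hm, ?_⟩
    obtain ⟨n, hn, e⟩ := hinv g
    have e2 : (g * x * g⁻¹) * (g * w * g⁻¹) = (g * w * g⁻¹) * (g * x * g⁻¹) := by
      rw [show (g * x * g⁻¹) * (g * w * g⁻¹) = g * (x * w) * g⁻¹ by group, hw.2]; group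
    rw [e, mul_assoc, hab n hn _ hm] at e2
    refine mul_right_cancel (b := n) ?_
    rw [mul_assoc, e2, ← mul_assoc]⟩
  rcases h.no_hyper (L := K) (fun r hr => (hK r).2 ⟨hRN hr, commutatorElement_eq_one_iff_mul_comm.1 (hR r hr)⟩)
      (fun w hw => hw.1) with e | e
  swap
  · exact fun w hw => ((hK w).1 (e.ge hw)).2
  exfalso
  have hle := card_le_two_mul (K := K) (N := N) fun v hv hvK w hw hwK => by
    rw [hK] at hvK hwK ⊢
    refine ⟨mul_mem (inv_mem hv) hw, commutatorElement_eq_one_iff_mul_comm.1 ?_⟩
    have hv2 := (hcomm v hv).resolve_left fun e' => hvK ⟨hv, commutatorElement_eq_one_iff_mul_comm.1 e'⟩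
    have hw2 := (hcomm w hw).resolve_left fun e' => hwK ⟨hw, commutatorElement_eq_one_iff_mul_comm.1 e'⟩
    have e1 : ⁅x, w⁆ = ⁅x, v⁆ * (v * ⁅x, v⁻¹ * w⁆ * v⁻¹) := by
      simp only [commutatorElement_def]; group
    rw [hv2, hw2, left_eq_mul, conj_eq_one_iff] at e1
    exact e1
  rw [e, hcard] at hle
  have : 0 < Nat.card R := Nat.card_pos
  omega

theorem shape_of_two (C : Cfg Q) {z : X} (hz2 : z * z = 1) (hz1 : z ≠ 1) (hzc : ∀ g : X, g * z = z * g)
    (hzQ : z ∈ sqSub Q) [(pairSub z hz2).Normal]
    (hS : Shape (Q.map (QuotientGroup.mk' (pairSub z hz2)))) : Shape Q := by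
  classical
  haveI := C.base.qn
  set M := pairSub z hz2 with hMdef
  set π := QuotientGroup.mk' M with hπ
  have hMm : ∀ w, w ∈ M ↔ w = 1 ∨ w = z := fun w => Iff.rfl
  have hMS : M ≤ sqSub Q := by rintro w (rfl | rfl) <;> [exact one_mem _; exact hzQ]
  have hMQ : M ≤ Q := hMS.trans (sqSub_le Q)
  have hM2 : Nat.card M = 2 := card_pairSub hz1
  have hsM : Function.Surjective π := QuotientGroup.mk'_surjective M
  have hπ1 : ∀ w, π w = 1 ↔ w ∈ M := fun w => QuotientGroup.eq_one_iff w
  have hcardQ : Nat.card Q = Nat.card (Q.map π) * 2 := by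
    have h1 := (π.subgroupMap Q).ker.card_mul_index
    rw [Subgroup.index_ker, MonoidHom.range_eq_top.2 (π.subgroupMap_surjective Q), Subgroup.card_top] at h1
    have h2 : (π.subgroupMap Q).ker = M.subgroupOf Q := by
      ext x
      rw [MonoidHom.mem_ker, Subgroup.mem_subgroupOf, Subtype.ext_iff]
      exact hπ1 _
    rw [h2, Nat.card_congr (Subgroup.subgroupOfEquivOfLe hMQ).toEquiv, hM2] at h1
    omega
  have hMc : ∀ m ∈ M, ∀ g : X, g * m = m * g := by
    rintro m (rfl | rfl) g
    · simp
    · exact hzc g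
  have hcomm_of : ∀ u w : X, π u * π w = π w * π u → ⁅u, w⁆ = 1 ∨ ⁅u, w⁆ = z := fun u w e => by
    refine (hMm _).1 ((hπ1 _).1 ?_)
    rw [map_commutatorElement, commutatorElement_eq_one_iff_mul_comm]; exact e
  have htop := C.card_top
  -- the commutators lie in `M`
  have hQbar : ∀ u ∈ Q, ∀ w ∈ Q, π u * π w = π w * π u := by
    intro u hu w hw
    rcases hS with ⟨hel, -⟩ | ⟨hc, -⟩
    · have h1 := hel _ ⟨u, hu, rfl⟩
      have h2 := hel _ ⟨w, hw, rfl⟩
      have h3 := hel _ ⟨u * w, mul_mem hu hw, rfl⟩
      rw [map_mul] at h3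
      calc π u * π w = (π u * π w)⁻¹ := (inv_eq_of_mul_eq_one_right h3).symm
        _ = π w * π u := by
          rw [_root_.mul_inv_rev, inv_eq_of_mul_eq_one_right h1, inv_eq_of_mul_eq_one_right h2]
    · exact hc _ ⟨u, hu, rfl⟩ _ ⟨w, hw, rfl⟩
  have hcomm : ∀ u ∈ Q, ∀ w ∈ Q, ⁅u, w⁆ = 1 ∨ ⁅u, w⁆ = z := fun u hu w hw => hcomm_of u w (hQbar u hu w hw)
  have hcommM : ∀ u ∈ Q, ∀ w ∈ Q, ⁅u, w⁆ ∈ M := fun u hu w hw => (hMm _).2 (hcomm u hu w hw)
  rcases hS with ⟨hel, hc⟩ | ⟨-, hc, x', ⟨x, hx, rfl⟩, hx2, hx4, hxall⟩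
  · -- elementary quotient
    have hsq : ∀ w ∈ Q, w * w = 1 ∨ w * w = z := fun w hw =>
      (hMm _).1 ((hπ1 _).1 (by rw [map_mul]; exact hel _ ⟨w, hw, rfl⟩))
    have hPM : sqSub Q = M := le_antisymm (by
      rw [sqSub, Subgroup.closure_le]
      rintro _ ⟨w, hw, rfl⟩
      exact (hMm _).2 (hsq w hw)) hMS
    rw [hPM, hM2] at htop
    have hnt : ¬ ∀ g : X, ∀ w ∈ Q, ⁅g, w⁆ ∈ M := fun h => by
      obtain ⟨g, w, hw, hgw⟩ := C.act
      exact hgw (hMS (h g w hw))
    rcases hc with h8 | h16
    · exfalso
      rw [h8] at hcardQ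
      obtain ⟨θ, ρ, hN⟩ := C.base.exists_natural (N := Q) (R := M) hMQ (fun w hw => (hMm _).2 (hsq w hw))
        (by rw [hcardQ, hM2]) hcommM hnt
      have hab := hN.form_zero hz2 hzc (fun r hr w _ => (hMc r hr w).symm) hcomm
      have hone := squares_trivial hN (by rw [hcardQ, hM2]) hMQ hab hzc hsq
        (by rintro r (rfl | rfl) <;> simp [hz2])
      refine hz1 ?_
      have : sqSub Q ≤ ⊥ := by
        rw [sqSub, Subgroup.closure_le]
        rintro _ ⟨w, hw, rfl⟩
        exact hone w hw
      exact this hzQ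
    · right
      rw [h16] at hcardQ
      have hab : ∀ u ∈ Q, ∀ w ∈ Q, u * w = w * u := by
        have C' := C.quot M hMS
        haveI := C'.base.qn
        have hnt' : ¬ ∀ g : X ⧸ M, ∀ w ∈ Q.map π, ⁅g, w⁆ = 1 := fun h => hnt fun g w hw =>
          (hπ1 _).1 (by rw [map_commutatorElement]; exact h (π g) (π w) ⟨w, hw, rfl⟩)
        rcases C'.base.sixteen hel h16 (fun q hq w hw => by
          obtain ⟨u, hu, rfl⟩ := hq
          obtain ⟨v, hv, rfl⟩ := hw
          exact commutatorElement_eq_one_iff_mul_comm.2 (hQbar u hu v hv)) hnt' with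
          ⟨N', hN'le, hN'n, hN'8⟩ | ⟨u', hu'Q, hu'1, hu'c, -⟩
        · haveI := hN'n
          set L := N'.comap π
          have hLQ : L ≤ Q := fun w hw => by
            obtain ⟨v, hv, e⟩ := hN'le hw
            have := mul_mem hv (hMQ (QuotientGroup.eq.1 e))
            simpa using this
          have hML : M ≤ L := fun w hw => by
            show π w ∈ N'; rw [(hπ1 w).2 hw]; exact one_mem N'
          have hL16 : Nat.card L = 16 := by
            have h1 := (π.subgroupComap N').ker.card_mul_index
            rw [Subgroup.index_ker, MonoidHom.range_eq_top.2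
              (MonoidHom.subgroupComap_surjective_of_surjective _ _ hsM), Subgroup.card_top, hN'8] at h1
            have h2 : (π.subgroupComap N').ker = M.subgroupOf L := by
              ext w
              rw [MonoidHom.mem_ker, Subgroup.mem_subgroupOf, Subtype.ext_iff]
              exact hπ1 _
            rw [h2, Nat.card_congr (Subgroup.subgroupOfEquivOfLe hML).toEquiv, hM2] at h1
            exact h1.symm
          have hntL : ¬ ∀ g : X, ∀ w ∈ L, ⁅g, w⁆ ∈ M := fun h => hnt (C.base.trivial_of_chain hLQ hML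
            (fun w hw => (hMm _).2 (hsq w (hLQ hw))) hcommM
            (C.base.trivial_of_small hLQ (by rw [hL16, hcardQ]; norm_num) (fun q hq w hw =>
              hML (hcommM q hq w hw))) h)
          obtain ⟨θ, ρ, hN⟩ := C.base.exists_natural (N := L) (R := M) hML
            (fun w hw => (hMm _).2 (hsq w (hLQ hw))) (by rw [hL16, hM2])
            (fun q hq w hw => hcommM q hq w (hLQ hw)) hntL
          have habL := hN.form_zero hz2 hzc (fun r hr w _ => (hMc r hr w).symm)
            (fun u hu w hw => hcomm u (hLQ hu) w (hLQ hw))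
          obtain ⟨x, hx, hxL⟩ := SetLike.not_le_iff_exists.1 (show ¬ Q ≤ L from fun h => by
            have := Subgroup.card_le_of_le h
            omega)
          have hinv : ∀ g : X, ∃ n ∈ L, g * x * g⁻¹ = x * n := fun g => by
            refine ⟨x⁻¹ * (g * x * g⁻¹), ?_, by group⟩
            have := C.base.trivial_of_small hLQ (by rw [hL16, hcardQ]; norm_num) (fun q hq w hw =>
              hML (hcommM q hq w hw)) g x hx
            rw [show x⁻¹ * (g * x * g⁻¹) = x⁻¹ * ⁅g, x⁆ * x by simp only [commutatorElement_def]; group]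
            simpa using Subgroup.Normal.conj_mem inferInstance _ this x⁻¹
          have hcx := centralizes hN (by rw [hL16, hM2]) hML hzc habL hinv
            (fun w hw => hcomm x hx w (hLQ hw))
            (fun r hr => commutatorElement_eq_one_iff_mul_comm.2 (hMc r hr x))
          have hgen : ∀ w ∈ Q, w ∈ L ∨ x⁻¹ * w ∈ L := fun w hw => by
            by_contra hcon
            push Not at hcon
            have h3 : 3 * Nat.card L ≤ Nat.card Q := by
              let f : Fin 3 × L → Q := fun i => ⟨![1, x, w] i.1 * i.2.1, mul_mem (by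
                obtain ⟨i, -⟩ := i
                fin_cases i <;> [exact one_mem Q; exact hx; exact hw]) (hLQ i.2.2)⟩
              have hf : Function.Injective f := by
                rintro ⟨i, u⟩ ⟨j, v⟩ e
                have e : ![1, x, w] i * u.1 = ![1, x, w] j * v.1 := congrArg Subtype.val e
                have hm : (![1, x, w] j)⁻¹ * ![1, x, w] i ∈ L := by
                  rw [show (![1, x, w] j)⁻¹ * ![1, x, w] i = v.1 * u.1⁻¹ by
                    rw [eq_mul_inv_iff_mul_eq, mul_assoc, e, inv_mul_cancel_left]]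
                  exact mul_mem v.2 (inv_mem u.2)
                have hij : i = j := by
                  fin_cases i <;> fin_cases j <;> simp at hm ⊢
                  · exact hxL hm
                  · exact hcon.1 hm
                  · exact hxL hm
                  · exact hcon.2 (by simpa using inv_mem hm)
                  · exact hcon.1 hm
                  · exact hcon.2 hm
                subst hij
                exact Prod.ext rfl (Subtype.ext (mul_left_cancel e))
              simpa [Nat.card_prod] using Nat.card_le_card_of_injective f hf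
            omega
          intro u hu w hw
          obtain ⟨i, n, hn, rfl⟩ : ∃ i : Bool, ∃ n ∈ L, u = (if i then x else 1) * n := by
            rcases hgen u hu with h | h
            · exact ⟨false, u, h, by simp⟩
            · exact ⟨true, x⁻¹ * u, h, by simp⟩
          obtain ⟨j, m, hm, rfl⟩ : ∃ j : Bool, ∃ m ∈ L, w = (if j then x else 1) * m := by
            rcases hgen w hw with h | h
            · exact ⟨false, w, h, by simp⟩
            · exact ⟨true, x⁻¹ * w, h, by simp⟩
          cases i <;> cases j <;> simp only [Bool.false_eq_true, if_false, if_true, one_mul]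
          · exact habL n hn m hm
          · rw [← mul_assoc, ← hcx n hn, mul_assoc, habL n hn m hm, ← mul_assoc]
          · rw [mul_assoc, habL n hn m hm, ← mul_assoc, ← mul_assoc, hcx m hm]
          · calc x * n * (x * m) = x * (n * x) * m := by group
              _ = x * (x * n) * m := by rw [hcx n hn]
              _ = x * x * (n * m) := by group
              _ = x * x * (m * n) := by rw [habL n hn m hm]
              _ = x * (x * m) * n := by group
              _ = x * (m * x) * n := by rw [hcx m hm]
              _ = x * m * (x * n) := by group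
        · obtain ⟨u, hu, rfl⟩ := hu'Q
          have hu2 : π u * π u = 1 := hel _ ⟨u, hu, rfl⟩
          let U : Subgroup X := (pairSub (π u) hu2).comap π
          haveI : U.Normal := Subgroup.Normal.comap
            (pairSub_normal fun g => Subgroup.mem_center_iff.1 hu'c g) π
          have hUm : ∀ w, w ∈ U → π w = 1 ∨ π w = π u := fun w hw => hw
          have hUQ : U ≤ Q := fun w hw => by
            rcases hUm w hw with e | e
            · exact hMQ ((hπ1 w).1 e)
            · have := mul_mem hu (hMQ (QuotientGroup.eq.1 e.symm))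
              rwa [mul_inv_cancel_left] at this
          have hMU : M ≤ U := fun w hw => by
            show π w ∈ pairSub (π u) hu2; rw [(hπ1 w).2 hw]; exact one_mem _
          have hU4 : Nat.card U = 4 := by
            have h1 := (π.subgroupComap (pairSub (π u) hu2)).ker.card_mul_index
            rw [Subgroup.index_ker, MonoidHom.range_eq_top.2
              (MonoidHom.subgroupComap_surjective_of_surjective _ _ hsM), Subgroup.card_top,
              card_pairSub hu'1] at h1
            have h2 : (π.subgroupComap (pairSub (π u) hu2)).ker = M.subgroupOf U := by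
              ext w
              rw [MonoidHom.mem_ker, Subgroup.mem_subgroupOf, Subtype.ext_iff]
              exact hπ1 _
            rw [h2, Nat.card_congr (Subgroup.subgroupOfEquivOfLe hMU).toEquiv, hM2] at h1
            exact h1.symm
          have hntU : ¬ ∀ g : X, ∀ w ∈ Q, ⁅g, w⁆ ∈ U := fun h => hnt (C.base.trivial_of_chain hUQ hMU
            (fun w hw => (hMm _).2 (hsq w (hUQ hw))) hcommM h fun g w hw => (hπ1 _).1 (by
              rw [map_commutatorElement, commutatorElement_eq_one_iff_mul_comm]
              rcases hUm w hw with e | e <;> rw [e]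
              · simp
              · exact Subgroup.mem_center_iff.1 hu'c (π g)))
          obtain ⟨θ, ρ, hN⟩ := C.base.exists_natural (N := Q) (R := U) hUQ
            (fun w hw => hMU ((hMm _).2 (hsq w hw))) (by rw [hcardQ, hU4])
            (fun q hq w hw => hMU (hcommM q hq w hw)) hntU
          -- `u` centralises `Q`
          have hcu : ∀ w ∈ Q, u * w = w * u := by
            let K : Subgroup X := Q ⊓ Subgroup.centralizer {u}
            haveI : K.Normal := ⟨fun w hw g => ⟨Subgroup.Normal.conj_mem inferInstance w hw.1 g, by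
              refine Subgroup.mem_centralizer_singleton_iff.2 ?_
              obtain ⟨m, hm, e⟩ : ∃ m ∈ M, g * u * g⁻¹ = u * m := ⟨u⁻¹ * (g * u * g⁻¹), (hπ1 _).1 (by
                simp only [map_mul, map_inv]
                rw [Subgroup.mem_center_iff.1 hu'c (π g), mul_inv_cancel_right, inv_mul_cancel]), by group⟩
              have e2 : (g * w * g⁻¹) * (g * u * g⁻¹) = (g * u * g⁻¹) * (g * w * g⁻¹) := by
                rw [show (g * w * g⁻¹) * (g * u * g⁻¹) = g * (w * u) * g⁻¹ by group,
                  Subgroup.mem_centralizer_singleton_iff.1 hw.2]; group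
              rw [e, ← mul_assoc, mul_assoc u m, ← hMc m hm, ← mul_assoc] at e2
              exact mul_right_cancel e2⟩⟩
            rcases hN.no_hyper (L := K) (fun w hw => ⟨hUQ hw, by
                refine Subgroup.mem_centralizer_singleton_iff.2 ?_
                rcases hUm w hw with e | e
                · exact ((hMc w ((hπ1 w).1 e) u)).symm
                · obtain ⟨m, hm, rfl⟩ : ∃ m ∈ M, w = u * m := ⟨u⁻¹ * w, QuotientGroup.eq.1 e.symm, by group⟩
                  rw [mul_assoc, ← hMc m hm u]⟩) (fun w hw => hw.1) with e | e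
            · exfalso
              have hle : ∀ w ∈ Q, ⁅u, w⁆ = 1 → w ∈ U := fun w hw h1 => e.le ⟨hw, by
                refine Subgroup.mem_centralizer_singleton_iff.2 ?_
                exact (commutatorElement_eq_one_iff_mul_comm.1 h1).symm⟩
              by_cases hall : ∀ w ∈ Q, ⁅u, w⁆ = 1
              · have := Subgroup.card_le_of_le (show Q ≤ U from fun w hw => hle w hw (hall w hw))
                omega
              push Not at hall
              obtain ⟨v, hv, hv2⟩ := hall
              let f : Q → Bool × U := fun w =>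
                if h2 : ⁅u, (w : X)⁆ = 1 then (true, ⟨w, hle w w.2 h2⟩)
                else (false, ⟨v⁻¹ * w, hle _ (mul_mem (inv_mem hv) w.2) (by
                  have e1 : ⁅u, (w : X)⁆ = ⁅u, v⁆ * (v * ⁅u, v⁻¹ * (w : X)⁆ * v⁻¹) := by
                    simp only [commutatorElement_def]; group
                  rw [(hcomm u hu w w.2).resolve_left h2, (hcomm u hu v hv).resolve_left hv2, left_eq_mul,
                    conj_eq_one_iff] at e1
                  exact e1)⟩)
              have hf : Function.Injective f := by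
                intro a b e'
                simp only [f] at e'
                split_ifs at e' with h1 h2 h3
                · exact Subtype.ext (congrArg (fun p : Bool × U => (p.2 : X)) e')
                · exact absurd (congrArg Prod.fst e') (by simp)
                · exact absurd (congrArg Prod.fst e') (by simp)
                · exact Subtype.ext (mul_left_cancel (congrArg (fun p : Bool × U => (p.2 : X)) e'))
              have := Nat.card_le_card_of_injective f hf
              simp only [Nat.card_prod, Nat.card_eq_fintype_card (α := Bool), Fintype.card_bool] at this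
              omega
            · exact fun w hw => (Subgroup.mem_centralizer_singleton_iff.1 (e.ge hw).2).symm
          exact hN.form_zero hz2 hzc (fun r hr w hw => by
            rcases hUm r hr with e | e
            · exact (hMc r ((hπ1 r).1 e) w).symm
            · obtain ⟨m, hm, rfl⟩ : ∃ m ∈ M, r = u * m := ⟨u⁻¹ * r, QuotientGroup.eq.1 e.symm, by group⟩
              rw [mul_assoc, ← hMc m hm w, ← mul_assoc, hcu w hw, mul_assoc]) hcomm
      refine ⟨hab, hcardQ, ?_⟩
      by_cases hall : ∀ w ∈ Q, w * w = 1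
      · exfalso
        have : sqSub Q ≤ ⊥ := by
          rw [sqSub, Subgroup.closure_le]
          rintro _ ⟨w, hw, rfl⟩
          exact hall w hw
        exact hz1 (this hzQ)
      push Not at hall
      obtain ⟨w, hw, hw2⟩ := hall
      have e := (hsq w hw).resolve_left hw2
      exact ⟨w, hw, hw2, by rw [e, hz2], fun v hv => by rw [e]; exact hsq v hv⟩
  · -- a cyclic quotient of order four
    exfalso
    rw [hc] at hcardQ
    set p := x * x with hp
    have hpM : p ∉ M := fun h => hx2 (by rw [← map_mul]; exact (hπ1 _).2 h)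
    have hp4 : p * p = 1 ∨ p * p = z := (hMm _).1 ((hπ1 _).1 (by simp only [hp, map_mul]; exact hx4))
    have hval : ∀ w ∈ Q, w * w ∈ M ∨ p⁻¹ * (w * w) ∈ M := fun w hw => by
      rcases hxall _ ⟨w, hw, rfl⟩ with e | e
      · exact Or.inl ((hπ1 _).1 (by rw [map_mul]; exact e))
      · refine Or.inr ((hπ1 _).1 ?_)
        simp only [hp, map_mul, map_inv, e, inv_mul_cancel]
    set P := sqSub Q with hP
    have hpP : p ∈ P := sq_mem_sqSub hx
    have hP4 : ∀ w ∈ P, w ∈ M ∨ p⁻¹ * w ∈ M := by
      intro w hw
      induction hw using Subgroup.closure_induction with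
      | mem w hw => obtain ⟨v, hv, rfl⟩ := hw; exact hval v hv
      | one => exact Or.inl (one_mem M)
      | mul u w _ _ hu hw =>
        rcases hu with hu | hu <;> rcases hw with hw | hw
        · exact Or.inl (mul_mem hu hw)
        · refine Or.inr ?_
          rw [show p⁻¹ * (u * w) = (p⁻¹ * u * p) * (p⁻¹ * w) by group]
          refine mul_mem ?_ hw
          rw [mul_assoc, ← hMc u hu p, inv_mul_cancel_left]; exact hu
        · exact Or.inr (by rw [← mul_assoc]; exact mul_mem hu hw)
        · left
          rw [show u * w = p * (p⁻¹ * u) * (p * (p⁻¹ * w)) by group, mul_assoc p, ← mul_assoc (p⁻¹ * u),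
            ← hMc _ hu p, show p * (p * (p⁻¹ * u) * (p⁻¹ * w)) = (p * p) * ((p⁻¹ * u) * (p⁻¹ * w)) by group]
          exact mul_mem ((hMm _).2 hp4) (mul_mem hu hw)
      | inv u _ hu =>
        rcases hu with hu | hu
        · exact Or.inl (inv_mem hu)
        · right
          rw [show p⁻¹ * u⁻¹ = (p⁻¹ * (p⁻¹ * u)⁻¹) * p⁻¹ by group,
            show (p⁻¹ * (p⁻¹ * u)⁻¹) * p⁻¹ = (p⁻¹ * u)⁻¹ * (p⁻¹ * p⁻¹) by
              rw [hMc _ (inv_mem hu) p⁻¹]; group, show p⁻¹ * p⁻¹ = (p * p)⁻¹ by group]
          exact mul_mem (inv_mem hu) (inv_mem ((hMm _).2 hp4))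
    have hPle : Nat.card P ≤ 4 := by
      let f : P → Bool × M := fun w =>
        if h : (w : X) ∈ M then (true, ⟨w, h⟩) else (false, ⟨p⁻¹ * w, (hP4 w w.2).resolve_left h⟩)
      have hf : Function.Injective f := by
        intro u w e
        simp only [f] at e
        split_ifs at e with h1 h2 h3
        · exact Subtype.ext (congrArg (fun q : Bool × M => (q.2 : X)) e)
        · exact absurd (congrArg Prod.fst e) (by simp)
        · exact absurd (congrArg Prod.fst e) (by simp)
        · exact Subtype.ext (mul_left_cancel (congrArg (fun q : Bool × M => (q.2 : X)) e))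
      simpa [Nat.card_prod, hM2] using Nat.card_le_card_of_injective f hf
    have hPcard : Nat.card P = 4 := by omega
    have hPc : ∀ w ∈ P, ∀ v ∈ Q, w * v = v * w := by
      intro w hw v hv
      have hpv : p * v = v * p := by
        have e : ⁅p, v⁆ = x * ⁅x, v⁆ * x⁻¹ * ⁅x, v⁆ := by simp only [hp, commutatorElement_def]; group
        rw [← commutatorElement_eq_one_iff_mul_comm, e, hMc _ (hcommM x hx v hv) x, mul_inv_cancel_right]
        rcases hcomm x hx v hv with e' | e' <;> simp [e', hz2]
      rcases hP4 w hw with h | h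
      · exact (hMc w h v).symm
      · obtain ⟨m, hm, rfl⟩ : ∃ m ∈ M, w = p * m := ⟨p⁻¹ * w, h, by group⟩
        rw [mul_assoc, ← hMc m hm v, ← mul_assoc, hpv, mul_assoc]
    let L : Subgroup X :=
      { carrier := {w | w ∈ Q ∧ w * w ∈ M}
        one_mem' := ⟨one_mem Q, by rw [one_mul]; exact one_mem M⟩
        mul_mem' := fun {u w} hu hw => ⟨mul_mem hu.1 hw.1, by
          rw [show u * w * (u * w) = (u * u) * ((u⁻¹ * w * u⁻¹⁻¹ * w⁻¹) * (w * w)) by group]
          refine mul_mem hu.2 (mul_mem ?_ hw.2)
          exact hcommM _ (inv_mem hu.1) w hw.1⟩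
        inv_mem' := fun {u} hu => ⟨inv_mem hu.1, by rw [← _root_.mul_inv_rev]; exact inv_mem hu.2⟩ }
    haveI : L.Normal := ⟨fun w hw g => ⟨Subgroup.Normal.conj_mem inferInstance w hw.1 g, by
      rw [show g * w * g⁻¹ * (g * w * g⁻¹) = g * (w * w) * g⁻¹ by group, hMc _ hw.2 g, mul_inv_cancel_right]
      exact hw.2⟩⟩
    have hPL : P ≤ L := fun w hw => ⟨sqSub_le Q hw, by
      rcases hP4 w hw with h | h
      · exact mul_mem h h
      · obtain ⟨m, hm, rfl⟩ : ∃ m ∈ M, w = p * m := ⟨p⁻¹ * w, h, by group⟩
        rw [show p * m * (p * m) = p * (m * p) * m by group, ← hMc m hm p,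
          show p * (p * m) * m = p * p * (m * m) by group]
        exact mul_mem ((hMm _).2 hp4) (mul_mem hm hm)⟩
    have hxL : x ∉ L := fun h => hpM h.2
    have hgen : ∀ w ∈ Q, w ∈ L ∨ x⁻¹ * w ∈ L := fun w hw => by
      rcases hval w hw with h | h
      · exact Or.inl ⟨hw, h⟩
      · refine Or.inr ⟨mul_mem (inv_mem hx) hw, ?_⟩
        have e : x⁻¹ * w * (x⁻¹ * w) = (x⁻¹ * ⁅w, x⁻¹⁆ * x⁻¹⁻¹) * (p⁻¹ * (w * w)) := by
          simp only [hp, commutatorElement_def]; group
        rw [e]
        exact mul_mem (Subgroup.Normal.conj_mem inferInstance _ (hcommM w hw _ (inv_mem hx)) _) h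
    have hL32 : Nat.card L = 32 := by
      have h1 := CfsgLib.NoSCN.card_two_mul_le (B := L) (A := Q) (fun w hw => hw.1) hx hxL
      let f : Q → Bool × L := fun w =>
        if h : (w : X) ∈ L then (true, ⟨w, h⟩) else (false, ⟨x⁻¹ * w, (hgen w w.2).resolve_left h⟩)
      have hf : Function.Injective f := by
        intro u w e
        simp only [f] at e
        split_ifs at e with h1 h2 h3
        · exact Subtype.ext (congrArg (fun q : Bool × L => (q.2 : X)) e)
        · exact absurd (congrArg Prod.fst e) (by simp)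
        · exact absurd (congrArg Prod.fst e) (by simp)
        · exact Subtype.ext (mul_left_cancel (congrArg (fun q : Bool × L => (q.2 : X)) e))
      have h2 := Nat.card_le_card_of_injective f hf
      simp only [Nat.card_prod, Nat.card_eq_fintype_card (α := Bool), Fintype.card_bool] at h2
      omega
    have hQL : ∀ g : X, ∀ w ∈ Q, ⁅g, w⁆ ∈ L := C.base.trivial_of_small (fun w hw => hw.1)
      (by rw [hL32, hcardQ]; norm_num) fun q hq w hw => hPL (hMS (hcommM q hq w hw))
    have hntL : ¬ ∀ g : X, ∀ w ∈ L, ⁅g, w⁆ ∈ P := fun h => by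
      obtain ⟨g, w, hw, hgw⟩ := C.act
      exact hgw (C.base.trivial_of_chain (N := Q) (L := L) (R := P) (fun w hw => hw.1) hPL (fun w hw => hMS hw.2)
        (fun q hq w hw => hMS (hcommM q hq w hw)) hQL h g w hw)
    obtain ⟨θ, ρ, hN⟩ := C.base.exists_natural (N := L) (R := P) hPL (fun w hw => hMS hw.2)
      (by rw [hL32, hPcard]) (fun q hq w hw => hMS (hcommM q hq w hw.1)) hntL
    have habL := hN.form_zero hz2 hzc (fun r hr w hw => hPc r hr w hw.1) (fun u hu w hw => hcomm u hu.1 w hw.1)
    have hinv : ∀ g : X, ∃ n ∈ L, g * x * g⁻¹ = x * n := fun g => by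
      refine ⟨x⁻¹ * ⁅g, x⁆ * x⁻¹⁻¹, Subgroup.Normal.conj_mem inferInstance _ (hQL g x hx) _, ?_⟩
      simp only [commutatorElement_def]; group
    have hcx := centralizes hN (by rw [hL32, hPcard]) hPL hzc habL hinv (fun w hw => hcomm x hx w hw.1)
      (fun r hr => commutatorElement_eq_one_iff_mul_comm.2 (hPc r hr x hx).symm)
    have hab : ∀ u ∈ Q, ∀ w ∈ Q, u * w = w * u := by
      intro u hu w hw
      have hkey : ∀ v ∈ Q, x * v = v * x := fun v hv => by
        rcases hgen v hv with h | h
        · exact hcx v h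
        · calc x * v = x * (x * (x⁻¹ * v)) := by group
            _ = x * ((x⁻¹ * v) * x) := by rw [hcx _ h]
            _ = v * x := by group
      have hkey2 : ∀ l ∈ L, ∀ v ∈ Q, l * v = v * l := fun l hl v hv => by
        rcases hgen v hv with h | h
        · exact habL l hl v h
        · calc l * v = (l * x) * (x⁻¹ * v) := by group
            _ = x * (l * (x⁻¹ * v)) := by rw [← hcx l hl]; group
            _ = x * ((x⁻¹ * v) * l) := by rw [habL l hl _ h]
            _ = v * l := by group
      rcases hgen u hu with h | h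
      · exact hkey2 u h w hw
      · calc u * w = x * ((x⁻¹ * u) * w) := by group
          _ = (x * w) * (x⁻¹ * u) := by rw [hkey2 _ h w hw]; group
          _ = w * (x * (x⁻¹ * u)) := by rw [hkey w hw]; group
          _ = w * u := by group
    -- `x` has order eight
    have hp2 : p * p = z := by
      refine hp4.resolve_left fun hp1 => ?_
      have hone := squares_trivial hN (by rw [hL32, hPcard]) hPL habL hzc (fun w hw => (hMm _).1 hw.2)
        (fun r hr => by
          rcases hP4 r hr with h | h
          · rcases (hMm r).1 h with rfl | rfl <;> simp [hz2]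
          · obtain ⟨m, hm, rfl⟩ : ∃ m ∈ M, r = p * m := ⟨p⁻¹ * r, h, by group⟩
            rw [show p * m * (p * m) = p * (m * p) * m by group, ← hMc m hm p,
              show p * (p * m) * m = p * p * (m * m) by group, hp1, one_mul]
            rcases (hMm m).1 hm with rfl | rfl <;> simp [hz2])
      have hle : P ≤ pairSub p hp1 := by
        rw [hP, sqSub, Subgroup.closure_le]
        rintro _ ⟨w, hw, rfl⟩
        rcases hgen w hw with h | h
        · exact Or.inl (hone w h)
        · refine Or.inr ?_
          calc w * w = (x * (x⁻¹ * w)) * (x * (x⁻¹ * w)) := by group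
            _ = x * ((x⁻¹ * w) * x) * (x⁻¹ * w) := by group
            _ = x * x * ((x⁻¹ * w) * (x⁻¹ * w)) := by rw [← hcx _ h]; group
            _ = p := by rw [hone _ h, mul_one]
      rcases hle hzQ with e | e
      · exact hz1 e
      · exact hpM (e ▸ (hMm z).2 (Or.inr rfl))
    -- `p` is central
    have hpc : ∀ g : X, g * p * g⁻¹ = p := fun g => by
      have h := C.base.trivial_of_chain (N := P) (L := M) (R := (⊥ : Subgroup X)) hMS bot_le
        (fun w hw => by rw [Subgroup.mem_bot]; rcases (hMm w).1 hw with rfl | rfl <;> simp [hz2])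
        (fun q hq w hw => by
          rw [Subgroup.mem_bot, commutatorElement_eq_one_iff_mul_comm]; exact (hPc w hw q hq).symm)
        (C.base.trivial_of_small hMS (by rw [hPcard, hM2]; norm_num) (fun q hq w hw =>
          hcommM q hq w (sqSub_le Q hw)))
        (fun g w hw => by rw [Subgroup.mem_bot, commutatorElement_eq_one_iff_mul_comm]; exact hMc w hw g)
        g p hpP
      rw [Subgroup.mem_bot, commutatorElement_eq_one_iff_mul_comm] at h
      rw [h, mul_inv_cancel_right]
    -- the involutions
    let O : Subgroup X :=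
      { carrier := {w | w ∈ Q ∧ w * w = 1}
        one_mem' := ⟨one_mem Q, one_mul 1⟩
        mul_mem' := fun {u w} hu hw => ⟨mul_mem hu.1 hw.1, by
          calc u * w * (u * w) = u * (w * u) * w := by group
            _ = u * (u * w) * w := by rw [hab w hw.1 u hu.1]
            _ = (u * u) * (w * w) := by group
            _ = 1 := by rw [hu.2, hw.2, one_mul]⟩
        inv_mem' := fun {u} hu => ⟨inv_mem hu.1, by rw [← _root_.mul_inv_rev, hu.2, inv_one]⟩ }
    haveI : O.Normal := ⟨fun w hw g => ⟨Subgroup.Normal.conj_mem inferInstance w hw.1 g, by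
      rw [show g * w * g⁻¹ * (g * w * g⁻¹) = g * (w * w) * g⁻¹ by group, hw.2, mul_one, mul_inv_cancel]⟩⟩
    have hMO : M ≤ O := fun w hw => ⟨hMQ hw, by rcases (hMm w).1 hw with rfl | rfl <;> simp [hz2]⟩
    have hO16 : Nat.card O = 16 := by
      let s : Q →* X :=
        { toFun := fun w => (w : X) * w
          map_one' := one_mul 1
          map_mul' := fun u w => by
            calc (u : X) * w * (u * w) = u * (w * u) * w := by group
              _ = u * (u * w) * w := by rw [hab w w.2 u u.2]
              _ = (u * u) * ((w : X) * w) := by group }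
      have hrange : s.range = P := le_antisymm
        (by rintro _ ⟨w, rfl⟩; exact sq_mem_sqSub w.2)
        (by
          rw [hP, sqSub, Subgroup.closure_le]
          rintro _ ⟨w, hw, rfl⟩
          exact ⟨⟨w, hw⟩, rfl⟩)
      have h1 := s.ker.card_mul_index
      rw [Subgroup.index_ker, hrange, hPcard, hcardQ] at h1
      have h2 : Nat.card s.ker = Nat.card O := Nat.card_congr
        { toFun := fun w => ⟨w.1.1, w.1.2, w.2⟩
          invFun := fun w => ⟨⟨w.1, w.2.1⟩, w.2.2⟩
          left_inv := fun w => rfl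
          right_inv := fun w => rfl }
      omega
    have hntO : ¬ ∀ g : X, ∀ w ∈ O, ⁅g, w⁆ ∈ M := fun h => hntL fun g w hw => hMS (by
      rcases (hMm _).1 hw.2 with e | e
      · exact h g w ⟨hw.1, e⟩
      · have hw' : w * p ∈ O := ⟨mul_mem hw.1 (sqSub_le Q hpP), by
          calc w * p * (w * p) = w * (p * w) * p := by group
            _ = w * (w * p) * p := by rw [hPc p hpP w hw.1]
            _ = (w * w) * (p * p) := by group
            _ = 1 := by rw [e, hp2, hz2]⟩
        have e' : ⁅g, w⁆ = ⁅g, w * p⁆ := by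
          simp only [commutatorElement_def, _root_.mul_inv_rev]
          calc g * w * g⁻¹ * w⁻¹ = g * w * g⁻¹ * (p * p⁻¹) * w⁻¹ := by group
            _ = g * w * g⁻¹ * ((g * p * g⁻¹) * p⁻¹) * w⁻¹ := by rw [hpc g]
            _ = _ := by group
        rw [e']; exact h g _ hw')
    obtain ⟨θ', ρ', hO⟩ := C.base.exists_natural (N := O) (R := M) hMO (fun w hw => by
      rw [hw.2]; exact one_mem M) (by rw [hO16, hM2]) (fun q hq w hw => hcommM q hq w hw.1) hntO
    obtain ⟨a, y, ha, hy, hy3, ha2, habc⟩ := hO.exists_pair C.two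
    exact no_cyclicEight ⟨hab, hy3, ha2, habc⟩ C.rank x p hx hp.symm (by rw [hp2]; exact hz1)
      (by rw [hp2, hz2]) (hpc a) (hpc y)
      (fun w hw => by
        rcases hval w hw with h | h
        · rcases (hMm _).1 h with e | e
          · exact Or.inl e
          · exact Or.inr (Or.inl (by rw [e, hp2]))
        · rcases (hMm _).1 h with e | e
          · exact Or.inr (Or.inr (Or.inl (inv_mul_eq_one.1 e).symm))
          · exact Or.inr (Or.inr (Or.inr (by rw [hp2, ← e, mul_inv_cancel_left]))))
      θ' (fun u hu w hw hu2 hw2 => hO.mul u ⟨hu, hu2⟩ w ⟨hw, hw2⟩)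
      (fun w hw hw2 => by rw [hO.ker w ⟨hw, hw2⟩, hp2]; rfl)
      (fun t => by obtain ⟨w, hw, e⟩ := hO.surj t; exact ⟨w, hw.1, hw.2, e⟩)
      (fun w hw hw2 => (hO.conj_low ha hy ⟨hw, hw2⟩).1) (fun w hw hw2 => (hO.conj_low ha hy ⟨hw, hw2⟩).2)

end CfsgLib.RankFourLinear
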